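import Cfsg.Prelude.Def_PLocal
import Cfsg.Agent.Solvable.Basics
import Cfsg.Agent.RootSubgroups.SL2Pair
import Cfsg.Agent.Classical.PSLTwo

/-!
Pushing up over a quotient `PSL₂(q)`: the facts about the quotient that the arguments use.
-/

set_option autoImplicit false
set_option linter.unusedSectionVars false

namespace CfsgLib.PushL2

open Subgroup
open scoped Pointwise

section General

variable {G : Type*} [Group G] [Finite G] {p : ℕ} [Fact p.Prime]

/-- A Sylow subgroup meets a normal subgroup in a Sylow subgroup of it. -/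
theorem exists_sylow_inf (N : Subgroup G) [N.Normal] (S : Sylow p G) :
    ∃ P : Sylow p N, (P : Subgroup N) = (S : Subgroup G).subgroupOf N := by
  have h1 : N.relIndex ((S : Subgroup G) ⊔ N) = N.relIndex (S : Subgroup G) := relIndex_sup_right _ _
  have h2 := relIndex_mul_relIndex ((S : Subgroup G) ⊓ N) N ((S : Subgroup G) ⊔ N) inf_le_right
    le_sup_right
  have h3 := relIndex_mul_relIndex ((S : Subgroup G) ⊓ N) (S : Subgroup G) ((S : Subgroup G) ⊔ N)
    inf_le_left le_sup_left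
  rw [← h3, inf_relIndex_right, inf_relIndex_left, h1, mul_comm] at h2
  have h4 : (S : Subgroup G).relIndex N = (S : Subgroup G).relIndex ((S : Subgroup G) ⊔ N) :=
    Nat.eq_of_mul_eq_mul_left (Nat.pos_of_ne_zero index_ne_zero_of_finite) h2
  have h5 : ¬ p ∣ ((S : Subgroup G).subgroupOf N).index := fun h =>
    S.not_dvd_index (h.trans ((dvd_of_eq h4).trans (relIndex_dvd_index_of_le le_sup_left)))
  exact ⟨(S.isPGroup'.comap_subtype (K := N)).toSylow h5, rfl⟩

theorem le_of_unique {S M : Subgroup G} (huniq : ∃! M : Subgroup G, IsCoatom M ∧ S ≤ M)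
    (hM : IsCoatom M ∧ S ≤ M) {X : Subgroup G} (hSX : S ≤ X) (hX : X ≠ ⊤) : X ≤ M := by
  obtain ⟨M', hM', hXM⟩ := (eq_top_or_exists_le_coatom X).resolve_left hX
  rwa [huniq.unique ⟨hM', hSX.trans hXM⟩ hM] at hXM

/-- Frattini against a unique maximal overgroup of a Sylow subgroup. -/
theorem sup_eq_top_or_inf_normal (S : Sylow p G)
    (huniq : ∃! M : Subgroup G, IsCoatom M ∧ (S : Subgroup G) ≤ M) (N : Subgroup G) [N.Normal] :
    N ⊔ S = ⊤ ∨ ((S : Subgroup G) ⊓ N).Normal := by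
  refine or_iff_not_imp_left.2 fun hNS => ?_
  obtain ⟨M, hM, -⟩ := id huniq
  obtain ⟨P, hP⟩ := exists_sylow_inf N S
  have hfr := P.normalizer_sup_eq_top
  rw [hP, subgroupOf_map_subtype] at hfr
  rw [← normalizer_eq_top_iff]
  by_contra hne
  refine hM.1.1 (top_le_iff.1 (hfr ▸ sup_le (le_of_unique huniq hM (fun s (hs : s ∈ (S : Subgroup G)) => ?_) hne)
    (le_sup_left.trans (le_of_unique huniq hM le_sup_right hNS))))
  refine mem_normalizer_iff.2 fun x => ⟨fun hx => ?_, fun hx => ?_⟩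
  · exact ⟨(S : Subgroup G).mul_mem ((S : Subgroup G).mul_mem hs hx.1) ((S : Subgroup G).inv_mem hs), Normal.conj_mem inferInstance _ hx.2 s⟩
  · have h1 := (S : Subgroup G).mul_mem ((S : Subgroup G).mul_mem ((S : Subgroup G).inv_mem hs) hx.1) hs
    have h2 := Normal.conj_mem inferInstance _ hx.2 s⁻¹
    rw [inv_inv] at h2
    rw [show s⁻¹ * (s * x * s⁻¹) * s = x by group] at h1 h2
    exact ⟨h1, h2⟩

theorem le_pCore_of_normal {N : Subgroup G} (hN : N.Normal) (hp : IsPGroup p N) :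
    N ≤ Cfsg.pCore p G :=
  le_sSup ⟨hN, hp⟩

end General

/-- What is used about `G` and `S` when `G/K ≅ PSL₂(q)`, `S` lies in one maximal subgroup and
`O_p(G)` contains its centraliser. -/
structure Core {G : Type*} [Group G] (p : ℕ) [Fact p.Prime] (S : Sylow p G) : Prop where
  cQ : centralizer (Cfsg.pCore p G : Set G) ≤ Cfsg.pCore p G
  isP : IsPGroup p (Cfsg.pCore p G)
  le_S : Cfsg.pCore p G ≤ S
  ne : ¬ (S : Subgroup G) ≤ Cfsg.pCore p G
  dich : ∀ N : Subgroup G, N.Normal → N ⊔ S = ⊤ ∨ ((S : Subgroup G) ⊓ N).Normal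
  irr : ∀ B : Subgroup G, Cfsg.pCore p G ≤ B → B ≤ S →
    (∀ g ∈ normalizer ((S : Subgroup G) : Set G), ∀ b ∈ B, g * b * g⁻¹ ∈ B) →
    B = Cfsg.pCore p G ∨ B = S
  comm : ∀ s ∈ (S : Subgroup G), ∀ t ∈ (S : Subgroup G), s * t * s⁻¹ * t⁻¹ ∈ Cfsg.pCore p G
  opp : ∃ g : G, ∀ X : Subgroup G, (∀ s ∈ (S : Subgroup G), g * s * g⁻¹ ∈ X) →
    (∃ s ∈ (S : Subgroup G), s ∉ Cfsg.pCore p G ∧ s ∈ X) → X = ⊤

section Quotient

open Matrix
open CfsgLib.SL2Pair (up low up_mul up_inv up_zero up_coe low_coe)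

variable {F : Type*} [Field F]

local notation "P2" => Matrix.ProjectiveSpecialLinearGroup (Fin 2) F

/-- The image of `(1 x; 0 1)`. -/
def uh : Multiplicative F →* P2 where
  toFun x := QuotientGroup.mk (up x.toAdd)
  map_one' := by simp [up_zero]
  map_mul' x y := by rw [← QuotientGroup.mk_mul, up_mul, toAdd_mul]

/-- The image of `(1 0; x 1)`. -/
def lh (x : F) : P2 := QuotientGroup.mk (low x)

theorem eq_zero_of_uh_eq_lh {x c : F} (h : uh (Multiplicative.ofAdd x) = lh c) : x = 0 := by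
  have h1 : (up x)⁻¹ * low c ∈ Subgroup.center (Matrix.SpecialLinearGroup (Fin 2) F) :=
    QuotientGroup.eq.1 h
  obtain ⟨r, -, hr⟩ := Matrix.SpecialLinearGroup.mem_center_iff.1 h1
  have := congrFun (congrFun hr 0) 1
  simpa [up_inv, up_coe, low_coe, Matrix.mul_apply, Fin.sum_univ_two] using this.symm

theorem lh_zero : lh (0 : F) = 1 := by
  simp [lh, CfsgLib.SL2Pair.low_zero]

theorem uh_injective : Function.Injective (uh (F := F)) := by
  refine (injective_iff_map_eq_one _).2 fun x hx => ?_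
  have := eq_zero_of_uh_eq_lh (x := x.toAdd) (c := 0) (by rw [lh_zero]; exact hx)
  exact Multiplicative.toAdd.injective this

/-- The torus element acting on the root group by `x ↦ a² x`. -/
theorem exists_torus (a : F) (ha : a ≠ 0) :
    ∃ y : P2, ∀ x : F, y * uh (Multiplicative.ofAdd x) * y⁻¹ =
      uh (Multiplicative.ofAdd (a ^ 2 * x)) := by
  let d : Matrix.SpecialLinearGroup (Fin 2) F :=
    ⟨!![a, 0; 0, a⁻¹], by simp [Matrix.det_fin_two, ha]⟩
  refine ⟨QuotientGroup.mk d, fun x => ?_⟩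
  rw [mul_inv_eq_iff_eq_mul]
  refine congrArg (QuotientGroup.mk (s := Subgroup.center (Matrix.SpecialLinearGroup (Fin 2) F)))
    (?_ : d * up x = up (a ^ 2 * x) * d)
  have hd : (d : Matrix (Fin 2) (Fin 2) F) = !![a, 0; 0, a⁻¹] := rfl
  refine Subtype.ext ?_
  rw [Matrix.SpecialLinearGroup.coe_mul, Matrix.SpecialLinearGroup.coe_mul, hd, up_coe, up_coe]
  ext i j
  fin_cases i <;> fin_cases j <;>
    simp [Matrix.mul_apply, Fin.sum_univ_two] <;> field_simp

/-- An element exchanging the two root groups. -/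
theorem exists_swap :
    ∃ y : P2, ∀ c : F, y * uh (Multiplicative.ofAdd c) * y⁻¹ = lh (-c) := by
  refine ⟨(QuotientGroup.mk (low 1 * (up (1 : F)⁻¹)⁻¹))⁻¹, fun c => ?_⟩
  have h := congrArg (QuotientGroup.mk (s := Subgroup.center (Matrix.SpecialLinearGroup (Fin 2) F)))
    (CfsgLib.SL2Pair.swap_low (one_ne_zero (α := F)) (-c))
  simp only [neg_neg, one_pow, div_one] at h
  change QuotientGroup.mk _ * QuotientGroup.mk (up c) * _ = QuotientGroup.mk (low (-c))
  rw [← h, QuotientGroup.mk_mul, QuotientGroup.mk_mul, QuotientGroup.mk_inv]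
  group

theorem eq_top_of_uh_lh (X : Subgroup P2) {x : F} (hx : x ≠ 0)
    (hu : uh (Multiplicative.ofAdd x) ∈ X) (hl : ∀ c, lh c ∈ X) : X = ⊤ := by
  let X' := X.comap (QuotientGroup.mk' (Subgroup.center (Matrix.SpecialLinearGroup (Fin 2) F)))
  have hl' : ∀ c, low c ∈ X' := hl
  have ht : -x⁻¹ ≠ 0 := neg_ne_zero.2 (inv_ne_zero hx)
  have hw : low (-x⁻¹) * (up (-x⁻¹)⁻¹)⁻¹ ∈ X' := mul_mem (hl' _) (by
    rw [up_inv, inv_neg, inv_inv, neg_neg]; exact hu)
  have hu' : ∀ z, up z ∈ X' := fun z => by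
    have h := CfsgLib.SL2Pair.swap_low ht (-z * (-x⁻¹) ^ 2)
    rw [neg_mul, neg_neg, mul_div_cancel_right₀ _ (pow_ne_zero _ ht)] at h
    rw [← h]
    exact mul_mem (mul_mem hw (hl' _)) (inv_mem hw)
  have htop : X' = ⊤ := by
    rw [eq_top_iff, ← CfsgLib.SL2Pair.sup_eq_top (k := F)]
    refine sup_le (fun g hg => ?_) (fun g hg => ?_)
    · obtain ⟨c, rfl⟩ := CfsgLib.SL2Pair.mem_lower.1 hg; exact hl' c
    · obtain ⟨c, rfl⟩ := CfsgLib.SL2Pair.mem_upper.1 hg; exact hu' c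
  refine eq_top_iff.2 fun y _ => ?_
  obtain ⟨g, rfl⟩ := QuotientGroup.mk_surjective y
  exact (show g ∈ X' by rw [htop]; exact mem_top g)

theorem exists_sq_sub_sq [Finite F] (c : F) :
    (∃ s, c = s ^ 2) ∨ ∃ s t, c = s ^ 2 - t ^ 2 := by
  by_cases h2 : (2 : F) = 0
  · obtain ⟨r, hr⟩ := FiniteField.isSquare_of_char_two
      (CharP.ringChar_of_prime_eq_zero Nat.prime_two h2) c
    exact Or.inl ⟨r, hr.trans (sq r).symm⟩
  · refine Or.inr ⟨(c + 1) / 2, (c - 1) / 2, ?_⟩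
    field_simp
    ring

end Quotient

section Derive

variable {G : Type*} [Group G] [Finite G] {p : ℕ} [Fact p.Prime] {F : Type*} [Field F] [Finite F]

local notation "P2" => Matrix.ProjectiveSpecialLinearGroup (Fin 2) F

theorem card_range_uh : Nat.card (uh (F := F)).range = Nat.card F := by
  rw [← Nat.card_congr (MonoidHom.ofInjective uh_injective).toEquiv]
  exact Nat.card_congr Multiplicative.toAdd

theorem exists_hom (S : Sylow p G) (n : ℕ) (hn : 1 ≤ n) (hF : Nat.card F = p ^ n)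
    (K : Subgroup G) [K.Normal] (e : G ⧸ K ≃* P2) :
    ∃ π : G →* P2, Function.Surjective π ∧ π.ker = K ∧
      (S : Subgroup G).map π = (uh (F := F)).range := by
  let π₀ : G →* P2 := e.toMonoidHom.comp (QuotientGroup.mk' K)
  have hs : Function.Surjective π₀ := e.surjective.comp (QuotientGroup.mk'_surjective K)
  haveI : Finite P2 := Finite.of_surjective _ hs
  have hU : IsPGroup p (uh (F := F)).range := IsPGroup.of_card (card_range_uh.trans hF)
  have hp := (Fact.out : p.Prime)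
  have hq : p ∣ Nat.card F := hF ▸ dvd_pow_self p (by omega)
  have hidx : ¬ p ∣ (uh (F := F)).range.index := by
    intro h
    have h1 := (uh (F := F)).range.card_mul_index
    have h2 := Finite.one_lt_card (α := F)
    have h3 := CfsgLib.Linear.PSLTwo.mul_card (F := F)
    rw [card_range_uh] at h1
    rw [← h1, mul_left_comm] at h3
    have h4 := Nat.eq_of_mul_eq_mul_left (by omega) h3
    have h5 : p ∣ Nat.card F ^ 2 - 1 := h4 ▸ Dvd.dvd.mul_left h _
    have h6 : p ∣ Nat.card F ^ 2 := dvd_pow hq two_ne_zero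
    have h7 := Nat.dvd_sub h6 h5
    rw [Nat.sub_sub_self (Nat.one_le_pow _ _ (by omega))] at h7
    exact hp.not_dvd_one h7
  obtain ⟨y, hy⟩ := MulAction.exists_smul_eq P2 (S.mapSurjective hs) (hU.toSylow hidx)
  refine ⟨(MulAut.conj y).toMonoidHom.comp π₀, (MulAut.conj y).surjective.comp hs, ?_, ?_⟩
  · ext g
    simp [π₀]
  · rw [← Subgroup.map_map]
    exact congrArg (fun P : Sylow p P2 => (P : Subgroup P2)) hy

theorem core (S : Sylow p G) (hE₁ : centralizer (Cfsg.pCore p G : Set G) ≤ Cfsg.pCore p G)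
    (hE₂ : ∃! M : Subgroup G, IsCoatom M ∧ (S : Subgroup G) ≤ M) (K : Subgroup G) [K.Normal]
    (n : ℕ) (hn : 1 ≤ n) (hF : Nat.card F = p ^ n) (e : G ⧸ K ≃* P2) : Core p S := by
  obtain ⟨π, hπ, hker, hmap⟩ := exists_hom S n hn hF K e
  have hisP : IsPGroup p (Cfsg.pCore p G) := CfsgLib.Solvable.isPGroup_pCore p
  haveI hQn : (Cfsg.pCore p G).Normal := CfsgLib.Solvable.pCore_normal p
  have hQS : Cfsg.pCore p G ≤ S := hisP.le_sylow_of_normal S
  have hS : ∀ s ∈ (S : Subgroup G), ∃ x, π s = uh (Multiplicative.ofAdd x) := fun s hs => by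
    have : π s ∈ (S : Subgroup G).map π := mem_map_of_mem π hs
    rw [hmap] at this
    obtain ⟨x, hx⟩ := this
    exact ⟨x.toAdd, hx.symm⟩
  have hS' : ∀ x, ∃ s ∈ (S : Subgroup G), π s = uh (Multiplicative.ofAdd x) := fun x => by
    have : uh (Multiplicative.ofAdd x) ∈ (S : Subgroup G).map π := by rw [hmap]; exact ⟨_, rfl⟩
    obtain ⟨s, hs, he⟩ := this
    exact ⟨s, hs, he⟩
  have hKS : K ⊔ S ≠ ⊤ := by
    intro h
    have h' := congrArg (Subgroup.map π) h
    rw [Subgroup.map_sup, hmap, map_top_of_surjective π hπ, ← hker,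
      (Subgroup.map_eq_bot_iff _).2 le_rfl, bot_sup_eq] at h'
    obtain ⟨x, hx⟩ : lh (1 : F) ∈ (uh (F := F)).range := h' ▸ mem_top _
    have h0 : x = 1 := Multiplicative.toAdd.injective (eq_zero_of_uh_eq_lh (x := x.toAdd) hx)
    rw [h0, map_one, ← lh_zero] at hx
    have h1 : (CfsgLib.SL2Pair.low (1 : F))⁻¹ * CfsgLib.SL2Pair.low 0 ∈ Subgroup.center (Matrix.SpecialLinearGroup (Fin 2) F) :=
      QuotientGroup.eq.1 hx.symm
    obtain ⟨r, -, hr⟩ := Matrix.SpecialLinearGroup.mem_center_iff.1 h1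
    have := congrFun (congrFun hr 1) 0
    simp [CfsgLib.SL2Pair.low_inv, CfsgLib.SL2Pair.low_coe, Matrix.mul_apply,
      Fin.sum_univ_two] at this
  have hne0 : ∃ g : G, ∀ x, ∃ c, π g * uh (Multiplicative.ofAdd x) * (π g)⁻¹ = lh c := by
    obtain ⟨y, hy⟩ := exists_swap (F := F)
    obtain ⟨g, rfl⟩ := hπ y
    exact ⟨g, fun x => ⟨-x, hy x⟩⟩
  have hQK : Cfsg.pCore p G ≤ K := by
    intro a ha
    obtain ⟨g, hg⟩ := hne0
    obtain ⟨x, hx⟩ := hS a (hQS ha)
    obtain ⟨x', hx'⟩ := hS _ (hQS (hQn.conj_mem a ha g⁻¹))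
    rw [inv_inv, map_mul, map_mul, map_inv] at hx'
    obtain ⟨c, hc⟩ := hg x'
    rw [← hx'] at hc
    rw [← hker, MonoidHom.mem_ker, hx]
    have h0 : x = 0 := eq_zero_of_uh_eq_lh (c := c) (by rw [← hx, ← hc]; group)
    rw [h0, ofAdd_zero, map_one]
  have hSK : ∀ s ∈ (S : Subgroup G), π s = 1 → s ∈ Cfsg.pCore p G := fun s hs h1 =>
    le_pCore_of_normal ((sup_eq_top_or_inf_normal S hE₂ K).resolve_left hKS)
      (S.isPGroup'.to_le inf_le_left) ⟨hs, hker ▸ MonoidHom.mem_ker.2 h1⟩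
  have hQπ : ∀ a ∈ Cfsg.pCore p G, π a = 1 := fun a ha =>
    MonoidHom.mem_ker.1 (hker.symm ▸ hQK ha)
  refine ⟨hE₁, hisP, hQS, ?_, fun N hN => ?_, ?_, ?_, ?_⟩
  · intro h
    obtain ⟨s, hs, he⟩ := hS' 1
    rw [hQπ s (h hs), ← map_one (uh (F := F))] at he
    exact one_ne_zero (congrArg Multiplicative.toAdd (uh_injective he)).symm
  · exact sup_eq_top_or_inf_normal S hE₂ N
  · intro B hQB hBS hinv
    by_cases hB : B ≤ Cfsg.pCore p G
    · exact Or.inl (le_antisymm hB hQB)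
    refine Or.inr (le_antisymm hBS fun s hs => ?_)
    let A : AddSubgroup F :=
      { carrier := {x | ∃ b ∈ B, π b = uh (Multiplicative.ofAdd x)}
        zero_mem' := ⟨1, one_mem B, by rw [map_one, ofAdd_zero, map_one]⟩
        add_mem' := fun {x y} ⟨b, hb, hbx⟩ ⟨b', hb', hby⟩ =>
          ⟨b * b', mul_mem hb hb', by rw [map_mul, hbx, hby, ← map_mul, ← ofAdd_add]⟩
        neg_mem' := fun {x} ⟨b, hb, hbx⟩ =>
          ⟨b⁻¹, inv_mem hb, by rw [map_inv, hbx, ← map_inv, ← ofAdd_neg]⟩ }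
    have htor : ∀ a : F, a ≠ 0 → ∀ x ∈ A, a ^ 2 * x ∈ A := by
      intro a ha x hx
      obtain ⟨y, hy⟩ := exists_torus a ha
      obtain ⟨g, rfl⟩ := hπ y
      let H : Subgroup G := (uh (F := F)).range.comap π
      have hSH : (S : Subgroup G) ≤ H := by
        intro t ht; obtain ⟨z, hz⟩ := hS t ht; exact ⟨_, hz.symm⟩
      have hgSH : ((MulAut.conj g • S : Sylow p G) : Subgroup G) ≤ H := by
        rintro _ ⟨t, ht, rfl⟩
        obtain ⟨z, hz⟩ := hS t ht
        refine ⟨Multiplicative.ofAdd (a ^ 2 * z), ?_⟩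
        rw [← hy z, ← hz]
        simp
      obtain ⟨h, hh⟩ :=
        MulAction.exists_smul_eq H ((MulAut.conj g • S : Sylow p G).subtype hgSH) (S.subtype hSH)
      obtain ⟨z, hz⟩ := h.2
      have hnorm : (h : G) * g ∈ normalizer ((S : Subgroup G) : Set G) := by
        refine mem_normalizer_fintype ?_
        intro t ht
        have hm : (⟨g * t * g⁻¹, hgSH ⟨t, ht, rfl⟩⟩ : H) ∈
            (((MulAut.conj g • S : Sylow p G).subtype hgSH : Sylow p H) : Subgroup H) :=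
          ⟨t, ht, rfl⟩
        have hm' : h * ⟨g * t * g⁻¹, hgSH ⟨t, ht, rfl⟩⟩ * h⁻¹ ∈
            ((S.subtype hSH : Sylow p H) : Subgroup H) := by
          rw [← hh]; exact ⟨_, hm, rfl⟩
        have hm'' : (h : G) * (g * t * g⁻¹) * (h : G)⁻¹ ∈ (S : Subgroup G) := hm'
        show _ ∈ (S : Subgroup G)
        simpa [mul_assoc] using hm''
      obtain ⟨b, hb, hbx⟩ := hx
      refine ⟨_, hinv _ hnorm b hb, ?_⟩
      rw [map_mul, map_mul, map_inv, map_mul, hbx, ← hz, mul_inv_rev]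
      rw [show ∀ u v w : P2, u * v * w * (v⁻¹ * u⁻¹) = u * (v * w * v⁻¹) * u⁻¹ from
        fun u v w => by group, hy, ← map_mul, mul_comm z, map_mul, mul_inv_cancel_right]
    have hsq : ∀ a : F, ∀ x ∈ A, a ^ 2 * x ∈ A := fun a x hx => by
      rcases eq_or_ne a 0 with rfl | ha
      · simp [A.zero_mem]
      · exact htor a ha x hx
    obtain ⟨b, hb, hbQ⟩ := SetLike.not_le_iff_exists.1 hB
    obtain ⟨x, hx⟩ := hS b (hBS hb)
    have hx0 : x ≠ 0 := by
      rintro rfl
      exact hbQ (hSK b (hBS hb) (by rw [hx, ofAdd_zero, map_one]))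
    obtain ⟨z, hz⟩ := hS s hs
    have hzA : z ∈ A := by
      have hxA : x ∈ A := ⟨b, hb, hx⟩
      rw [← div_mul_cancel₀ z hx0]
      rcases exists_sq_sub_sq (z / x) with ⟨r, hr⟩ | ⟨r, t, hr⟩
      · rw [hr]; exact hsq r x hxA
      · rw [hr, sub_mul]; exact A.sub_mem (hsq r x hxA) (hsq t x hxA)
    obtain ⟨b', hb', he⟩ := hzA
    have := hSK (b'⁻¹ * s) (mul_mem (inv_mem (hBS hb')) hs)
      (by rw [map_mul, map_inv, he, hz, inv_mul_cancel])
    simpa using mul_mem hb' (hQB this)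
  · intro s hs t ht
    obtain ⟨x, hx⟩ := hS s hs
    obtain ⟨z, hz⟩ := hS t ht
    refine hSK _ (mul_mem (mul_mem (mul_mem hs ht) (inv_mem hs)) (inv_mem ht)) ?_
    rw [map_mul, map_mul, map_mul, map_inv, map_inv, hx, hz]
    rw [show uh (Multiplicative.ofAdd x) * uh (Multiplicative.ofAdd z) =
      uh (Multiplicative.ofAdd z) * uh (Multiplicative.ofAdd x) from
        ((map_mul uh _ _).symm.trans (congrArg uh (mul_comm _ _))).trans (map_mul uh _ _)]
    group
  · obtain ⟨y, hy⟩ := exists_swap (F := F)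
    obtain ⟨g, rfl⟩ := hπ y
    refine ⟨g, fun X hX ⟨s, hs, hsQ, hsX⟩ => ?_⟩
    have hXK : K ⊔ X = ⊤ := by
      obtain ⟨x, hx⟩ := hS s hs
      have hx0 : x ≠ 0 := by
        rintro rfl
        exact hsQ (hSK s hs (by rw [hx, ofAdd_zero, map_one]))
      have htop : X.map π = ⊤ := by
        refine eq_top_of_uh_lh _ hx0 (hx ▸ mem_map_of_mem π hsX) fun c => ?_
        obtain ⟨t, ht, he⟩ := hS' (-c)
        refine ⟨_, hX t ht, ?_⟩
        rw [map_mul, map_mul, map_inv, he, hy, neg_neg]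
      rw [← hker, sup_comm, ← Subgroup.comap_map_eq, htop, Subgroup.comap_top]
    by_contra hX'
    obtain ⟨M, hM, -⟩ := id hE₂
    let X' : Subgroup G := X.comap (MulAut.conj g).toMonoidHom
    have hne : X' ≠ ⊤ := by
      intro h
      refine hX' (eq_top_iff.2 fun a _ => ?_)
      have : (MulAut.conj g).symm a ∈ X' := h ▸ mem_top _
      simpa [X', mul_assoc] using this
    have hXM : X' ≤ M := le_of_unique hE₂ hM (fun t ht => hX t ht) hne
    refine hM.1.1 (eq_top_iff.2 fun a _ => ?_)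
    obtain ⟨k, hk, w, hw, he⟩ := Subgroup.mem_sup_of_normal_left.1
      (show g * a * g⁻¹ ∈ K ⊔ X by rw [hXK]; exact mem_top _)
    have hkM : g⁻¹ * k * g ∈ M :=
      (le_sup_left.trans (le_of_unique hE₂ hM le_sup_right hKS))
        (by simpa using Normal.conj_mem (inferInstance : K.Normal) k hk g⁻¹)
    have hwM : g⁻¹ * w * g ∈ M := hXM (show g * (g⁻¹ * w * g) * g⁻¹ ∈ X by
      rwa [show g * (g⁻¹ * w * g) * g⁻¹ = w by group])
    have : a = (g⁻¹ * k * g) * (g⁻¹ * w * g) := by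
      rw [show (g⁻¹ * k * g) * (g⁻¹ * w * g) = g⁻¹ * (k * w) * g by group, he]; group
    rw [this]
    exact mul_mem hkM hwM

end Derive

end CfsgLib.PushL2
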