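import Cfsg.Agent.PushL2.Lines

/-!
The amalgam argument, run inside the group of permutations of `G`: the automorphisms of `S` are
realised there by conjugation, and a nearest conjugate of `V = Ω₁Z(O_p(G))` not commuting with `V`
is at distance one or two.
-/

set_option autoImplicit false
set_option linter.unusedSectionVars false
set_option linter.style.haveILetI false

namespace CfsgLib.PushL2

open Subgroup

variable {G : Type*} [Group G] [Finite G] {p : ℕ} [Fact p.Prime]

instance z0_normal : (z0 p G).Normal :=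
  ⟨fun z hz g => by rw [z0_central hz, mul_inv_cancel_right]; exact hz⟩

/-- `V/C_V(G)` with the line `C_V(S)`. -/
theorem Std.linesV {S : Sylow p G} {q : ℕ} {M : Subgroup G} (N : Std p S q M) :
    Lines S q M (omega p G) (zs S) (z0 p G) where
  normalU := omega_normal
  normalW := z0_normal
  hWC := z0_le_zs
  hCU := zs_le_V
  comm a ha b hb := by
    rw [omega_commute ha (omega_le hb)]
    simp
  pow a ha := by rw [ha.2]; exact one_mem _
  moveC s hs c hc := by
    rw [show s * c = c * s from (mem_fix.1 hc).2 s hs]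
    simp
  moveU s hs v hv := N.quad v hv s hs
  triv a ha v hv := by
    rw [← omega_commute hv ha]
    simp
  sup h hh := (N.sup_conj h hh).ge
  cardU := N.card_V
  cardC := N.card_zs

namespace Amb

/-- Left multiplications. -/
def lft : G →* Equiv.Perm G := MulAction.toPermHom G G

theorem lft_apply (g x : G) : lft g x = g * x := rfl

theorem lft_injective : Function.Injective (lft (G := G)) := fun a b h => by
  simpa [lft_apply] using Equiv.congr_fun h 1

theorem commute_lft {a b : G} : Commute (lft a) (lft b) ↔ Commute a b :=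
  ⟨fun h => lft_injective (by rw [map_mul, map_mul]; exact h.eq), fun h => h.map lft⟩

theorem cj_mul (a b x : Equiv.Perm G) : (a * b) * x * (a * b)⁻¹ = a * (b * x * b⁻¹) * a⁻¹ := by
  group

theorem cj_lft (g x : G) : lft g * lft x * (lft g)⁻¹ = lft (g * x * g⁻¹) := by
  rw [map_mul, map_mul, map_inv]

section Real

variable (S : Subgroup G)

/-- The representative of the right coset of `g`, inverted. -/
noncomputable def rep (g : G) : G := (QuotientGroup.mk g⁻¹ : G ⧸ S).out

theorem mul_rep (g : G) : g * rep S g ∈ S := by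
  have h := QuotientGroup.eq.1 (QuotientGroup.out_eq' (QuotientGroup.mk g⁻¹ : G ⧸ S))
  simpa [rep, mul_inv_rev] using S.inv_mem h

theorem rep_mul {s : G} (hs : s ∈ S) (g : G) : rep S (s * g) = rep S g := by
  unfold rep
  congr 1
  rw [mul_inv_rev]
  exact QuotientGroup.eq.2 (by simpa using hs)

variable (α : ↥S ≃* ↥S)

/-- An automorphism of `S` on right cosets. -/
noncomputable def twist (g : G) : G := ap α (g * rep S g) * (rep S g)⁻¹

theorem rep_twist (g : G) : rep S (twist S α g) = rep S g := by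
  have e : twist S α g = (ap α (g * rep S g) * (g * rep S g)⁻¹) * g := by
    unfold twist; group
  rw [e, rep_mul S (mul_mem (ap_mem α (mul_rep S g)) (inv_mem (mul_rep S g)))]

theorem twist_twist (β : ↥S ≃* ↥S) (g : G) :
    twist S β (twist S α g) = ap β (ap α (g * rep S g)) * (rep S g)⁻¹ := by
  show ap β (twist S α g * rep S (twist S α g)) * (rep S (twist S α g))⁻¹ = _
  rw [rep_twist]
  unfold twist
  rw [inv_mul_cancel_right]

/-- An automorphism of `S` as a permutation of `G` normalising the left multiplications by `S`. -/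
noncomputable def real : Equiv.Perm G where
  toFun := twist S α
  invFun := twist S α.symm
  left_inv g := by rw [twist_twist, ap_symm α (mul_rep S g), mul_inv_cancel_right]
  right_inv g := by rw [twist_twist, symm_ap α (mul_rep S g), mul_inv_cancel_right]

theorem real_symm : real S α.symm = (real S α)⁻¹ := Equiv.ext fun _ => rfl

theorem real_refl : real S (MulEquiv.refl ↥S) = 1 := Equiv.ext fun g => by
  show twist S _ g = g
  rw [twist, ap_eq _ (mul_rep S g)]
  simp

theorem real_lft {s : G} (hs : s ∈ S) : real S α * lft s * (real S α)⁻¹ = lft (ap α s) := by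
  rw [mul_inv_eq_iff_eq_mul]
  refine Equiv.ext fun g => ?_
  show twist S α (s * g) = ap α s * twist S α g
  rw [twist, rep_mul S hs, mul_assoc s, ap_mul α hs (mul_rep S g), mul_assoc]
  rfl

end Real

variable (S : Sylow p G)

/-- Products of at most `k` twists interlaced with left multiplications. -/
def Reach : ℕ → Set (Equiv.Perm G)
  | 0 => Set.range lft
  | k + 1 => {γ | ∃ δ ∈ Reach k, ∃ (α : ↥(S : Subgroup G) ≃* ↥(S : Subgroup G)) (g : G),
      γ = δ * real (S : Subgroup G) α * lft g}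

theorem lft_mem (g : G) : lft g ∈ Reach S 0 := ⟨g, rfl⟩

variable {S}

theorem mul_lft_mem {k : ℕ} {γ : Equiv.Perm G} (h : γ ∈ Reach S k) (g : G) :
    γ * lft g ∈ Reach S k := by
  cases k with
  | zero =>
    obtain ⟨x, rfl⟩ := h
    exact ⟨x * g, map_mul _ _ _⟩
  | succ k =>
    obtain ⟨δ, hδ, α, x, rfl⟩ := h
    exact ⟨δ, hδ, α, x * g, by rw [mul_assoc, ← map_mul]⟩

theorem step_mem {k : ℕ} {γ : Equiv.Perm G} (h : γ ∈ Reach S k)
    (α : ↥(S : Subgroup G) ≃* ↥(S : Subgroup G)) :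
    γ * real (S : Subgroup G) α ∈ Reach S (k + 1) :=
  ⟨γ, h, α, 1, by simp⟩

theorem mono_succ {k : ℕ} {γ : Equiv.Perm G} (h : γ ∈ Reach S k) : γ ∈ Reach S (k + 1) := by
  have := step_mem h (MulEquiv.refl _)
  rwa [real_refl, mul_one] at this

theorem mono {i k : ℕ} (hik : i ≤ k) {γ : Equiv.Perm G} (h : γ ∈ Reach S i) : γ ∈ Reach S k := by
  induction hik with
  | refl => exact h
  | step _ ih => exact mono_succ ih

theorem mul_mem' {i k : ℕ} {γ δ : Equiv.Perm G} (hγ : γ ∈ Reach S i) (hδ : δ ∈ Reach S k) :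
    γ * δ ∈ Reach S (i + k) := by
  induction k generalizing δ with
  | zero =>
    obtain ⟨g, rfl⟩ := hδ
    exact mul_lft_mem hγ g
  | succ k ih =>
    obtain ⟨δ', hδ', α, g, rfl⟩ := hδ
    exact ⟨γ * δ', ih hδ', α, g, by simp only [mul_assoc]⟩

theorem real_mem (α : ↥(S : Subgroup G) ≃* ↥(S : Subgroup G)) :
    real (S : Subgroup G) α ∈ Reach S 1 := by
  have := step_mem (lft_mem S 1) α
  rwa [map_one, one_mul] at this

theorem inv_mem' {k : ℕ} {γ : Equiv.Perm G} (h : γ ∈ Reach S k) : γ⁻¹ ∈ Reach S k := by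
  induction k generalizing γ with
  | zero =>
    obtain ⟨g, rfl⟩ := h
    exact ⟨g⁻¹, map_inv _ _⟩
  | succ k ih =>
    obtain ⟨δ, hδ, α, g, rfl⟩ := h
    have h1 := mul_mem' (mul_mem' (lft_mem S g⁻¹) (real_mem (S := S) α.symm)) (ih hδ)
    rw [zero_add, add_comm] at h1
    rwa [mul_inv_rev, mul_inv_rev, ← map_inv, ← real_symm, ← mul_assoc]

theorem exists_head {k : ℕ} {γ : Equiv.Perm G} (h : γ ∈ Reach S (k + 1)) :
    ∃ (g : G) (α : ↥(S : Subgroup G) ≃* ↥(S : Subgroup G)), ∃ δ ∈ Reach S k,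
      γ = lft g * real (S : Subgroup G) α * δ := by
  obtain ⟨δ, hδ, α, g, e⟩ := inv_mem' h
  refine ⟨g⁻¹, α.symm, δ⁻¹, inv_mem' hδ, ?_⟩
  rw [real_symm, map_inv, ← inv_inv γ, e]
  group

theorem pow_mem' {γ : Equiv.Perm G} (h : γ ∈ Reach S 1) (n : ℕ) : γ ^ n ∈ Reach S n := by
  induction n with
  | zero => exact ⟨1, map_one _⟩
  | succ n ih => rw [pow_succ]; exact mul_mem' ih h

/-- The conjugate of `V` by `γ` commutes with `V`. -/
def Com (p : ℕ) (γ : Equiv.Perm G) : Prop :=
  ∀ v ∈ omega p G, ∀ w ∈ omega p G, Commute (γ * lft v * γ⁻¹) (lft w)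

/-- The conjugate of `V` by `γ` consists of left multiplications by elements of `H`. -/
def In (p : ℕ) (γ : Equiv.Perm G) (H : Subgroup G) : Prop :=
  ∀ v ∈ omega p G, ∃ y ∈ H, γ * lft v * γ⁻¹ = lft y

theorem com_inv {γ : Equiv.Perm G} (h : Com p γ) : Com p γ⁻¹ := fun v hv w hw => by
  have := (h w hw v hv).symm.map (MulAut.conj γ⁻¹).toMonoidHom
  simpa [mul_assoc] using this

theorem com_lft_mul {γ : Equiv.Perm G} {g : G} : Com p (lft g * γ) ↔ Com p γ := by
  have key : ∀ (g : G) (γ : Equiv.Perm G), Com p γ → Com p (lft g * γ) := fun g γ h v hv w hw => by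
    have := (h v hv _ (omega_normal.conj_mem w hw g⁻¹)).map (MulAut.conj (lft g)).toMonoidHom
    simpa [mul_assoc] using this
  refine ⟨fun h => ?_, key g γ⟩
  have := key g⁻¹ _ h
  rwa [← mul_assoc, ← map_mul, inv_mul_cancel, map_one, one_mul] at this

theorem com_mul_lft {γ : Equiv.Perm G} {g : G} : Com p (γ * lft g) ↔ Com p γ := by
  constructor
  · intro h
    have := com_inv h
    rw [mul_inv_rev, ← map_inv, com_lft_mul] at this
    simpa using com_inv this
  · intro h
    have : Com p (γ * lft g)⁻¹ := by rw [mul_inv_rev, ← map_inv, com_lft_mul]; exact com_inv h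
    simpa using com_inv this

theorem in_real_mul (α : ↥(S : Subgroup G) ≃* ↥(S : Subgroup G)) {δ : Equiv.Perm G}
    (h : In p δ (S : Subgroup G)) : In p (real (S : Subgroup G) α * δ) (S : Subgroup G) := by
  intro v hv
  obtain ⟨x, hx, e⟩ := h v hv
  exact ⟨ap α x, ap_mem α hx, by rw [cj_mul, e, real_lft _ _ hx]⟩

variable {q : ℕ} {M : Subgroup G}

/-- Under commutation at all smaller distances, commuting conjugates lie in `O_p(G)`. -/
theorem in_core (N : NoChar p S q M) :
    ∀ {k : ℕ}, (∀ j < k, ∀ γ ∈ Reach S j, Com p γ) → ∀ γ ∈ Reach S k, Com p γ →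
      In p γ (Cfsg.pCore p G) := by
  intro k
  induction k with
  | zero =>
    rintro - _ ⟨g, rfl⟩ - v hv
    exact ⟨g * v * g⁻¹, omega_le (omega_normal.conj_mem v hv g), cj_lft g v⟩
  | succ k ih =>
    intro hlt γ hγ hcom v hv
    obtain ⟨g, α, δ, hδ, rfl⟩ := exists_head hγ
    have hδQ := ih (fun j hj => hlt j (by omega)) δ hδ (hlt k (by omega) δ hδ)
    obtain ⟨x, hx, hxe⟩ := hδQ v hv
    have hxS : x ∈ (S : Subgroup G) := N.core.le_S hx
    have he : lft g * real (S : Subgroup G) α * δ * lft v * (lft g * real (S : Subgroup G) α * δ)⁻¹ =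
        lft (g * ap α x * g⁻¹) := by
      rw [cj_mul, hxe, cj_mul, real_lft _ _ hxS, cj_lft]
    refine ⟨_, pCore_isNormal.conj_mem _ ?_ g, he⟩
    refine N.commute_conj_mem (ap_mem α hxS) fun w hw => ?_
    have h1 := hcom v hv _ (omega_normal.conj_mem w hw g)
    rw [he, commute_lft] at h1
    have h2 := h1.map (MulAut.conj g⁻¹).toMonoidHom
    simpa [mul_assoc] using h2.eq

theorem exists_outside (N : NoChar p S q M) {γ : Equiv.Perm G} (hbad : ¬ Com p γ)
    (hS : In p γ (S : Subgroup G)) :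
    ∃ v ∈ omega p G, ∃ y ∈ (S : Subgroup G), y ∉ Cfsg.pCore p G ∧ γ * lft v * γ⁻¹ = lft y := by
  by_contra hall
  refine hbad fun v hv w hw => ?_
  obtain ⟨y, hy, e⟩ := hS v hv
  by_cases hyQ : y ∈ Cfsg.pCore p G
  · rw [e, commute_lft]
    exact (omega_commute hw hyQ).symm
  · exact absurd ⟨v, hv, y, hy, hyQ, e⟩ hall

/-- An element of `V` commuting with a noncommuting conjugate inside `S` lies in `C_V(S)`. -/
theorem mem_zs_of (N : NoChar p S q M) {γ : Equiv.Perm G} (hbad : ¬ Com p γ)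
    (hS : In p γ (S : Subgroup G)) {d : G} (hd : d ∈ omega p G)
    (h : ∀ v ∈ omega p G, Commute (γ * lft v * γ⁻¹) (lft d)) : d ∈ zs S := by
  obtain ⟨v, hv, y, hy, hyQ, e⟩ := exists_outside N hbad hS
  exact N.mem_zs_of_commute hy hyQ hd (commute_lft.1 (e ▸ h v hv)).eq

/-- The commutators of `V` with a conjugate inside `S`. -/
theorem comm_mem (N : NoChar p S q M) {γ : Equiv.Perm G} (hS : In p γ (S : Subgroup G)) {v w : G}
    (hv : v ∈ omega p G) (hw : w ∈ omega p G) :
    ∃ z ∈ zs S, lft w * (γ * lft v * γ⁻¹) * (lft w)⁻¹ * (γ * lft v * γ⁻¹)⁻¹ = lft z := by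
  obtain ⟨y, hy, e⟩ := hS v hv
  refine ⟨w * y * w⁻¹ * y⁻¹, ?_, by rw [e]; simp⟩
  have h := (zs S).inv_mem (N.quad w hw y hy)
  rwa [show (y * w * y⁻¹ * w⁻¹)⁻¹ = w * y * w⁻¹ * y⁻¹ by group] at h

/-- A map from `V` into `H` whose fibres modulo a subgroup of index `q` are bounded by `C_V(S)`
covers `H` modulo that subgroup. -/
theorem cover' (N : NoChar p S q M) {H : Subgroup G} (y : ↥(omega p G) → ↥H) (K : Subgroup ↥H)
    (hK : Nat.card H = q * Nat.card K)
    (h : ∀ u v, (y u)⁻¹ * y v ∈ K → (u : G)⁻¹ * v ∈ zs S) (x : ↥H) :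
    ∃ v, (y v)⁻¹ * x ∈ K := by
  let f : ↥(omega p G) → ↥H ⧸ K := fun v => QuotientGroup.mk (y v)
  have hq : Nat.card (↥H ⧸ K) = q := by
    refine Nat.eq_of_mul_eq_mul_right (Nat.card_pos (α := K)) ?_
    rw [← card_eq_card_quotient_mul_card_subgroup, hK]
  have h1 : Nat.card (omega p G) ≤ Nat.card (Set.range f) * Nat.card (zs S) :=
    card_le_of_fibres (omega p G) (zs S) (fun v => (⟨f v, v, rfl⟩ : Set.range f))
      (fun u v huv => h u v (QuotientGroup.eq.1 (congrArg Subtype.val huv :))) (Equiv.refl _)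
  rw [N.card_V] at h1
  have h2 : Set.range f = Set.univ := Set.eq_univ_of_forall fun z => by
    by_contra hz
    have h3 : Nat.card (Set.range f) < Nat.card (↥H ⧸ K) := Finite.card_subtype_lt hz
    have := Nat.le_of_mul_le_mul_right h1 Nat.card_pos
    omega
  obtain ⟨v, hv⟩ := (h2.symm ▸ Set.mem_univ _ : QuotientGroup.mk x ∈ Set.range f)
  exact ⟨v, QuotientGroup.eq.1 hv⟩

/-- The same inside `S`. -/
theorem cover (N : NoChar p S q M) (y : ↥(omega p G) → ↥(S : Subgroup G))
    (K : Subgroup ↥(S : Subgroup G)) (hK : Nat.card K = Nat.card ↥(Cfsg.pCore p G))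
    (h : ∀ u v, (y u)⁻¹ * y v ∈ K → (u : G)⁻¹ * v ∈ zs S) (x : ↥(S : Subgroup G)) :
    ∃ v, (y v)⁻¹ * x ∈ K :=
  cover' N y K (by rw [N.ctx.card_S, hK]) h x

/-- **Extension of a critical path.** -/
theorem extend (N : NoChar p S q M) {b : ℕ} (hb : 1 ≤ b)
    (hlt : ∀ j < b, ∀ γ ∈ Reach S j, Com p γ) {γ₁ : Equiv.Perm G} (hγ₁ : γ₁ ∈ Reach S (b - 1))
    {α : ↥(S : Subgroup G) ≃* ↥(S : Subgroup G)}
    (hbad : ¬ Com p (γ₁ * real (S : Subgroup G) α))
    (hS : In p (γ₁ * real (S : Subgroup G) α) (S : Subgroup G))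
    {β : ↥(S : Subgroup G) ≃* ↥(S : Subgroup G)}
    (hβ : ¬ (img β (omega p G) ⊔ omega p G).Normal) {h : G} (hh : h ∉ M) :
    ¬ Com p ((lft h * real (S : Subgroup G) β)⁻¹ * γ₁) := by
  intro hcom
  set σα := real (S : Subgroup G) α with hσα
  set σβ := real (S : Subgroup G) β with hσβ
  -- the new conjugate is in `O_p(G)` seen from the end of the path
  have hρ : γ₁⁻¹ * (lft h * σβ) ∈ Reach S b := by
    have := mul_mem' (inv_mem' hγ₁) (mul_mem' (lft_mem S h) (real_mem (S := S) β))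
    rwa [zero_add, Nat.sub_add_cancel hb] at this
  have hρQ := in_core N hlt _ hρ (by simpa [mul_inv_rev] using com_inv hcom)
  have hback : In p γ₁⁻¹ (Cfsg.pCore p G) :=
    in_core N (fun j hj => hlt j (by omega)) _ (inv_mem' hγ₁) (hlt _ (by omega) _ (inv_mem' hγ₁))
  choose w' hw'Q hw'e using hback
  choose y hyS hye using hS
  have hVS : ∀ {v}, v ∈ omega p G → v ∈ (S : Subgroup G) := fun hv => N.core.le_S (omega_le hv)
  have hcard : Nat.card ((img α (Cfsg.pCore p G)).subgroupOf (S : Subgroup G)) =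
      Nat.card ↥(Cfsg.pCore p G) := by
    rw [Nat.card_congr (subgroupOfEquivOfLe (img_le α _)).toEquiv, card_img α N.core.le_S]
  -- `V` covers `S` modulo `α(O_p(G))` at the end of the path
  have hc1 := cover N (fun v => ⟨w' v v.2, N.core.le_S (hw'Q v v.2)⟩)
    ((img α (Cfsg.pCore p G)).subgroupOf (S : Subgroup G)) hcard (by
      intro u v huv
      obtain ⟨r, hr, hrS, hre⟩ := (mem_img α).1 (mem_subgroupOf.1 huv)
      refine mem_zs_of N hbad (fun v hv => ⟨y v hv, hyS v hv, hye v hv⟩)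
        (mul_mem (inv_mem u.2) v.2) fun w hw => ?_
      have h1 : Commute (lft w) (lft r) := commute_lft.2 (omega_commute hw hr)
      have h2 := h1.map (MulAut.conj (γ₁ * σα)).toMonoidHom
      simp only [MulEquiv.coe_toMonoidHom, MulAut.conj_apply] at h2
      have e : γ₁ * σα * lft r * (γ₁ * σα)⁻¹ = lft ((u : G)⁻¹ * v) := by
        rw [cj_mul, hσα, real_lft _ _ hrS, hre]
        simp only [Subgroup.coe_mul, Subgroup.coe_inv]
        rw [map_mul, map_mul, map_inv, map_inv, ← hw'e u u.2, ← hw'e v v.2]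
        group
      rwa [e] at h2)
  -- the end of the path covers `S` modulo `O_p(G)`
  have hc2 := cover N (fun v => ⟨y v v.2, hyS v v.2⟩)
    ((Cfsg.pCore p G).subgroupOf (S : Subgroup G))
    (Nat.card_congr (subgroupOfEquivOfLe N.core.le_S).toEquiv) (by
      intro u v huv
      have hbad' : ¬ Com p (γ₁ * σα)⁻¹ := fun h => hbad (by simpa using com_inv h)
      have hS' : In p (γ₁ * σα)⁻¹ (S : Subgroup G) := by
        rw [mul_inv_rev, hσα, ← real_symm]
        exact in_real_mul α.symm fun w hw => ⟨w' w hw, N.core.le_S (hw'Q w hw), hw'e w hw⟩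
      refine mem_zs_of N hbad' hS' (mul_mem (inv_mem u.2) v.2) fun w hw => ?_
      have h1 : Commute (lft w) (lft ((y u u.2)⁻¹ * y v v.2)) :=
        commute_lft.2 (omega_commute hw (mem_subgroupOf.1 huv))
      have h2 := h1.map (MulAut.conj (γ₁ * σα)⁻¹).toMonoidHom
      simp only [MulEquiv.coe_toMonoidHom, MulAut.conj_apply] at h2
      rw [map_mul, map_inv, ← hye u u.2, ← hye v v.2] at h2
      have e : ((γ₁ * σα)⁻¹ * ((γ₁ * σα * lft (u : G) * (γ₁ * σα)⁻¹)⁻¹ *
          (γ₁ * σα * lft (v : G) * (γ₁ * σα)⁻¹)) * (γ₁ * σα)⁻¹⁻¹) = lft ((u : G)⁻¹ * v) := by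
        rw [map_mul, map_inv]
        group
      rwa [e] at h2)
  refine hβ ⟨fun z hz g => ?_⟩
  let πV := QuotientGroup.mk' (omega p G)
  have hV1 : ∀ {v}, v ∈ omega p G → πV v = 1 := fun hv => (QuotientGroup.eq_one_iff _).2 hv
  have hcentral : ∀ v ∈ omega p G, ∀ g : G, Commute (πV g) (πV (ap β v)) := by
    intro v hv
    set x := h * ap β v * h⁻¹ with hx
    have hxρ : lft h * σβ * lft v * (lft h * σβ)⁻¹ = lft x := by
      rw [cj_mul, hσβ, real_lft _ _ (hVS hv), cj_lft]
    obtain ⟨x', hx'Q, hx'e⟩ := hρQ v hv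
    rw [cj_mul, hxρ, inv_inv] at hx'e
    have hQx : ∀ r ∈ Cfsg.pCore p G, Commute (πV r) (πV x) := by
      intro r hr
      have hr' : h⁻¹ * r * h ∈ (S : Subgroup G) :=
        N.core.le_S (by simpa using pCore_isNormal.conj_mem r hr h⁻¹)
      set r' := h⁻¹ * r * h with hr'e
      have hmem := zs_inv N.core β (N.quad v hv _ (ap_mem β.symm hr'))
      rw [ap_mul β ((S : Subgroup G).mul_mem ((S : Subgroup G).mul_mem (ap_mem β.symm hr') (hVS hv))
          ((S : Subgroup G).inv_mem (ap_mem β.symm hr'))) ((S : Subgroup G).inv_mem (hVS hv)),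
        ap_mul β ((S : Subgroup G).mul_mem (ap_mem β.symm hr') (hVS hv))
          ((S : Subgroup G).inv_mem (ap_mem β.symm hr')),
        ap_mul β (ap_mem β.symm hr') (hVS hv), ap_inv β (ap_mem β.symm hr'), ap_inv β (hVS hv),
        symm_ap β hr'] at hmem
      refine commute_mk.2 ?_
      rw [show r * x * r⁻¹ * x⁻¹ = h * (r' * ap β v * r'⁻¹ * (ap β v)⁻¹) * h⁻¹ by
        rw [hx, hr'e]; group]
      exact omega_normal.conj_mem _ (zs_le_V hmem) h
    have hSx : ∀ s ∈ (S : Subgroup G), Commute (πV s) (πV x) := by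
      intro s hs
      obtain ⟨u, hu⟩ := hc2 ⟨s, hs⟩
      have hcomm : ∀ u ∈ omega p G, ∀ hu : u ∈ omega p G, Commute (πV (y u hu)) (πV x) := by
        intro u _ hu
        obtain ⟨w, hw⟩ := hc1 ⟨x', N.core.le_S hx'Q⟩
        obtain ⟨r, hr, hrS, hre⟩ := (mem_img α).1 (mem_subgroupOf.1 hw)
        simp only [Subgroup.coe_mul, Subgroup.coe_inv] at hre
        have e : γ₁ * σα * lft r * (γ₁ * σα)⁻¹ = lft ((w : G)⁻¹ * x) := by
          rw [cj_mul, hσα, real_lft _ _ hrS, hre, map_mul, map_inv, ← hw'e w w.2, ← hx'e,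
            map_mul lft _ x, map_inv]
          group
        have h2 := (commute_lft.2 (show Commute u r from omega_commute hu hr)).map
          (MulAut.conj (γ₁ * σα)).toMonoidHom
        simp only [MulEquiv.coe_toMonoidHom, MulAut.conj_apply, e, hye u hu, commute_lft] at h2
        have h3 := h2.map πV
        rwa [map_mul, map_inv, hV1 w.2, inv_one, one_mul] at h3
      have hsplit : s = y u u.2 * ((y u u.2)⁻¹ * s) := by group
      rw [hsplit, map_mul]
      exact (hcomm u u.2 u.2).mul_left (hQx _ (mem_subgroupOf.1 hu))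
    have hmemX : (centralizer {πV x}).comap πV = ⊤ := by
      refine N.ctx.gen h hh _ (fun t ht => mem_centralizer_singleton_iff.2 ?_) ?_
      · have hmem := zs_inv N.core β (N.quad v hv _ (ap_mem β.symm ht))
        rw [ap_mul β ((S : Subgroup G).mul_mem ((S : Subgroup G).mul_mem (ap_mem β.symm ht) (hVS hv))
            ((S : Subgroup G).inv_mem (ap_mem β.symm ht))) ((S : Subgroup G).inv_mem (hVS hv)),
          ap_mul β ((S : Subgroup G).mul_mem (ap_mem β.symm ht) (hVS hv))
            ((S : Subgroup G).inv_mem (ap_mem β.symm ht)),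
          ap_mul β (ap_mem β.symm ht) (hVS hv), ap_inv β (ap_mem β.symm ht), ap_inv β (hVS hv),
          symm_ap β ht] at hmem
        refine (commute_mk.2 ?_).eq
        rw [show h * t * h⁻¹ * x * (h * t * h⁻¹)⁻¹ * x⁻¹ =
          h * (t * ap β v * t⁻¹ * (ap β v)⁻¹) * h⁻¹ by rw [hx]; group]
        exact omega_normal.conj_mem _ (zs_le_V hmem) h
      · obtain ⟨s, hs, hsQ⟩ := SetLike.not_le_iff_exists.1 N.core.ne
        exact ⟨s, hs, hsQ, mem_centralizer_singleton_iff.2 (hSx s hs).eq⟩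
    intro g
    have hg : Commute (πV (h * g * h⁻¹)) (πV x) :=
      mem_centralizer_singleton_iff.1
        (show h * g * h⁻¹ ∈ (centralizer {πV x}).comap πV by rw [hmemX]; exact mem_top _)
    have := hg.map (MulAut.conj (πV h)⁻¹).toMonoidHom
    simp only [MulEquiv.coe_toMonoidHom, MulAut.conj_apply, hx, map_mul, map_inv] at this
    simpa [mul_assoc] using this
  have hle : img β (omega p G) ⊔ omega p G ≤
      (centralizer (Set.univ : Set (G ⧸ omega p G))).comap πV := by
    refine sup_le (fun a ha => ?_) fun a ha => ?_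
    · obtain ⟨v, hv, -, rfl⟩ := (mem_img β).1 ha
      refine mem_centralizer_iff.2 fun b _ => ?_
      obtain ⟨b, rfl⟩ := QuotientGroup.mk'_surjective (omega p G) b
      exact (hcentral v hv b).eq
    · refine mem_centralizer_iff.2 fun b _ => ?_
      rw [show πV a = 1 from hV1 ha, mul_one, one_mul]
  have h1 := mem_centralizer_iff.1 (hle hz) (πV g) (Set.mem_univ _)
  have h2 : g * z * g⁻¹ * z⁻¹ ∈ omega p G := commute_mk.1 h1
  have := mul_mem (mem_sup_right h2 : g * z * g⁻¹ * z⁻¹ ∈ img β (omega p G) ⊔ omega p G) hz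
  rwa [inv_mul_cancel_right] at this

/-- Some twist moves `V` to a subgroup whose product with `V` is not normal. -/
theorem exists_nondeg (N : NoChar p S q M) :
    ∃ β : ↥(S : Subgroup G) ≃* ↥(S : Subgroup G),
      ¬ (img β (omega p G) ⊔ omega p G).Normal := by
  by_contra hall
  push Not at hall
  have hVS : omega p G ≤ (S : Subgroup G) := omega_le.trans N.core.le_S
  set T := ⨆ β : ↥(S : Subgroup G) ≃* ↥(S : Subgroup G), img β (omega p G) with hT
  have hVT : omega p G ≤ T := fun v hv => by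
    refine le_iSup (fun β : ↥(S : Subgroup G) ≃* ↥(S : Subgroup G) => img β (omega p G))
      (MulEquiv.refl _) ((mem_img _).2 ⟨v, hv, hVS hv, ?_⟩)
    rw [ap_eq _ (hVS hv)]
    rfl
  have hTS : T ≤ (S : Subgroup G) := iSup_le fun β => img_le β _
  have hbot : T = ⊥ := by
    refine N.eq_bot hTS (fun α x hx => ?_) fun g _ x hx => ?_
    · refine Subgroup.iSup_induction _ (C := fun x => x ∈ (S : Subgroup G) ∧ ap α x ∈ T) hx
        (fun β x hx => ⟨img_le β _ hx, ?_⟩) ⟨one_mem _, by rw [ap_one]; exact one_mem _⟩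
        (fun a b ha hb => ⟨(S : Subgroup G).mul_mem ha.1 hb.1,
          by rw [ap_mul α ha.1 hb.1]; exact mul_mem ha.2 hb.2⟩) |>.2
      obtain ⟨v, hv, hvS, rfl⟩ := (mem_img β).1 hx
      refine le_iSup (fun β : ↥(S : Subgroup G) ≃* ↥(S : Subgroup G) => img β (omega p G))
        (β.trans α) ((mem_img _).2 ⟨v, hv, hvS, ?_⟩)
      rw [ap_eq _ hvS, ap_eq β hvS, ap_eq α (β _).2]
      rfl
    · refine Subgroup.iSup_induction _ (C := fun x => g * x * g⁻¹ ∈ T) hx
        (fun β x hx => sup_le (le_iSup (fun β : ↥(S : Subgroup G) ≃* ↥(S : Subgroup G) =>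
          img β (omega p G)) β) hVT ((hall β).conj_mem x (mem_sup_left hx) g)) (by simp) ?_
      intro a b ha hb
      simpa [mul_assoc] using mul_mem ha hb
  have := card_le_of_le (hVT.trans hbot.le)
  rw [Subgroup.card_bot, N.card_V] at this
  have h1 := N.ctx.one_lt
  have h2 : 0 < Nat.card (zs S) := Nat.card_pos
  nlinarith

theorem exists_bad (N : NoChar p S q M) : ∃ k, ∃ γ ∈ Reach S k, ¬ Com p γ := by
  by_contra hall
  push Not at hall
  set T := closure {x : G | ∃ k, ∃ γ ∈ Reach S k, ∃ v ∈ omega p G, γ * lft v * γ⁻¹ = lft x}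
    with hT
  have hgen : ∀ x, (∃ k, ∃ γ ∈ Reach S k, ∃ v ∈ omega p G, γ * lft v * γ⁻¹ = lft x) →
      x ∈ Cfsg.pCore p G := by
    rintro x ⟨k, γ, hγ, v, hv, e⟩
    obtain ⟨y, hy, e'⟩ := in_core N (fun j _ γ hγ => hall j γ hγ) γ hγ (hall k γ hγ) v hv
    rwa [lft_injective (e.symm.trans e')]
  have hTS : T ≤ (S : Subgroup G) := ((closure_le _).2 fun x hx => hgen x hx).trans N.core.le_S
  have hbot : T = ⊥ := by
    refine N.eq_bot hTS (fun α x hx => ?_) fun g _ x hx => ?_
    · have key : x ∈ (S : Subgroup G) ∧ ap α x ∈ T := by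
        induction hx using Subgroup.closure_induction with
        | mem y hy =>
          refine ⟨N.core.le_S (hgen y hy), ?_⟩
          obtain ⟨k, γ, hγ, v, hv, e⟩ := hy
          exact subset_closure ⟨1 + k, real (S : Subgroup G) α * γ,
            mul_mem' (real_mem (S := S) α) hγ, v, hv, by
              rw [cj_mul, e, real_lft _ _ (N.core.le_S (hgen y ⟨k, γ, hγ, v, hv, e⟩))]⟩
        | one => exact ⟨one_mem _, by rw [ap_one]; exact one_mem _⟩
        | mul a b _ _ ha hb =>
          exact ⟨(S : Subgroup G).mul_mem ha.1 hb.1,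
            by rw [ap_mul α ha.1 hb.1]; exact mul_mem ha.2 hb.2⟩
        | inv a _ ha =>
          exact ⟨(S : Subgroup G).inv_mem ha.1, by rw [ap_inv α ha.1]; exact inv_mem ha.2⟩
      exact key.2
    · have hle : T ≤ T.comap (MulAut.conj g).toMonoidHom := (closure_le _).2 fun y hy => by
        obtain ⟨k, γ, hγ, v, hv, e⟩ := hy
        exact subset_closure ⟨0 + k, lft g * γ, mul_mem' (lft_mem S g) hγ, v, hv, by
          rw [cj_mul, e, cj_lft]; rfl⟩
      exact hle hx
  have hVT : omega p G ≤ T := fun v hv =>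
    subset_closure ⟨0, lft 1, lft_mem S 1, v, hv, by simp⟩
  have := card_le_of_le (hVT.trans hbot.le)
  rw [Subgroup.card_bot, N.card_V] at this
  have h1 := N.ctx.one_lt
  have h2 : 0 < Nat.card (zs S) := Nat.card_pos
  nlinarith

end Amb

open Amb in
/-- **The two cases.** -/
theorem NoChar.cases {S : Sylow p G} {q : ℕ} {M : Subgroup G} (N : NoChar p S q M) :
    (∃ α : ↥(S : Subgroup G) ≃* ↥(S : Subgroup G), ¬ img α (omega p G) ≤ Cfsg.pCore p G) ∨
    ((∀ α : ↥(S : Subgroup G) ≃* ↥(S : Subgroup G), img α (omega p G) ≤ Cfsg.pCore p G) ∧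
      ∃ α : ↥(S : Subgroup G) ≃* ↥(S : Subgroup G),
        (∀ h, h ∉ M → ∃ a ∈ img α (omega p G), ∃ b ∈ img α (omega p G),
          ¬ Commute a (h * b * h⁻¹)) ∧
        ∀ h, h ∉ M → ∃ v ∈ omega p G, ∃ b ∈ img α (omega p G),
          ¬ Commute (ap α (h * b * h⁻¹)) v) := by
  classical
  have hex := exists_bad N
  obtain ⟨b, ⟨γ₀, hγ₀, hbad₀⟩, hmin⟩ : ∃ b, (∃ γ ∈ Reach S b, ¬ Com p γ) ∧
      ∀ j < b, ∀ γ ∈ Reach S j, Com p γ :=
    ⟨Nat.find hex, Nat.find_spec hex, fun j hj γ hγ => by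
      by_contra hc
      exact Nat.find_min hex hj ⟨γ, hγ, hc⟩⟩
  have hVS : ∀ {v}, v ∈ omega p G → v ∈ (S : Subgroup G) := fun hv => N.core.le_S (omega_le hv)
  have hinS : ∀ (α : ↥(S : Subgroup G) ≃* ↥(S : Subgroup G)) {k : ℕ}, k < b →
      ∀ δ ∈ Reach S k, In p (real (S : Subgroup G) α * δ) (S : Subgroup G) := fun α k hk δ hδ =>
    in_real_mul α fun v hv => by
      obtain ⟨y, hy, e⟩ := in_core N (fun j hj => hmin j (by omega)) δ hδ (hmin k hk δ hδ) v hv
      exact ⟨y, N.core.le_S hy, e⟩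
  obtain ⟨b, rfl⟩ : ∃ b', b = b' + 1 := by
    refine ⟨b - 1, ?_⟩
    rcases Nat.eq_zero_or_pos b with rfl | h
    · obtain ⟨g, rfl⟩ := hγ₀
      refine absurd (fun v hv w hw => ?_) hbad₀
      rw [cj_lft, commute_lft]
      exact omega_commute (omega_normal.conj_mem v hv g) (omega_le hw)
    · omega
  obtain ⟨g₀, α₀, δ₀, hδ₀, rfl⟩ := exists_head hγ₀
  rw [mul_assoc, com_lft_mul] at hbad₀
  rcases Nat.eq_zero_or_pos b with rfl | hb
  · left
    refine ⟨α₀, fun hle => hbad₀ fun v hv w hw => ?_⟩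
    obtain ⟨g, rfl⟩ := hδ₀
    have hv' := omega_normal.conj_mem v hv g
    rw [cj_mul, cj_lft, real_lft _ _ (hVS hv'), commute_lft]
    exact (omega_commute hw (hle (ap_mem_img α₀ hv' (hVS hv')))).symm
  right
  refine ⟨fun α a ha => ?_, ?_⟩
  · obtain ⟨v, hv, hvS, rfl⟩ := (mem_img α).1 ha
    obtain ⟨y, hy, e⟩ := in_core N (fun j hj => hmin j (by omega)) _ (real_mem (S := S) α)
      (hmin 1 (by omega) _ (real_mem (S := S) α)) v hv
    rw [real_lft _ _ hvS] at e
    rwa [lft_injective e]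
  obtain ⟨β, hβ⟩ := exists_nondeg N
  refine ⟨β, ?_⟩
  set σ := real (S : Subgroup G) β with hσ
  have hθ : ∀ h, lft h * σ ∈ Reach S 1 := fun h => by
    have := mul_mem' (lft_mem S h) (real_mem (S := S) β)
    rwa [zero_add] at this
  -- powers of one step
  have hpow : ∀ h, h ∉ M → ¬ Com p ((lft h * σ) ^ (b + 1)) := by
    intro h hh
    set θ := lft h * σ with hθe
    have hind : ∀ i, i ≤ b + 1 → ∃ δ ∈ Reach S (b + 1 - i), ¬ Com p (θ⁻¹ ^ i * δ) ∧
        In p (θ⁻¹ ^ i * δ) (S : Subgroup G) := by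
      intro i
      induction i with
      | zero =>
        intro _
        refine ⟨real (S : Subgroup G) α₀ * δ₀, ?_, by simpa using hbad₀,
          by simpa using hinS α₀ (by omega) δ₀ hδ₀⟩
        have := mul_mem' (real_mem (S := S) α₀) hδ₀
        rwa [add_comm] at this
      | succ i ih =>
        intro hi
        obtain ⟨δ, hδ, hb', hS'⟩ := ih (by omega)
        rw [show b + 1 - i = (b - i) + 1 by omega] at hδ
        obtain ⟨δ₁, hδ₁, α, g, rfl⟩ := hδ
        rw [show b + 1 - (i + 1) = b - i by omega]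
        refine ⟨δ₁, hδ₁, ?_⟩
        have hγ₁ : θ⁻¹ ^ i * δ₁ ∈ Reach S (b + 1 - 1) := by
          have := mul_mem' (pow_mem' (inv_mem' (hθ h)) i) hδ₁
          rwa [show i + (b - i) = b + 1 - 1 by omega] at this
        have hbad' : ¬ Com p (θ⁻¹ ^ i * δ₁ * real (S : Subgroup G) α) := fun hc => hb' (by
          rw [← mul_assoc, ← mul_assoc, com_mul_lft]; exact hc)
        have hS'' : In p (θ⁻¹ ^ i * δ₁ * real (S : Subgroup G) α) (S : Subgroup G) := fun v hv => by
          obtain ⟨y, hy, e⟩ := hS' _ (omega_normal.conj_mem v hv g⁻¹)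
          refine ⟨y, hy, e.symm ▸ ?_⟩
          rw [← mul_assoc, ← mul_assoc, cj_mul _ (lft g), cj_lft]
          congr 3
          group
        have := extend N (by omega) hmin hγ₁ hbad' hS'' hβ hh
        rw [pow_succ', mul_assoc]
        refine ⟨this, ?_⟩
        have hm : lft h⁻¹ * (θ⁻¹ ^ i * δ₁) ∈ Reach S b := by
          have := mul_mem' (lft_mem S h⁻¹) hγ₁
          rwa [show 0 + (b + 1 - 1) = b by omega] at this
        have e : θ⁻¹ * (θ⁻¹ ^ i * δ₁) =
            real (S : Subgroup G) β.symm * (lft h⁻¹ * (θ⁻¹ ^ i * δ₁)) := by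
          rw [← mul_assoc (real _ β.symm), map_inv, real_symm, ← hσ, ← mul_inv_rev (lft h), ← hθe]
        rw [e]
        exact hinS β.symm (k := b) (by omega) _ hm
    obtain ⟨δ, hδ, hb', -⟩ := hind (b + 1) le_rfl
    rw [Nat.sub_self] at hδ
    obtain ⟨g, rfl⟩ := hδ
    exact fun hc => hb' (by rw [com_mul_lft, inv_pow]; exact com_inv hc)
  -- the conjugates at distance `j + 1`
  let u : G → ℕ → Equiv.Perm G := fun h j => σ * (lft h * σ) ^ j
  have hu : ∀ h, ∀ j ≤ b, In p (u h j) (S : Subgroup G) := fun h j hj =>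
    hinS β (show j < b + 1 by omega) _ (pow_mem' (hθ h) j)
  have hubad : ∀ h, h ∉ M → ¬ Com p (u h b) := fun h hh hc => hpow h hh (by
    rw [pow_succ', mul_assoc, com_lft_mul]; exact hc)
  -- the conjugate before the start
  have hbefore : ∀ h h', h ∉ M → h' ∉ M → ¬ Com p ((lft h' * σ)⁻¹ * u h (b - 1)) := by
    intro h h' hh hh' hc
    obtain ⟨c, rfl⟩ : ∃ c, b = c + 1 := ⟨b - 1, by omega⟩
    have hγ₁ : u h c * lft h ∈ Reach S (c + 1 + 1 - 1) := by
      have := mul_mem' (real_mem (S := S) β) (pow_mem' (hθ h) c)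
      rw [add_comm] at this
      exact mul_lft_mem this h
    have he : u h c * lft h * σ = u h (c + 1) := by simp only [u, pow_succ, mul_assoc]
    refine extend N (by omega) hmin hγ₁ (α := β) (he ▸ hubad h hh) (he ▸ hu h _ le_rfl) hβ hh' ?_
    rw [← mul_assoc, com_mul_lft]
    exact hc
  obtain ⟨h, hh⟩ := N.exists_not_mem
  rcases Nat.lt_or_ge b 2 with hb2 | hb2
  · -- distance two
    obtain rfl : b = 1 := by omega
    refine ⟨fun h' hh' => ?_, fun h' hh' => ?_⟩
    · by_contra hall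
      push Not at hall
      refine hbefore h h' hh hh' fun v hv w hw => ?_
      have e : (lft h' * σ)⁻¹ * u h 0 * lft v * ((lft h' * σ)⁻¹ * u h 0)⁻¹ =
          σ⁻¹ * lft (h'⁻¹ * ap β v * h') * σ⁻¹⁻¹ := by
        simp only [u, pow_zero, mul_one]
        rw [cj_mul, hσ, real_lft _ _ (hVS hv), mul_inv_rev, cj_mul, ← map_inv lft, cj_lft, inv_inv]
      rw [e]
      have h1 := hall _ (ap_mem_img β hv (hVS hv)) _ (ap_mem_img β hw (hVS hw))
      have h2 := h1.map (MulAut.conj h'⁻¹).toMonoidHom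
      simp only [MulEquiv.coe_toMonoidHom, MulAut.conj_apply] at h2
      rw [show h'⁻¹ * (h' * ap β w * h'⁻¹) * h'⁻¹⁻¹ = ap β w by group, inv_inv] at h2
      have h3 := (commute_lft.2 h2).map (MulAut.conj σ⁻¹).toMonoidHom
      simp only [MulEquiv.coe_toMonoidHom, MulAut.conj_apply] at h3
      have e' : σ⁻¹ * lft (ap β w) * σ⁻¹⁻¹ = lft w := by
        rw [hσ, ← real_symm, real_lft _ _ (ap_mem β (hVS hw)), ap_symm β (hVS hw)]
      rwa [e'] at h3
    · by_contra hall
      push Not at hall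
      refine hubad h' hh' fun v hv w hw => ?_
      obtain ⟨y, hy, hye⟩ := in_core N (fun j hj => hmin j (by omega)) _ (hθ h')
        (hmin 1 (by omega) _ (hθ h')) v hv
      have hye' : y = h' * ap β v * h'⁻¹ := lft_injective (by
        rw [← hye, cj_mul, hσ, real_lft _ _ (hVS hv), cj_lft])
      simp only [u, pow_one]
      rw [cj_mul, hye, hσ, real_lft _ _ (N.core.le_S hy), commute_lft, hye']
      exact hall w hw _ (ap_mem_img β hv (hVS hv))
  -- greater distances do not occur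
  exfalso
  set θ := lft h * σ with hθe
  have hbadθ : ¬ Com p (θ⁻¹ * u h (b - 1)) := hbefore h h hh hh
  have hm : lft h⁻¹ * u h (b - 1) ∈ Reach S b := by
    have := mul_mem' (lft_mem S h⁻¹) (mul_mem' (real_mem (S := S) β) (pow_mem' (hθ h) (b - 1)))
    rwa [show 0 + (1 + (b - 1)) = b by omega] at this
  have hSθ : In p (θ⁻¹ * u h (b - 1)) (S : Subgroup G) := by
    rw [hθe, mul_inv_rev, ← map_inv, hσ, ← real_symm, mul_assoc]
    exact hinS β.symm (by omega) _ hm
  have hSend : In p (θ⁻¹ * u h (b - 1))⁻¹ (S : Subgroup G) := by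
    obtain ⟨c, rfl⟩ : ∃ c, b = c + 2 := ⟨b - 2, by omega⟩
    have hm' : lft h⁻¹ * (θ⁻¹ ^ c * (real (S : Subgroup G) β.symm * θ)) ∈ Reach S (c + 2) := by
      have := mul_mem' (lft_mem S h⁻¹)
        (mul_mem' (pow_mem' (inv_mem' (hθ h)) c) (mul_mem' (real_mem (S := S) β.symm) (hθ h)))
      rwa [show 0 + (c + (1 + 1)) = c + 2 by omega] at this
    have e : (θ⁻¹ * u h (c + 2 - 1))⁻¹ = real (S : Subgroup G) β.symm *
        (lft h⁻¹ * (θ⁻¹ ^ c * (real (S : Subgroup G) β.symm * θ))) := by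
      rw [real_symm, ← hσ, show c + 2 - 1 = c + 1 by omega, map_inv]
      simp only [u, ← hθe]
      rw [← mul_assoc σ⁻¹, ← mul_inv_rev (lft h) σ, ← hθe, inv_pow, pow_succ]
      group
    rw [e]
    exact hinS β.symm (by omega) _ hm'
  obtain ⟨w, hw, y, hy, hyQ, hye⟩ := exists_outside N hbadθ hSθ
  refine N.linesV.not_le_C N.ctx fun v hv => ?_
  obtain ⟨z, hz, hze⟩ := comm_mem N hSθ hw hv
  have hzy : z = v * y * v⁻¹ * y⁻¹ := lft_injective (by
    rw [← hze, hye]
    simp)
  obtain ⟨z₂, hz₂, hz₂e⟩ := comm_mem N hSend hv hw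
  refine N.linesV.key N.ctx hy hyQ hv ?_
  have hinv : y * v * y⁻¹ * v⁻¹ = z⁻¹ := by rw [hzy]; group
  rw [hinv]
  refine (z0 p G).inv_mem ?_
  -- the commutator seen from the start
  set z' := ap β z with hz'
  have hz'zs : z' ∈ zs S := zs_inv N.core β hz
  set d := h * z' * h⁻¹ with hd
  have hdV : d ∈ omega p G := omega_normal.conj_mem _ hz'zs.1 h
  have hde : θ * lft z * θ⁻¹ = lft d := by
    rw [hθe, cj_mul, hσ, real_lft _ _ (hVS hz.1), cj_lft]
  set d₂ := h * ap β z₂⁻¹ * h⁻¹ with hd₂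
  have hd₂e : u h (b - 2) * lft d₂ * (u h (b - 2))⁻¹ = lft d := by
    have e1 : u h (b - 1) * lft z₂⁻¹ * (u h (b - 1))⁻¹ = θ * lft z * θ⁻¹ := by
      rw [map_inv, ← hz₂e, ← hze]
      group
    have e2 : u h (b - 2) * θ = u h (b - 1) := by
      simp only [u, ← hθe]
      rw [show b - 1 = b - 2 + 1 by omega, pow_succ, mul_assoc]
    rw [← hde, ← e1, ← e2, cj_mul (u h (b - 2)) θ, hθe, cj_mul (lft h) σ, hσ,
      real_lft _ _ (hVS (inv_mem hz₂.1)), cj_lft]
  have hd₂V : d₂ ∈ omega p G :=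
    omega_normal.conj_mem _ (zs_inv N.core β ((zs S).inv_mem hz₂)).1 h
  have hdzs : d ∈ zs S := by
    refine mem_zs_of N (hubad h hh) (hu h b le_rfl) hdV fun x hx => ?_
    have h1 := (hmin 2 (by omega) _ (pow_mem' (hθ h) 2) x hx d₂ hd₂V).map
      (MulAut.conj (u h (b - 2))).toMonoidHom
    simp only [MulEquiv.coe_toMonoidHom, MulAut.conj_apply, hd₂e] at h1
    have e : u h (b - 2) * θ ^ 2 = u h b := by
      simp only [u, ← hθe]
      rw [mul_assoc, ← pow_add, show b - 2 + 2 = b by omega]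
    rwa [← cj_mul, ← hθe, e] at h1
  have hd0 : d ∈ z0 p G := (N.inf_conj h hh).le ⟨hdzs, z', hz'zs, rfl⟩
  set d' := ap β.symm d with hd'
  have hd'zs : d' ∈ zs S := zs_inv N.core β.symm hdzs
  have hd'h : h⁻¹ * d' * h ∈ zs S := by
    rcases Nat.lt_or_ge 2 b with hb3 | hb3
    · refine mem_zs_of N (hubad h hh) (hu h b le_rfl)
        (by simpa using omega_normal.conj_mem _ hd'zs.1 h⁻¹) fun x hx => ?_
      have h1 := (hmin 3 (by omega) _ (pow_mem' (hθ h) 3) x hx d₂ hd₂V).map
        (MulAut.conj (u h (b - 2))).toMonoidHom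
      simp only [MulEquiv.coe_toMonoidHom, MulAut.conj_apply, hd₂e] at h1
      have e : u h (b - 2) * θ ^ 3 = σ * lft h * u h b := by
        simp only [u, ← hθe]
        rw [mul_assoc, ← pow_add, show b - 2 + 3 = b + 1 by omega, pow_succ', hθe]
        simp only [mul_assoc]
      rw [← cj_mul, ← hθe, e, cj_mul (σ * lft h)] at h1
      have h2 := h1.map (MulAut.conj (σ * lft h)⁻¹).toMonoidHom
      simp only [MulEquiv.coe_toMonoidHom, MulAut.conj_apply] at h2
      have e1 : (σ * lft h)⁻¹ * (σ * lft h * (u h b * lft x * (u h b)⁻¹) * (σ * lft h)⁻¹) *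
          (σ * lft h)⁻¹⁻¹ = u h b * lft x * (u h b)⁻¹ := by group
      have e2 : (σ * lft h)⁻¹ * lft d * (σ * lft h)⁻¹⁻¹ = lft (h⁻¹ * d' * h) := by
        rw [mul_inv_rev σ, cj_mul, hσ, ← real_symm, real_lft _ _ (hVS hdV), ← map_inv, cj_lft,
          inv_inv]
      rwa [e1, e2] at h2
    · obtain rfl : b = 2 := by omega
      have e : d = ap β d₂ := lft_injective (by
        rw [← hd₂e]
        simp only [u, Nat.sub_self, pow_zero, mul_one]
        rw [hσ, real_lft _ _ (hVS hd₂V)])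
      rw [hd', e, ap_symm β (hVS hd₂V), hd₂,
        show h⁻¹ * (h * ap β z₂⁻¹ * h⁻¹) * h = ap β z₂⁻¹ by group]
      exact zs_inv N.core β ((zs S).inv_mem hz₂)
  have hd'0 : d' ∈ z0 p G := (N.inf_conj h hh).le ⟨hd'zs, h⁻¹ * d' * h, hd'h, by simp [mul_assoc]⟩
  have hzd : z = d' := by
    rw [hd', show d = z' from by
      have := z0_central hd0 h⁻¹
      rw [hd] at this ⊢
      calc h * z' * h⁻¹ = h⁻¹ * (h * z' * h⁻¹) * h := by rw [this]; group
        _ = z' := by group, hz', ap_symm β (hVS hz.1)]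
  rw [hzd]
  exact hd'0

end CfsgLib.PushL2
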