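import Cfsg.Agent.PushL2.Setup

/-!
Over a quotient `PSL₂(q)` no `p`-subgroup is an over-offender: `|B : Q| |C_V(B)| ≤ |V|`.
-/

set_option autoImplicit false
set_option linter.unusedSectionVars false

namespace CfsgLib.PushL2

open Subgroup

variable {G H : Type*} [Group G] [Finite G] [Group H] [Finite H]

theorem card_mul_card_le {X : Type*} [Group X] [Finite X] (B₁ B₂ : Subgroup X) :
    Nat.card B₁ * Nat.card B₂ ≤ Nat.card ↥(B₁ ⊓ B₂) * Nat.card ↥(B₁ ⊔ B₂) := by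
  have h1 : Nat.card B₂ = Nat.card ↥(B₁ ⊓ B₂) * (B₁ ⊓ B₂).relIndex B₂ := by
    rw [← Subgroup.relIndex_bot_left, ← Subgroup.relIndex_bot_left,
      Subgroup.relIndex_mul_relIndex _ _ _ bot_le inf_le_right]
  have h2 : Nat.card ↥(B₁ ⊔ B₂) = Nat.card B₁ * B₁.relIndex (B₁ ⊔ B₂) := by
    rw [← Subgroup.relIndex_bot_left, ← Subgroup.relIndex_bot_left,
      Subgroup.relIndex_mul_relIndex _ _ _ bot_le le_sup_left]
  have h3 : B₁.relIndex B₂ ≤ B₁.relIndex (B₁ ⊔ B₂) :=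
    Subgroup.relIndex_le_of_le_right le_sup_right Subgroup.index_ne_zero_of_finite
  rw [h1, h2, Subgroup.inf_relIndex_right]
  calc Nat.card B₁ * (Nat.card ↥(B₁ ⊓ B₂) * B₁.relIndex B₂)
      = Nat.card ↥(B₁ ⊓ B₂) * (Nat.card B₁ * B₁.relIndex B₂) := by ring
    _ ≤ _ := by gcongr

/-- Fibres of an injective-modulo map bound the order. -/
theorem card_le_of_fibres {α β : Type*} [Finite α] [Finite β] (A B : Subgroup G) (f : A → β)
    (h : ∀ a b : A, f a = f b → (a : G)⁻¹ * b ∈ B) (e : α ≃ β) :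
    Nat.card A ≤ Nat.card α * Nat.card B := by
  classical
  rw [Nat.card_congr e, ← Nat.card_prod]
  refine Nat.card_le_card_of_injective (fun a : A =>
    (f a, (⟨((Function.invFun f (f a) : A) : G)⁻¹ * a,
      h _ _ (Function.invFun_eq ⟨a, rfl⟩)⟩ : B))) ?_
  intro a b hab
  simp only [Prod.mk.injEq, Subtype.mk.injEq] at hab
  rw [hab.1] at hab
  exact Subtype.ext (mul_left_cancel hab.2)

variable (θ : G →* H) (V : Subgroup H)

/-- The fixed points of `B` in `V`. -/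
def fix (B : Subgroup G) : Subgroup H := V ⊓ centralizer (θ '' (B : Set G))

variable {θ V}

theorem mem_fix {B : Subgroup G} {v : H} :
    v ∈ fix θ V B ↔ v ∈ V ∧ ∀ b ∈ B, θ b * v = v * θ b := by
  simp [fix, mem_centralizer_iff]

theorem conj_eq_of_mem_fix {B : Subgroup G} {v : H} (h : v ∈ fix θ V B) {b : G} (hb : b ∈ B) :
    θ b * v * (θ b)⁻¹ = v := by
  rw [(mem_fix.1 h).2 b hb, mul_inv_cancel_right]

theorem mem_fix_of_conj {B : Subgroup G} {v : H} (hv : v ∈ V)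
    (h : ∀ b ∈ B, θ b * v * (θ b)⁻¹ = v) : v ∈ fix θ V B :=
  mem_fix.2 ⟨hv, fun b hb => mul_inv_eq_iff_eq_mul.1 (h b hb)⟩

theorem fix_le (B : Subgroup G) : fix θ V B ≤ V := inf_le_left

theorem fix_anti {B C : Subgroup G} (h : B ≤ C) : fix θ V C ≤ fix θ V B :=
  inf_le_inf_left V (centralizer_le (Set.image_mono h))

theorem fix_sup (B C : Subgroup G) : fix θ V B ⊓ fix θ V C ≤ fix θ V (B ⊔ C) := by
  rintro v ⟨hv, hv'⟩
  refine mem_fix.2 ⟨hv.1, fun b hb => ?_⟩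
  have hle : B ⊔ C ≤ (centralizer {v}).comap θ := sup_le
    (fun b hb => mem_centralizer_singleton_iff.2 ((mem_fix.1 hv).2 b hb))
    (fun b hb => mem_centralizer_singleton_iff.2 ((mem_fix.1 hv').2 b hb))
  exact mem_centralizer_singleton_iff.1 (hle hb)

variable (θ V) in
/-- The elements acting on `X` trivially modulo a fixed subgroup `Z`. -/
def comSub (X : Set H) (Z : Subgroup H) (hZ : Z ≤ fix θ V ⊤) : Subgroup G where
  carrier := {g | ∀ v ∈ X, θ g * v * (θ g)⁻¹ * v⁻¹ ∈ Z}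
  one_mem' v _ := by simp
  mul_mem' {g h} hg hh v hv := by
    have e := conj_eq_of_mem_fix (hZ (hh v hv)) (mem_top g)
    have : θ (g * h) * v * (θ (g * h))⁻¹ * v⁻¹ =
        (θ g * (θ h * v * (θ h)⁻¹ * v⁻¹) * (θ g)⁻¹) * (θ g * v * (θ g)⁻¹ * v⁻¹) := by
      rw [map_mul]; group
    rw [this, e]
    exact mul_mem (hh v hv) (hg v hv)
  inv_mem' {g} hg v hv := by
    have e := conj_eq_of_mem_fix (hZ (inv_mem (hg v hv))) (mem_top g⁻¹)
    have : θ g⁻¹ * v * (θ g⁻¹)⁻¹ * v⁻¹ =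
        θ g⁻¹ * (θ g * v * (θ g)⁻¹ * v⁻¹)⁻¹ * (θ g⁻¹)⁻¹ := by
      rw [map_inv]; group
    rw [this, e]
    exact inv_mem (hg v hv)

theorem mem_comSub {X : Set H} {Z : Subgroup H} {hZ : Z ≤ fix θ V ⊤} {g : G} :
    g ∈ comSub θ V X Z hZ ↔ ∀ v ∈ X, θ g * v * (θ g)⁻¹ * v⁻¹ ∈ Z := Iff.rfl

variable (θ V) in
/-- An action on an elementary abelian group in which the core acts trivially. -/
structure Action (p : ℕ) : Prop where
  comm : ∀ v ∈ V, ∀ w ∈ V, v * w = w * v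
  expo : ∀ v ∈ V, v ^ p = 1
  stable : ∀ g : G, ∀ v ∈ V, θ g * v * (θ g)⁻¹ ∈ V
  triv : Cfsg.pCore p G ≤ (centralizer (V : Set H)).comap θ

variable {p : ℕ} [Fact p.Prime]

theorem Action.conj_sub (hA : Action θ V p) {g : G} {v : H} (hv : v ∈ V) :
    θ g * v * (θ g)⁻¹ * v⁻¹ ∈ V := mul_mem (hA.stable g v hv) (inv_mem hv)

theorem Action.core_fix (hA : Action θ V p) {v : H} (hv : v ∈ V) {a : G}
    (ha : a ∈ Cfsg.pCore p G) : θ a * v * (θ a)⁻¹ = v := by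
  rw [← mem_centralizer_iff.1 (hA.triv ha) v hv, mul_inv_cancel_right]

theorem Action.ker_normal (hA : Action θ V p) : ((centralizer (V : Set H)).comap θ).Normal := by
  refine ⟨fun a ha g => mem_centralizer_iff.2 fun v hv => ?_⟩
  have h := mem_centralizer_iff.1 ha _ (hA.stable g⁻¹ v hv)
  rw [map_inv, inv_inv] at h
  rw [map_mul, map_mul, map_inv]
  have h2 := congrArg (fun x => θ g * x * (θ g)⁻¹) h
  simpa [mul_assoc] using h2

/-- The fibre computation: `[a, w]` and `[b, w]` agree modulo a fixed subgroup only if `a⁻¹ b`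
moves `w` into that subgroup. -/
theorem sub_mem_of_eq {v : H} {a b : G} {Z : Subgroup H}
    (hfix : ∀ z ∈ Z, θ a⁻¹ * z * (θ a⁻¹)⁻¹ = z) (hab : (θ a * v * (θ a)⁻¹ * v⁻¹)⁻¹ *
      (θ b * v * (θ b)⁻¹ * v⁻¹) ∈ Z) (hv : v * ((θ a * v * (θ a)⁻¹ * v⁻¹)⁻¹ *
      (θ b * v * (θ b)⁻¹ * v⁻¹)) = ((θ a * v * (θ a)⁻¹ * v⁻¹)⁻¹ *
      (θ b * v * (θ b)⁻¹ * v⁻¹)) * v) :
    θ (a⁻¹ * b) * v * (θ (a⁻¹ * b))⁻¹ * v⁻¹ ∈ Z := by
  set z := (θ a * v * (θ a)⁻¹ * v⁻¹)⁻¹ * (θ b * v * (θ b)⁻¹ * v⁻¹) with hz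
  have e1 : θ b * v * (θ b)⁻¹ = θ a * v * (θ a)⁻¹ * v⁻¹ * (z * v) := by rw [hz]; group
  rw [← hv, ← mul_assoc, inv_mul_cancel_right] at e1
  have e2 : θ (a⁻¹ * b) * v * (θ (a⁻¹ * b))⁻¹ =
      θ a⁻¹ * (θ b * v * (θ b)⁻¹) * (θ a⁻¹)⁻¹ := by rw [map_mul]; group
  rw [e1] at e2
  have e3 : θ (a⁻¹ * b) * v * (θ (a⁻¹ * b))⁻¹ = v * (θ a⁻¹ * z * (θ a⁻¹)⁻¹) := by
    rw [e2, map_inv]; group
  rw [e3, hfix z hab, hv, mul_inv_cancel_right]
  exact hab

/-- The facts behind the bound when `S` fixes all its commutators in `V`: with `Z` the fixed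
points of `G`, `|S| |Z| ≤ |C_V(S)| |O_p(G)|`, and some conjugate of `S` has as many fixed points as
`S`, meeting those of each element outside `O_p(G)` in `Z`. -/
theorem quadratic_facts {S : Sylow p G} (hc : Core p S) (hA : Action θ V p)
    (hker : (centralizer (V : Set H)).comap θ ⊔ S ≠ ⊤)
    (hquad : ∀ w ∈ V, ∀ a ∈ (S : Subgroup G), θ a * w * (θ a)⁻¹ * w⁻¹ ∈ fix θ V S) :
    Nat.card (S : Subgroup G) * Nat.card (fix θ V (⊤ : Subgroup G)) ≤
        Nat.card (fix θ V (S : Subgroup G)) * Nat.card ↥(Cfsg.pCore p G) ∧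
      ∃ C₂ : Subgroup H, C₂ ≤ V ∧ Nat.card C₂ = Nat.card (fix θ V (S : Subgroup G)) ∧
        ∀ X : Subgroup G, (∃ s ∈ (S : Subgroup G), s ∉ Cfsg.pCore p G ∧ s ∈ X) →
          fix θ V X ⊓ C₂ ≤ fix θ V ⊤ := by
  set C₁ := fix θ V (S : Subgroup G) with hC₁
  set Z := fix θ V (⊤ : Subgroup G) with hZdef
  obtain ⟨g, hg⟩ := hc.opp
  obtain ⟨s₀, hs₀, hs₀Q⟩ := SetLike.not_le_iff_exists.1 hc.ne
  have hZc : ∀ z ∈ Z, ∀ x : G, θ x * z * (θ x)⁻¹ = z := fun z hz x =>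
    conj_eq_of_mem_fix hz (mem_top x)
  by_cases hFZ : C₁ ≤ Z
  · exfalso
    have hP : comSub θ V V Z le_rfl = ⊤ := by
      refine hg _ (fun a ha v hv => ?_) ⟨s₀, hs₀, hs₀Q, fun v hv => hFZ (hquad v hv s₀ hs₀)⟩
      have h1 := hFZ (hquad _ (hA.stable g⁻¹ v hv) a ha)
      have : θ (g * a * g⁻¹) * v * (θ (g * a * g⁻¹))⁻¹ * v⁻¹ = θ g *
          (θ a * (θ g⁻¹ * v * (θ g⁻¹)⁻¹) * (θ a)⁻¹ * (θ g⁻¹ * v * (θ g⁻¹)⁻¹)⁻¹) * (θ g)⁻¹ := by
        rw [map_mul, map_mul, map_inv]; group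
      rw [this, hZc _ h1 g]
      exact h1
    set C := (centralizer (V : Set H)).comap θ with hCdef
    haveI := hA.ker_normal
    have hpow : ∀ x : G, x ^ p ∈ C := fun x => mem_centralizer_iff.2 fun v hv => by
      have hcz : θ x * v * (θ x)⁻¹ * v⁻¹ ∈ Z :=
        mem_comSub.1 (show x ∈ comSub θ V V Z le_rfl by rw [hP]; exact mem_top x) v hv
      set c := θ x * v * (θ x)⁻¹ * v⁻¹ with hcdef
      have hk : ∀ k : ℕ, θ (x ^ k) * v * (θ (x ^ k))⁻¹ = c ^ k * v := fun k => by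
        induction k with
        | zero => simp
        | succ k ih =>
          have : θ (x ^ (k + 1)) * v * (θ (x ^ (k + 1)))⁻¹ =
              θ x * (θ (x ^ k) * v * (θ (x ^ k))⁻¹) * (θ x)⁻¹ := by
            rw [pow_succ', map_mul]; group
          rw [this, ih, show θ x * (c ^ k * v) * (θ x)⁻¹ =
            (θ x * c ^ k * (θ x)⁻¹) * (θ x * v * (θ x)⁻¹) by group,
            hZc _ (pow_mem hcz k) x, pow_succ,
            show θ x * v * (θ x)⁻¹ = c * v by rw [hcdef]; group, mul_assoc]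
          simp [hcdef, mul_assoc]
      have h := hk p
      rw [hA.expo c (fix_le ⊤ hcz), one_mul, mul_inv_eq_iff_eq_mul] at h
      exact h.symm
    refine hker (index_eq_one.1 ?_)
    have h1 : (C ⊔ (S : Subgroup G)).index ∣ C.index := index_dvd_of_le le_sup_left
    have h2 : (C ⊔ (S : Subgroup G)).index ∣ (S : Subgroup G).index := index_dvd_of_le le_sup_right
    have h3 : IsPGroup p (G ⧸ C) := fun y => by
      obtain ⟨x, rfl⟩ := QuotientGroup.mk_surjective y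
      exact ⟨1, by rw [← QuotientGroup.mk_pow, pow_one, QuotientGroup.eq_one_iff]; exact hpow x⟩
    obtain ⟨k, hk⟩ := h3.exists_card_eq
    rw [← index_eq_card] at hk
    exact Nat.eq_one_of_dvd_coprimes
      (Nat.Coprime.pow_left k ((Fact.out : p.Prime).coprime_iff_not_dvd.2 S.not_dvd_index))
      (hk ▸ h1) h2
  obtain ⟨v₀, hv₀, hv₀Z⟩ := SetLike.not_le_iff_exists.1 hFZ
  set v := θ g * v₀ * (θ g)⁻¹ with hv
  have hvV : v ∈ V := hA.stable g v₀ hv₀.1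
  -- `v` is moved outside `Z` by some element
  have hv1 : comSub θ V {v} Z le_rfl ≠ ⊤ := by
    intro htop
    refine hv₀Z (mem_fix_of_conj hv₀.1 fun x _ => ?_)
    have hsub : ∀ x : G, θ x * v₀ * (θ x)⁻¹ * v₀⁻¹ ∈ Z := fun x => by
      have h := mem_comSub.1 (show g * x * g⁻¹ ∈ comSub θ V {v} Z le_rfl by
        rw [htop]; exact mem_top _) v rfl
      have e : θ (g * x * g⁻¹) * v * (θ (g * x * g⁻¹))⁻¹ * v⁻¹ =
          θ g * (θ x * v₀ * (θ x)⁻¹ * v₀⁻¹) * (θ g)⁻¹ := by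
        rw [map_mul, map_mul, map_inv, hv]; group
      rw [e] at h
      have h' := hZc _ h g⁻¹
      rw [map_inv, show (θ g)⁻¹ * (θ g * (θ x * v₀ * (θ x)⁻¹ * v₀⁻¹) * (θ g)⁻¹) * (θ g)⁻¹⁻¹ =
        θ x * v₀ * (θ x)⁻¹ * v₀⁻¹ by group] at h'
      rw [h']; exact h
    have hK : (centralizer {v₀}).comap θ = ⊤ := by
      refine hg _ (fun a ha => mem_centralizer_singleton_iff.2 ?_)
        ⟨s₀, hs₀, hs₀Q, mem_centralizer_singleton_iff.2 ((mem_fix.1 hv₀).2 s₀ hs₀)⟩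
      refine mul_inv_eq_iff_eq_mul.1 ?_
      have e1 : θ g⁻¹ * v₀ * (θ g⁻¹)⁻¹ = (θ g⁻¹ * v₀ * (θ g⁻¹)⁻¹ * v₀⁻¹) * v₀ := by group
      rw [map_mul, map_mul, show θ g * θ a * θ g⁻¹ * v₀ * (θ g * θ a * θ g⁻¹)⁻¹ =
        θ g * (θ a * (θ g⁻¹ * v₀ * (θ g⁻¹)⁻¹) * (θ a)⁻¹) * (θ g)⁻¹ by group, e1,
        show θ a * (θ g⁻¹ * v₀ * (θ g⁻¹)⁻¹ * v₀⁻¹ * v₀) * (θ a)⁻¹ =
          (θ a * (θ g⁻¹ * v₀ * (θ g⁻¹)⁻¹ * v₀⁻¹) * (θ a)⁻¹) * (θ a * v₀ * (θ a)⁻¹) by group,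
        hZc _ (hsub g⁻¹) a, conj_eq_of_mem_fix hv₀ ha, ← e1, map_inv]
      group
    exact mul_inv_eq_iff_eq_mul.2 (mem_centralizer_singleton_iff.1
      (show x ∈ (centralizer {v₀}).comap θ by rw [hK]; exact mem_top x))
  set S₂ := (S : Subgroup G).map (MulAut.conj g).toMonoidHom with hS₂
  have hvS₂ : v ∈ fix θ V S₂ := by
    refine mem_fix_of_conj hvV ?_
    rintro _ ⟨a, ha, rfl⟩
    simp only [MulEquiv.coe_toMonoidHom, MulAut.conj_apply, map_mul, map_inv, hv]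
    have := conj_eq_of_mem_fix hv₀ ha
    conv_rhs => rw [← this]
    group
  let f : ↥(S : Subgroup G) → C₁ ⧸ Z.subgroupOf C₁ := fun a =>
    QuotientGroup.mk ⟨θ a * v * (θ a)⁻¹ * v⁻¹, hquad v hvV a a.2⟩
  have hfib : ∀ a b : (S : Subgroup G), f a = f b → (a : G)⁻¹ * b ∈ Cfsg.pCore p G := by
    intro a b hab
    by_contra hne
    have hab' := QuotientGroup.eq.1 hab
    rw [mem_subgroupOf] at hab'
    have hm : (a : G)⁻¹ * b ∈ comSub θ V {v} Z le_rfl := by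
      rintro _ rfl
      exact sub_mem_of_eq (fun z hz => hZc z hz _) hab'
        (hA.comm v hvV _ (mul_mem (inv_mem (hA.conj_sub hvV)) (hA.conj_sub hvV)))
    refine hv1 (hg _ (fun c hc' => ?_) ⟨_, mul_mem (inv_mem a.2) b.2, hne, hm⟩)
    rintro _ rfl
    rw [conj_eq_of_mem_fix hvS₂ (show g * c * g⁻¹ ∈ S₂ from ⟨c, hc', rfl⟩)]
    simp
  have h1 := card_le_of_fibres (S : Subgroup G) (Cfsg.pCore p G) f hfib (Equiv.refl _)
  have hZC : Z ≤ C₁ := fix_anti le_top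
  have h2 : Nat.card C₁ = Nat.card (C₁ ⧸ Z.subgroupOf C₁) * Nat.card Z := by
    rw [card_eq_card_quotient_mul_card_subgroup (Z.subgroupOf C₁),
      Nat.card_congr (subgroupOfEquivOfLe hZC).toEquiv]
  have h3 : Nat.card (fix θ V S₂) = Nat.card C₁ := by
    have : fix θ V S₂ = C₁.map (MulAut.conj (θ g)).toMonoidHom := by
      ext w
      rw [mem_map_equiv, MulAut.conj_symm_apply]
      constructor
      · intro hw
        refine mem_fix_of_conj (by simpa [map_inv] using hA.stable g⁻¹ w hw.1) fun a ha => ?_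
        have := conj_eq_of_mem_fix hw (b := g * a * g⁻¹) ⟨a, ha, rfl⟩
        rw [map_mul, map_mul, map_inv] at this
        conv_rhs => rw [← this]
        group
      · intro hw
        have hwV : w ∈ V := by
          have := hA.stable g _ hw.1
          rwa [show θ g * ((θ g)⁻¹ * w * θ g) * (θ g)⁻¹ = w by group] at this
        refine mem_fix_of_conj hwV ?_
        rintro _ ⟨a, ha, rfl⟩
        have := conj_eq_of_mem_fix hw ha
        simp only [MulEquiv.coe_toMonoidHom, MulAut.conj_apply, map_mul, map_inv]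
        conv_rhs => rw [show w = θ g * ((θ g)⁻¹ * w * θ g) * (θ g)⁻¹ by group, ← this]
        group
    rw [this, card_map_of_injective (MulAut.conj (θ g)).injective]
  refine ⟨?_, fix θ V S₂, fix_le _, h3, fun X ⟨s, hs, hsQ, hsX⟩ => ?_⟩
  · calc Nat.card (S : Subgroup G) * Nat.card Z
        ≤ Nat.card (C₁ ⧸ Z.subgroupOf C₁) * Nat.card ↥(Cfsg.pCore p G) * Nat.card Z :=
          Nat.mul_le_mul_right _ h1
      _ = _ := by rw [h2]; ring
  · refine (fix_sup _ _).trans (le_of_eq ?_)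
    rw [hZdef]
    congr 1
    exact hg _ (fun a ha => mem_sup_right ⟨a, ha, rfl⟩) ⟨s, hs, hsQ, mem_sup_left hsX⟩

/-- If `S` fixes all its commutators in `V`, it is no over-offender. -/
theorem bound_quadratic {S : Sylow p G} (hc : Core p S) (hA : Action θ V p)
    (hker : (centralizer (V : Set H)).comap θ ⊔ S ≠ ⊤)
    (hquad : ∀ w ∈ V, ∀ a ∈ (S : Subgroup G), θ a * w * (θ a)⁻¹ * w⁻¹ ∈ fix θ V S) :
    Nat.card (S : Subgroup G) * Nat.card (fix θ V (S : Subgroup G)) ≤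
      Nat.card ↥(Cfsg.pCore p G) * Nat.card V := by
  obtain ⟨h1, C₂, hC₂V, h3, h4⟩ := quadratic_facts hc hA hker hquad
  obtain ⟨s₀, hs₀, hs₀Q⟩ := SetLike.not_le_iff_exists.1 hc.ne
  have h5 := (card_mul_card_le (fix θ V (S : Subgroup G)) C₂).trans
    (Nat.mul_le_mul (card_le_of_le (h4 S ⟨s₀, hs₀, hs₀Q, hs₀⟩))
      (card_le_of_le (sup_le (fix_le _) hC₂V)))
  rw [h3] at h5
  refine Nat.le_of_mul_le_mul_right ?_ (Nat.card_pos (α := fix θ V (⊤ : Subgroup G)))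
  calc Nat.card (S : Subgroup G) * Nat.card (fix θ V (S : Subgroup G)) *
        Nat.card (fix θ V (⊤ : Subgroup G))
      = Nat.card (S : Subgroup G) * Nat.card (fix θ V (⊤ : Subgroup G)) *
          Nat.card (fix θ V (S : Subgroup G)) := by ring
    _ ≤ Nat.card (fix θ V (S : Subgroup G)) * Nat.card ↥(Cfsg.pCore p G) *
          Nat.card (fix θ V (S : Subgroup G)) := Nat.mul_le_mul_right _ h1
    _ = Nat.card ↥(Cfsg.pCore p G) *
          (Nat.card (fix θ V (S : Subgroup G)) * Nat.card (fix θ V (S : Subgroup G))) := by ring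
    _ ≤ Nat.card ↥(Cfsg.pCore p G) *
          (Nat.card (fix θ V (⊤ : Subgroup G)) * Nat.card V) := Nat.mul_le_mul_left _ h5
    _ = _ := by ring

/-- **No over-offenders over `PSL₂(q)`.** -/
theorem bound {S : Sylow p G} (hc : Core p S) (hA : Action θ V p)
    (hker : (centralizer (V : Set H)).comap θ ⊔ S ≠ ⊤) {B : Subgroup G}
    (hQB : Cfsg.pCore p G ≤ B) (hBS : B ≤ S) :
    Nat.card B * Nat.card (fix θ V B) ≤ Nat.card ↥(Cfsg.pCore p G) * Nat.card V := by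
  classical
  set Q := Cfsg.pCore p G with hQ
  haveI hQn : Q.Normal := CfsgLib.Solvable.pCore_normal p
  let m : Subgroup G → ℕ := fun B => Nat.card B * Nat.card (fix θ V B)
  let box : Set (Subgroup G) := {B | Q ≤ B ∧ B ≤ S}
  obtain ⟨A₀, hA₀, hmax⟩ := Set.exists_max_image box m (Set.toFinite _) ⟨Q, le_rfl, hc.le_S⟩
  let Top : Set (Subgroup G) := {B | B ∈ box ∧ m A₀ ≤ m B}
  obtain ⟨B₀, hB₀, hmin⟩ := Set.exists_min_image Top (fun B => Nat.card B) (Set.toFinite _)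
    ⟨A₀, hA₀, le_rfl⟩
  have hinf : ∀ B₁ ∈ Top, ∀ B₂ ∈ Top, B₁ ⊓ B₂ ∈ Top := by
    rintro B₁ ⟨hb₁, e₁⟩ B₂ ⟨hb₂, e₂⟩
    have hbi : B₁ ⊓ B₂ ∈ box := ⟨le_inf hb₁.1 hb₂.1, inf_le_left.trans hb₁.2⟩
    have hbs : B₁ ⊔ B₂ ∈ box := ⟨hb₁.1.trans le_sup_left, sup_le hb₁.2 hb₂.2⟩
    refine ⟨hbi, ?_⟩
    have hI : fix θ V B₁ ⊔ fix θ V B₂ ≤ fix θ V (B₁ ⊓ B₂) :=
      sup_le (fix_anti inf_le_left) (fix_anti inf_le_right)
    have hpos : 0 < m A₀ := Nat.mul_pos Nat.card_pos Nat.card_pos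
    refine Nat.le_of_mul_le_mul_right ?_ hpos
    calc m A₀ * m A₀ ≤ m B₁ * m B₂ := Nat.mul_le_mul e₁ e₂
      _ = (Nat.card B₁ * Nat.card B₂) * (Nat.card (fix θ V B₁) * Nat.card (fix θ V B₂)) := by ring
      _ ≤ (Nat.card ↥(B₁ ⊓ B₂) * Nat.card ↥(B₁ ⊔ B₂)) *
          (Nat.card ↥(fix θ V B₁ ⊓ fix θ V B₂) * Nat.card ↥(fix θ V B₁ ⊔ fix θ V B₂)) :=
        Nat.mul_le_mul (card_mul_card_le _ _) (card_mul_card_le _ _)
      _ ≤ (Nat.card ↥(B₁ ⊓ B₂) * Nat.card ↥(B₁ ⊔ B₂)) *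
          (Nat.card (fix θ V (B₁ ⊔ B₂)) * Nat.card (fix θ V (B₁ ⊓ B₂))) :=
        Nat.mul_le_mul_left _ (Nat.mul_le_mul (card_le_of_le (fix_sup _ _)) (card_le_of_le hI))
      _ = m (B₁ ⊓ B₂) * m (B₁ ⊔ B₂) := by ring
      _ ≤ _ := Nat.mul_le_mul_left _ (hmax _ hbs)
  have hleast : ∀ B ∈ Top, B₀ ≤ B := fun B hB => by
    have h := hmin _ (hinf _ hB₀ _ hB)
    rw [← eq_of_le_of_card_ge (inf_le_left : B₀ ⊓ B ≤ B₀) h]
    exact inf_le_right
  have hinv : ∀ x ∈ normalizer ((S : Subgroup G) : Set G), ∀ b ∈ B₀, x * b * x⁻¹ ∈ B₀ := by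
    intro x hx b hb
    set B' := B₀.map (MulAut.conj x⁻¹).toMonoidHom with hB'
    have hbox : B' ∈ box := by
      refine ⟨fun a ha => ⟨x * a * x⁻¹, hB₀.1.1 (hQn.conj_mem a ha x), by simp [mul_assoc]⟩, ?_⟩
      rintro _ ⟨a, ha, rfl⟩
      have := (mem_normalizer_iff.1 (inv_mem hx) a).1 (hB₀.1.2 ha)
      simpa using this
    have hm : m B₀ ≤ m B' := by
      refine Nat.mul_le_mul (le_of_eq (card_map_of_injective
        (MulAut.conj x⁻¹).injective).symm) ?_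
      refine Nat.card_le_card_of_injective (fun w : fix θ V B₀ =>
        (⟨θ x⁻¹ * w * (θ x⁻¹)⁻¹, mem_fix_of_conj (hA.stable _ _ w.2.1) ?_⟩ : fix θ V B')) ?_
      · rintro _ ⟨a, ha, rfl⟩
        have := conj_eq_of_mem_fix w.2 ha
        rw [show (MulAut.conj x⁻¹).toMonoidHom a = x⁻¹ * a * x⁻¹⁻¹ from rfl, map_mul, map_mul,
          map_inv θ x⁻¹]
        conv_rhs => rw [← this]
        group
      · intro u w huw
        exact Subtype.ext (mul_left_cancel (mul_right_cancel (congrArg Subtype.val huw)))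
    obtain ⟨a, ha, he⟩ := hleast B' ⟨hbox, hB₀.2.trans hm⟩ hb
    have he' : x⁻¹ * a * x = b := by simpa using he
    rw [← he', show x * (x⁻¹ * a * x) * x⁻¹ = a by group]
    exact ha
  refine (hmax B ⟨hQB, hBS⟩).trans (hB₀.2.trans ?_)
  rcases hc.irr B₀ hB₀.1.1 hB₀.1.2 hinv with h | h
  · rw [h]; exact Nat.mul_le_mul_left _ (card_le_of_le (fix_le _))
  rw [h]
  refine bound_quadratic hc hA hker fun w hw s hs => ?_
  set X : Set H := {y | ∃ a ∈ (S : Subgroup G), θ a * w * (θ a)⁻¹ * w⁻¹ = y} with hX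
  set C₁ := fix θ V (S : Subgroup G)
  set Bw := (S : Subgroup G) ⊓ (centralizer X).comap θ with hBw
  have hXV : X ⊆ (V : Set H) := by rintro _ ⟨a, _, rfl⟩; exact hA.conj_sub hw
  have hQw : Q ≤ Bw := le_inf hc.le_S
    (hA.triv.trans (comap_mono (centralizer_le hXV)))
  set T := C₁ ⊔ closure X with hT
  have hTle : T ≤ fix θ V Bw := sup_le (fix_anti inf_le_left)
    ((closure_le _).2 fun y hy => mem_fix.2
      ⟨hXV hy, fun b hb => (mem_centralizer_iff.1 hb.2 y hy).symm⟩)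
  let f : ↥(S : Subgroup G) → T ⧸ C₁.subgroupOf T := fun a =>
    QuotientGroup.mk ⟨_, mem_sup_right (subset_closure ⟨a, a.2, rfl⟩)⟩
  have hfib : ∀ a b : (S : Subgroup G), f a = f b → (a : G)⁻¹ * b ∈ Bw := by
    intro a b hab
    have hab' := QuotientGroup.eq.1 hab
    rw [mem_subgroupOf] at hab'
    have hS' : (a : G)⁻¹ * b ∈ (S : Subgroup G) := mul_mem (inv_mem a.2) b.2
    set e : G := (a : G)⁻¹ * b
    have hz : θ e * w * (θ e)⁻¹ * w⁻¹ ∈ C₁ :=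
      sub_mem_of_eq (fun z hz => conj_eq_of_mem_fix hz (inv_mem a.2)) hab'
        (hA.comm w hw _ (mul_mem (inv_mem (hA.conj_sub hw)) (hA.conj_sub hw)))
    refine ⟨hS', mem_centralizer_iff.2 ?_⟩
    rintro _ ⟨c, hc', rfl⟩
    set z := θ e * w * (θ e)⁻¹ * w⁻¹ with hzdef
    have hcom : ∀ u ∈ V, θ e * (θ c * u * (θ c)⁻¹) * (θ e)⁻¹ =
        θ c * (θ e * u * (θ e)⁻¹) * (θ c)⁻¹ := fun u hu => by
      have h := hA.core_fix (hA.stable c _ (hA.stable e u hu)) (hc.comm e hS' c hc')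
      conv_rhs => rw [← h]
      simp only [map_mul, map_inv]
      group
    symm
    refine mul_inv_eq_iff_eq_mul.1 ?_
    rw [show θ e * (θ c * w * (θ c)⁻¹ * w⁻¹) * (θ e)⁻¹ =
      (θ e * (θ c * w * (θ c)⁻¹) * (θ e)⁻¹) * (θ e * w * (θ e)⁻¹)⁻¹ by group, hcom w hw,
      show θ e * w * (θ e)⁻¹ = z * w by rw [hzdef]; group,
      show θ c * (z * w) * (θ c)⁻¹ = (θ c * z * (θ c)⁻¹) * (θ c * w * (θ c)⁻¹) by group,
      conj_eq_of_mem_fix hz hc',
      hA.comm z hz.1 (θ c * w * (θ c)⁻¹) (hA.stable c w hw), hA.comm z hz.1 w hw]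
    group
  have h1 := card_le_of_fibres (S : Subgroup G) Bw f hfib (Equiv.refl _)
  have h2 : m (S : Subgroup G) ≤ m Bw := by
    calc m (S : Subgroup G) ≤ Nat.card (T ⧸ C₁.subgroupOf T) * Nat.card Bw * Nat.card C₁ :=
          Nat.mul_le_mul_right _ h1
      _ = Nat.card Bw * Nat.card T := by
          rw [card_eq_card_quotient_mul_card_subgroup (C₁.subgroupOf T),
            Nat.card_congr (subgroupOfEquivOfLe (le_sup_left : C₁ ≤ T)).toEquiv]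
          ring
      _ ≤ _ := Nat.mul_le_mul_left _ (card_le_of_le hTle)
  have hSw : (S : Subgroup G) ≤ Bw := by
    have := hleast Bw ⟨⟨hQw, inf_le_left⟩, (h ▸ hB₀.2).trans h2⟩
    rwa [h] at this
  exact mem_fix.2 ⟨hA.conj_sub hw, fun b hb =>
    (mem_centralizer_iff.1 (hSw hb).2 _ ⟨s, hs, rfl⟩).symm⟩

end CfsgLib.PushL2
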