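import Cfsg.Agent.PushL2.Common

/-!
A twist of `V` outside `O_p(G)`: class two.
-/

set_option autoImplicit false
set_option linter.unusedSectionVars false
set_option linter.style.haveILetI false

namespace CfsgLib.PushL2

open Subgroup
open scoped commutatorElement

variable {G : Type*} [Group G] [Finite G] {p : ℕ} [Fact p.Prime]

/-- What holds when some twist of `V` is not in `O_p(G)`. -/
structure One (p : ℕ) [Fact p.Prime] (S : Sylow p G) : Prop where
  ker : kerOf (omega p G) (z0 p G) = Cfsg.pCore p G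
  top : Triv p (Cfsg.pCore p G) (omega p G)
  lcs_two : (S : Subgroup G).lowerCentralSeries 2 = ⊥
  lcs_one : (S : Subgroup G).lowerCentralSeries 1 ≠ ⊥
  exp_two : p = 2 → Monoid.exponent ↥(S : Subgroup G) = 4
  exp_odd : p ≠ 2 → Monoid.exponent ↥(S : Subgroup G) = p
  iter : Cfsg.iterCommutator (Cfsg.pCore p G) ⊤ 2 ≤ omega p G

theorem pow_mul_shift {H : Type*} [Group H] {a b c : H} (h : b * a = c * (a * b))
    (hca : Commute c a) (hcb : Commute c b) (n : ℕ) :
    (a * b) ^ n = c ^ n.choose 2 * (a ^ n * b ^ n) := by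
  have hsh : ∀ n : ℕ, b ^ n * a = c ^ n * (a * b ^ n) := fun n => by
    induction n with
    | zero => simp
    | succ n ih =>
      rw [pow_succ' b, mul_assoc, ih, ← mul_assoc b, ← (hcb.pow_left n).eq, mul_assoc,
        ← mul_assoc b a, h, pow_succ c]
      simp only [mul_assoc]
  induction n with
  | zero => simp
  | succ n ih =>
    rw [pow_succ, ih, Nat.choose_succ_succ', Nat.choose_one_right, pow_add, mul_assoc (c ^ _),
      mul_assoc (a ^ n), ← mul_assoc (b ^ n), hsh, pow_succ a, pow_succ b]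
    have h1 : a ^ n * c ^ n = c ^ n * a ^ n := ((hca.pow_pow n n).eq).symm
    have h2 : c ^ n * c ^ n.choose 2 = c ^ n.choose 2 * c ^ n := by rw [← pow_add, add_comm, pow_add]
    calc c ^ n.choose 2 * (a ^ n * (c ^ n * (a * b ^ n) * b))
        = c ^ n.choose 2 * ((a ^ n * c ^ n) * (a * (b ^ n * b))) := by simp only [mul_assoc]
      _ = (c ^ n.choose 2 * c ^ n) * (a ^ n * (a * (b ^ n * b))) := by
          rw [h1]; simp only [mul_assoc]
      _ = _ := by rw [← h2]; simp only [mul_assoc]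

theorem caseOne {S : Sylow p G} {q : ℕ} {M : Subgroup G} (N : NoChar p S q M)
    (α : ↥(S : Subgroup G) ≃* ↥(S : Subgroup G))
    (hα : ¬ img α (omega p G) ≤ Cfsg.pCore p G) : One p S := by
  set V := omega p G with hV
  set Q := Cfsg.pCore p G with hQ
  have hVS : ∀ {v}, v ∈ V → v ∈ (S : Subgroup G) := fun hv => N.core.le_S (omega_le hv)
  have hQS : Q ≤ (S : Subgroup G) := N.core.le_S
  obtain ⟨_, hy₀, hy₀Q⟩ := SetLike.not_le_iff_exists.1 hα
  obtain ⟨v₀, hv₀, -, rfl⟩ := (mem_img α).1 hy₀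
  have hy₀S : ap α v₀ ∈ (S : Subgroup G) := ap_mem α (hVS hv₀)
  -- some inverse twist of `V` is outside as well
  obtain ⟨w₀, hw₀, hw₀Q⟩ : ∃ w ∈ V, ap α.symm w ∉ Q := by
    by_contra hall
    push Not at hall
    refine hy₀Q (N.commute_conj_mem hy₀S fun w hw => ?_)
    have := ap_comm α (hVS hv₀) (ap_mem α.symm (hVS hw)) (omega_commute hv₀ (hall w hw))
    rwa [symm_ap α (hVS hw)] at this
  have hfib : ∀ v ∈ V, ap α v ∈ Q → v ∈ zs S := fun v hv hq => by
    refine N.mem_zs_of_commute (ap_mem α.symm (hVS hw₀)) hw₀Q hv ?_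
    have := ap_comm α.symm (ap_mem α (hVS hv)) (hVS hw₀) (omega_commute hw₀ hq).symm
    rw [ap_symm α (hVS hv)] at this
    exact this.symm
  -- `S = α(V) O_p(G)`
  have hcov : ∀ s ∈ (S : Subgroup G), ∃ v ∈ V, (ap α v)⁻¹ * s ∈ Q := by
    intro s hs
    obtain ⟨v, hv⟩ := Amb.cover N (fun v => ⟨ap α v, ap_mem α (hVS v.2)⟩)
      (Q.subgroupOf (S : Subgroup G)) (Nat.card_congr (subgroupOfEquivOfLe hQS).toEquiv)
      (fun u v huv => hfib _ (V.mul_mem (V.inv_mem u.2) v.2) (by
        rw [ap_mul α ((S : Subgroup G).inv_mem (hVS u.2)) (hVS v.2), ap_inv α (hVS u.2)]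
        exact huv)) ⟨s, hs⟩
    exact ⟨v, v.2, hv⟩
  -- the kernel on `O_p(G)/V`
  set K := kerOf Q V with hK
  have hyK : ∀ v ∈ V, ap α v ∈ K := fun v hv => mem_kerOf.2 fun r hr => by
    have h := zs_le_V ((zs S).inv_mem (N.quad_ap α hv (hQS hr)))
    rwa [show (r * ap α v * r⁻¹ * (ap α v)⁻¹)⁻¹ = ap α v * r * (ap α v)⁻¹ * r⁻¹ by group] at h
  have hcop : ∀ g : G, (orderOf g).Coprime p → g ∈ K := fun g hg =>
    coprime_mem N.core K hy₀S (hyK v₀ hv₀) hy₀Q hg
  have htop : Triv p Q V := fun g hg => mem_kerOf.1 (hcop g hg)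
  set X := Q ⊓ centralizer (K : Set G) with hX
  have hXfix : ∀ g : G, (orderOf g).Coprime p → ∀ x ∈ X, g * x = x * g := fun g hg x hx =>
    mem_centralizer_iff.1 hx.2 g (hcop g hg)
  haveI hXn : X.Normal := by rw [hX]; infer_instance
  have hcommX : ∀ r ∈ Q, ∀ r' ∈ Q, r * r' * r⁻¹ * r'⁻¹ ∈ X := fun r hr r' hr' =>
    ⟨Q.mul_mem (Q.mul_mem (Q.mul_mem hr hr') (Q.inv_mem hr)) (Q.inv_mem hr'),
      mem_centralizer_iff.2 fun k hk =>
        fix_commutator hr hr' (mem_kerOf.1 hk r hr) (mem_kerOf.1 hk r' hr')⟩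
  have hpowX : ∀ r ∈ Q, r ^ p ∈ X := fun r hr =>
    ⟨Q.pow_mem hr p, mem_centralizer_iff.2 fun k hk => fix_pow hr (mem_kerOf.1 hk r hr)⟩
  have hz0X : z0 p G ≤ X := fun z hz =>
    ⟨omega_le hz.1, mem_centralizer_iff.2 fun k _ => z0_central hz k⟩
  set π := QuotientGroup.mk' X with hπ
  have hπX : ∀ {x}, x ∈ X → π x = 1 := fun hx => (QuotientGroup.eq_one_iff _).2 hx
  -- first derived
  have hYcomm : ∀ v ∈ V, ∀ v' ∈ V, ap α v * ap α v' = ap α v' * ap α v := fun v hv v' hv' =>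
    ap_comm α (hVS hv) (hVS hv') (omega_commute hv (omega_le hv'))
  have hS1 : ∀ s ∈ (S : Subgroup G), ∀ t ∈ (S : Subgroup G), s * t * s⁻¹ * t⁻¹ ∈ zs S ⊔ X := by
    intro s hs t ht
    obtain ⟨v, hv, hr⟩ := hcov s hs
    obtain ⟨v', hv', hr'⟩ := hcov t ht
    set y := ap α v; set y' := ap α v'
    set r := y⁻¹ * s with hrdef; set r' := y'⁻¹ * t with hr'def
    have hc : y * y' = y' * y := hYcomm v hv v' hv'
    have hzc : ∀ {z}, z ∈ zs S → ∀ u ∈ (S : Subgroup G), u * z * u⁻¹ = z := fun hz u hu => by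
      rw [((mem_zs N.core).1 hz).2.2 u hu, mul_inv_cancel_right]
    have e : s * t * s⁻¹ * t⁻¹ = y * (r * y' * r⁻¹ * y'⁻¹) * y⁻¹ *
        ((y * y') * (r * r' * r⁻¹ * r'⁻¹) * (y * y')⁻¹) *
        (y' * (r' * y * r'⁻¹ * y⁻¹)⁻¹ * y'⁻¹) := by
      rw [show s = y * r by rw [hrdef]; group, show t = y' * r' by rw [hr'def]; group]
      simp only [_root_.mul_inv_rev, inv_inv, mul_assoc]
      have hc' : y'⁻¹ * (y⁻¹ * (y' * (y * (r' * (y⁻¹ * (r'⁻¹ * y'⁻¹)))))) =
          r' * (y⁻¹ * (r'⁻¹ * y'⁻¹)) := by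
        rw [← mul_assoc y' y, ← hc]; group
      rw [inv_mul_cancel_left, hc']
      group
    have hys : y ∈ (S : Subgroup G) := ap_mem α (hVS hv)
    have hys' : y' ∈ (S : Subgroup G) := ap_mem α (hVS hv')
    rw [e, hzc (N.quad_ap α hv' (hQS hr)) y hys,
      hzc ((zs S).inv_mem (N.quad_ap α hv (hQS hr'))) y' hys']
    exact mul_mem (mul_mem (mem_sup_left (N.quad_ap α hv' (hQS hr)))
      (mem_sup_right (hXn.conj_mem _ (hcommX r hr r' hr') _)))
      (mem_sup_left ((zs S).inv_mem (N.quad_ap α hv (hQS hr'))))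
  have hlcs1 : (S : Subgroup G).lowerCentralSeries 1 ≤ zs S ⊔ X :=
    commutator_le.2 fun s hs t ht => by rw [commutatorElement_def]; exact hS1 s hs t ht
  have hlcs2 : (S : Subgroup G).lowerCentralSeries 2 = ⊥ := by
    refine N.lcs_eq_bot hXfix 2 (commutator_le.2 fun x hx t ht => ?_)
    have hle : zs S ⊔ X ≤ (centralizer {π t}).comap π := sup_le
      (fun z hz => mem_centralizer_singleton_iff.2 (by
        rw [← map_mul, ← map_mul, ((mem_zs N.core).1 hz).2.2 t ht]))
      fun x hx => mem_centralizer_singleton_iff.2 (by rw [hπX hx, mul_one, one_mul])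
    rw [commutatorElement_def, ← QuotientGroup.eq_one_iff]
    show π (x * t * x⁻¹ * t⁻¹) = 1
    rw [map_mul, map_mul, map_mul, map_inv, map_inv,
      mem_centralizer_singleton_iff.1 (hle (hlcs1 hx))]
    group
  have hlcs1ne : (S : Subgroup G).lowerCentralSeries 1 ≠ ⊥ := by
    intro h
    obtain ⟨s, hs, hsQ⟩ := SetLike.not_le_iff_exists.1 N.core.ne
    refine N.zs_ne_V fun v hv => N.mem_zs_of_commute hs hsQ hv ?_
    have : ⁅s, v⁆ ∈ (S : Subgroup G).lowerCentralSeries 1 :=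
      commutator_mem_commutator (by simpa using hs) (hVS hv)
    rw [h, mem_bot, commutatorElement_eq_one_iff_mul_comm] at this
    exact this
  have hp := (Fact.out : p.Prime)
  have hpw : ∀ s ∈ (S : Subgroup G), ∃ z ∈ zs S, π (s ^ p) = π z ^ p.choose 2 := by
    intro s hs
    obtain ⟨v, hv, hr⟩ := hcov s hs
    set y := ap α v; set r := y⁻¹ * s with hrdef
    have hz := N.quad_ap α hv (hQS hr)
    have hzc := ((mem_zs N.core).1 hz).2.2
    have hys : y ∈ (S : Subgroup G) := ap_mem α (hVS hv)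
    have hpw := pow_mul_shift (a := π y) (b := π r) (c := π (r * y * r⁻¹ * y⁻¹))
      (by rw [← map_mul, ← map_mul, ← map_mul]; congr 1; group)
      ((show Commute (r * y * r⁻¹ * y⁻¹) y from (hzc y hys).symm).map π)
      ((show Commute (r * y * r⁻¹ * y⁻¹) r from (hzc r (hQS hr)).symm).map π) p
    refine ⟨_, hz, ?_⟩
    rw [show s = y * r by rw [hrdef]; group, map_pow, map_mul, hpw, ← map_pow π y,
      ← map_pow π r, show y ^ p = 1 by rw [← ap_pow α (hVS hv), hv.2, ap_one],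
      map_one, hπX (hpowX r hr), mul_one, mul_one]
  have hnontriv : Nontrivial ↥(S : Subgroup G) :=
    (Subgroup.nontrivial_iff_ne_bot _).2 fun h => N.core.ne (h ▸ bot_le)
  refine ⟨?_, htop, hlcs2, hlcs1ne, fun h2 => ?_, fun h2 => ?_, ?_⟩
  · refine le_antisymm (le_pCore_of_coprime fun g hg hgp => ?_) N.linesV.core_le_kerOf
    refine eq_one_of_coprime N.core hgp fun r hr => ?_
    have hfixV : ∀ v ∈ V, g * v = v * g := fun v hv =>
      commute_of_shift' hgp rfl (omega_le (mem_kerOf.1 hg v hv).1)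
        (z0_central (mem_kerOf.1 hg v hv) g)
    exact commute_of_shift' hgp rfl (omega_le (htop g hgp r hr)) (hfixV _ (htop g hgp r hr))
  · subst h2
    have h4 : ∀ s ∈ (S : Subgroup G), s ^ 4 = 1 := N.pow_eq_one hXfix 4 fun s hs => by
      obtain ⟨z, hz, e⟩ := hpw s hs
      rw [Nat.choose_self, pow_one] at e
      refine (QuotientGroup.eq_one_iff _).1 ?_
      show π (s ^ 4) = 1
      rw [show (4 : ℕ) = 2 * 2 from rfl, pow_mul, map_pow, e, ← map_pow,
        ((mem_zs N.core).1 hz).2.1, map_one]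
    have hdvd : Monoid.exponent ↥(S : Subgroup G) ∣ 2 ^ 2 :=
      Monoid.exponent_dvd_of_forall_pow_eq_one fun s => Subtype.ext (by simpa using h4 s s.2)
    obtain ⟨k, hk, he⟩ := (Nat.dvd_prime_pow Nat.prime_two).1 hdvd
    have hk2 : ¬ k ≤ 1 := fun hk1 => hlcs1ne (le_bot_iff.1 (commutator_le.2 fun s hs t ht => by
      have h2 : ∀ u ∈ (S : Subgroup G), u * u = 1 := fun u hu => by
        have := Monoid.pow_exponent_eq_one (⟨u, hu⟩ : ↥(S : Subgroup G))
        have h' : (⟨u, hu⟩ : ↥(S : Subgroup G)) ^ 2 = 1 :=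
          orderOf_dvd_iff_pow_eq_one.1 ((orderOf_dvd_of_pow_eq_one this).trans
            (he ▸ (pow_dvd_pow 2 hk1).trans (by norm_num)))
        simpa [sq] using congrArg Subtype.val h'
      have hs' : s ∈ (S : Subgroup G) := by simpa using hs
      have hi : ∀ u ∈ (S : Subgroup G), u⁻¹ = u := fun u hu => inv_eq_of_mul_eq_one_left (h2 u hu)
      rw [mem_bot, commutatorElement_def, hi s hs', hi t ht, mul_assoc]
      exact h2 _ ((S : Subgroup G).mul_mem hs' ht)))
    rw [he, show k = 2 by omega]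
    norm_num
  · have h1 : ∀ s ∈ (S : Subgroup G), s ^ p = 1 := N.pow_eq_one hXfix p fun s hs => by
      obtain ⟨z, hz, e⟩ := hpw s hs
      refine (QuotientGroup.eq_one_iff _).1 ?_
      obtain ⟨j, hj⟩ : p ∣ p.choose 2 :=
        hp.dvd_choose_self two_ne_zero (lt_of_le_of_ne hp.two_le (Ne.symm h2))
      show π (s ^ p) = 1
      rw [e, hj, pow_mul, ← map_pow, ((mem_zs N.core).1 hz).2.1, map_one, one_pow]
    have hdvd : Monoid.exponent ↥(S : Subgroup G) ∣ p :=
      Monoid.exponent_dvd_of_forall_pow_eq_one fun s => Subtype.ext (by simpa using h1 s s.2)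
    refine (hp.eq_one_or_self_of_dvd _ hdvd).resolve_left fun h => ?_
    exact not_subsingleton ↥(S : Subgroup G) (Monoid.exp_eq_one_iff.1 h)
  · -- hypercentral
    set D := ⁅Q, Q⁆ with hD
    have hDc : D ≤ center G := by
      have hDX : D ≤ X := commutator_le.2 fun a ha b hb => by
        rw [commutatorElement_def]; exact hcommX a ha b hb
      intro d hd
      rw [mem_center_iff]
      have htopd : centralizer ({d} : Set G) = ⊤ := by
        refine eq_top_of_coprime S (fun s hs => mem_centralizer_singleton_iff.2 ?_)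
          fun g hg => mem_centralizer_singleton_iff.2 (hXfix g hg d (hDX hd))
        have hd2 : ⁅d, s⁆ ∈ (S : Subgroup G).lowerCentralSeries 2 := by
          refine commutator_mem_commutator ?_ hs
          exact commutator_mono (hQS.trans (by simp)) hQS hd
        rw [hlcs2, mem_bot, commutatorElement_eq_one_iff_mul_comm] at hd2
        exact hd2.symm
      exact fun g => mem_centralizer_singleton_iff.1 (htopd ▸ mem_top g)
    have h1 : Cfsg.iterCommutator Q ⊤ 1 ≤ V ⊔ D := by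
      show ⁅Q, (⊤ : Subgroup G)⁆ ≤ V ⊔ D
      haveI : (V ⊔ D).Normal := inferInstance
      have hker : kerOf Q (V ⊔ D) = ⊤ := by
        refine eq_top_of_coprime S (fun s hs => mem_kerOf.2 fun r hr => ?_)
          fun g hg => mem_kerOf.2 fun r hr => mem_sup_left (htop g hg r hr)
        obtain ⟨v, hv, hr'⟩ := hcov s hs
        have h1 : ap α v ∈ kerOf Q (V ⊔ D) :=
          mem_kerOf.2 fun r hr => mem_sup_left (mem_kerOf.1 (hyK v hv) r hr)
        have h2 : (ap α v)⁻¹ * s ∈ kerOf Q (V ⊔ D) := mem_kerOf.2 fun r hr => by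
          have := commutator_mem_commutator hr' hr
          rw [commutatorElement_def] at this
          exact mem_sup_right this
        have := mem_kerOf.1 ((kerOf Q (V ⊔ D)).mul_mem h1 h2) r hr
        rwa [mul_inv_cancel_left] at this
      refine commutator_le.2 fun r hr g _ => ?_
      have := (V ⊔ D).inv_mem (mem_kerOf.1 (hker ▸ mem_top g) r hr)
      rw [commutatorElement_def]
      rwa [show (g * r * g⁻¹ * r⁻¹)⁻¹ = r * g * r⁻¹ * g⁻¹ by group] at this
    refine (commutator_mono h1 le_rfl).trans (commutator_le.2 fun x hx g _ => ?_)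
    obtain ⟨v, hv, d, hd, rfl⟩ := mem_sup_of_normal_left.1 hx
    rw [commutatorElement_def, show v * d * g * (v * d)⁻¹ * g⁻¹ = v * (d * g) * d⁻¹ * v⁻¹ * g⁻¹ by
      group, ← mem_center_iff.1 (hDc hd) g]
    rw [show v * (g * d) * d⁻¹ * v⁻¹ * g⁻¹ = v * (g * v⁻¹ * g⁻¹) by group]
    exact V.mul_mem hv (omega_normal.conj_mem _ (V.inv_mem hv) g)

end CfsgLib.PushL2
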