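import Cfsg.Agent.PushL2.Thompson

/-!
The three pushing-up cases over a quotient `PSL₂(q)`.
-/

set_option autoImplicit false
set_option linter.unusedSectionVars false
set_option linter.style.haveILetI false

namespace CfsgLib.PushL2

open Subgroup
open scoped commutatorElement

variable {G : Type*} [Group G] [Finite G] {p : ℕ} [Fact p.Prime] {S : Sylow p G}

theorem normalClosure_le_centralizer {T : Subgroup G} [T.Normal]
    (hT : T ≤ Cfsg.centerThompsonAOf (S : Subgroup G)) :
    normalClosure (jOf (S : Subgroup G) : Set G) ≤ centralizer (T : Set G) :=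
  normalClosure_le_normal ((jOf_le_centralizer_zj _).trans (centralizer_le hT))

theorem yv_le_core (hc : Core p S) (hZ : ¬ centerIn (S : Subgroup G) ≤ center G) :
    yv S ≤ Cfsg.pCore p G :=
  sup_le omega_le (zj_le_core hc hZ)

/-- The power case. -/
theorem powers_le_center (hc : Core p S) (hZ : ¬ centerIn (S : Subgroup G) ≤ center G)
    (hJ : ¬ jOf (S : Subgroup G) ≤ Cfsg.pCore p G) :
    Cfsg.powerClosure p 1 (centerIn (S : Subgroup G)) ≤ center G := by
  haveI := yv_normal hc hZ hJ
  set P := Cfsg.powerClosure p 1 (yv S) with hP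
  have hPle : P ≤ Cfsg.centerThompsonAOf (S : Subgroup G) := by
    refine (closure_le _).2 ?_
    rintro _ ⟨x, hx, rfl⟩
    obtain ⟨v, hv, y, hy, rfl⟩ := mem_yv.1 hx
    rw [pow_one, (show Commute v y from omega_commute hv (zj_le_core hc hZ hy)).mul_pow, hv.2,
      one_mul]
    exact pow_mem hy p
  haveI hPn : P.Normal := by
    refine ⟨fun x hx g => ?_⟩
    have hle : P ≤ P.comap (MulAut.conj g).toMonoidHom := by
      refine (closure_le _).2 ?_
      rintro _ ⟨a, ha, rfl⟩
      refine subset_closure ⟨g * a * g⁻¹, (inferInstance : (yv S).Normal).conj_mem a ha g, ?_⟩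
      simp
    exact hle hx
  refine le_center_of_le_centralizer S ?_ (normalClosure_sup_eq_top hc hJ) ?_
  · exact (closure_le _).2 fun _ ⟨x, hx, he⟩ => he ▸ pow_mem hx _
  · refine (normalClosure_le_centralizer hPle).trans (centralizer_le ?_)
    refine (closure_le _).2 ?_
    rintro _ ⟨x, hx, rfl⟩
    exact subset_closure ⟨x, mem_sup_right (centerIn_le_zj _ hx), rfl⟩

/-- `[Z(J(S)) Ω₁Z(O_p(G)), O_p(G)]`. -/
def dOf (S : Sylow p G) : Subgroup G := ⁅yv S, Cfsg.pCore p G⁆

theorem dOf_spec (hc : Core p S) (hZ : ¬ centerIn (S : Subgroup G) ≤ center G)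
    (hJ : ¬ jOf (S : Subgroup G) ≤ Cfsg.pCore p G) :
    (dOf S).Normal ∧ dOf S ≤ Cfsg.centerThompsonAOf (S : Subgroup G) ∧
      ⁅Cfsg.centerThompsonAOf (S : Subgroup G), (S : Subgroup G)⁆ ≤ dOf S ∧
      normalClosure (jOf (S : Subgroup G) : Set G) ≤ centralizer (dOf S : Set G) := by
  haveI := yv_normal hc hZ hJ
  haveI hn : (dOf S).Normal := commutator_normal (yv S) (Cfsg.pCore p G)
  have hle : dOf S ≤ Cfsg.centerThompsonAOf (S : Subgroup G) := by
    refine commutator_le.2 fun x hx q hq => ?_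
    obtain ⟨v, hv, y, hy, rfl⟩ := mem_yv.1 hx
    have h1 := omega_commute hv
      (mul_mem (mul_mem (mul_mem (zj_le_core hc hZ hy) hq) (inv_mem (zj_le_core hc hZ hy)))
        (inv_mem hq))
    have h2 := omega_commute hv hq
    have e : ⁅v * y, q⁆ = ⁅y, q⁆ := by
      rw [commutatorElement_def, commutatorElement_def]
      calc v * y * q * (v * y)⁻¹ * q⁻¹ = v * (y * q * y⁻¹ * q⁻¹) * (q * v⁻¹ * q⁻¹) := by group
        _ = (y * q * y⁻¹ * q⁻¹) * v * (q * v⁻¹ * q⁻¹) := by rw [h1]
        _ = (y * q * y⁻¹ * q⁻¹) * (v * q) * v⁻¹ * q⁻¹ := by group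
        _ = _ := by rw [h2]; group
    rw [e, commutatorElement_def, mul_assoc y q, mul_assoc y]
    exact mul_mem hy (zj_conj_mem (hc.le_S hq) (inv_mem hy))
  refine ⟨hn, hle, commutator_le.2 fun y hy s hs => ?_,
    normalClosure_le_centralizer hle⟩
  let π := QuotientGroup.mk' (dOf S)
  have hSC : (S : Subgroup G) ≤
      (centralizer ((Cfsg.centerThompsonAOf (S : Subgroup G)).map π :
        Set (G ⧸ dOf S))).comap π := by
    refine le_of_eq_of_le (jOf_sup_core hc hJ).symm ?_
    refine sup_le (fun j hj => mem_centralizer_iff.2 ?_) fun q hq => mem_centralizer_iff.2 ?_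
    all_goals rintro _ ⟨z, hz, rfl⟩
    · rw [← map_mul, ← map_mul, mem_centralizer_iff.1 (jOf_le_centralizer_zj _ hj) z hz]
    · refine mul_inv_eq_iff_eq_mul.1 (mul_inv_eq_one.1 ?_)
      rw [← map_mul, ← map_inv, ← map_mul, ← map_inv, ← map_mul]
      exact (QuotientGroup.eq_one_iff _).2
        (commutator_mem_commutator (mem_sup_right hz : z ∈ yv S) hq)
  have h := mem_centralizer_iff.1 (hSC hs) _ (mem_map_of_mem π hy)
  refine (QuotientGroup.eq_one_iff _).1 ?_
  show π ⁅y, s⁆ = 1
  rw [commutatorElement_def, map_mul, map_mul, map_mul, map_inv, map_inv, h]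
  group

/-- The commutator case. -/
theorem commutator_le_center (hc : Core p S) (hZ : ¬ centerIn (S : Subgroup G) ≤ center G)
    (hJ : ¬ jOf (S : Subgroup G) ≤ Cfsg.pCore p G) :
    ⁅Cfsg.centerThompsonAOf (S : Subgroup G), (S : Subgroup G)⁆ ⊓ centerIn (S : Subgroup G) ≤
      center G := by
  obtain ⟨-, -, h1, h2⟩ := dOf_spec hc hZ hJ
  exact le_center_of_le_centralizer S inf_le_right (normalClosure_sup_eq_top hc hJ)
    (h2.trans (centralizer_le (inf_le_left.trans h1)))

/-- An element of `Ω₁Z(O_p(G))` fixed by `S` modulo the fixed points of `N = ⟨J(S)^G⟩` is fixed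
by `S`. -/
theorem commute_of_shift (hc : Core p S) (hZ : ¬ centerIn (S : Subgroup G) ≤ center G)
    (hJ : ¬ jOf (S : Subgroup G) ≤ Cfsg.pCore p G) {v : G} (hv : v ∈ omega p G)
    (h : ∀ s ∈ (S : Subgroup G), s * v * s⁻¹ * v⁻¹ ∈
      omega p G ⊓ centralizer (normalClosure (jOf (S : Subgroup G) : Set G) : Set G)) :
    ∀ s ∈ (S : Subgroup G), s * v = v * s := by
  set N := normalClosure (jOf (S : Subgroup G) : Set G) with hN
  set Z₀ := omega p G ⊓ centralizer (N : Set G) with hZ₀
  haveI : Z₀.Normal := inferInstance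
  set θ := QuotientGroup.mk' Z₀ with hθ
  set W := (omega p G).map θ with hW
  haveI hWn : W.Normal := omega_normal.map θ (QuotientGroup.mk'_surjective _)
  have hNS := normalClosure_sup_eq_top hc hJ
  have hact : Action θ W p :=
    { comm := by
        rintro _ ⟨a, ha, rfl⟩ _ ⟨b, hb, rfl⟩
        rw [← map_mul, ← map_mul, omega_commute ha (omega_le hb)]
      expo := by
        rintro _ ⟨a, ha, rfl⟩
        rw [← map_pow, ha.2, map_one]
      stable := fun g w hw => hWn.conj_mem w hw _
      triv := fun a ha => mem_centralizer_iff.2 (by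
        rintro _ ⟨b, hb, rfl⟩
        rw [← map_mul, ← map_mul, omega_commute hb ha]) }
  have hker : (centralizer (W : Set (G ⧸ Z₀))).comap θ ⊔ S ≠ ⊤ := by
    intro htop
    haveI := hact.ker_normal
    refine centralizer_omega_sup_ne hc hZ (eq_top_of_coprime S le_sup_right fun g hg =>
      mem_sup_left (mem_centralizer_iff.2 fun u hu => ?_))
    have hgW := mem_centralizer_iff.1 (mem_of_coprime_of_sup_eq_top S htop hg) _
      (mem_map_of_mem θ hu)
    rw [← map_mul, ← map_mul] at hgW
    have hd : (u * g)⁻¹ * (g * u) ∈ Z₀ := QuotientGroup.eq.1 hgW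
    set c := g * u * g⁻¹ * u⁻¹ with hcdef
    have hcZ : c ∈ Z₀ := by
      have : c = (u * g) * ((u * g)⁻¹ * (g * u)) * (u * g)⁻¹ * (u * (g * g⁻¹) * u⁻¹) := by
        rw [hcdef]; group
      rw [this, mul_inv_cancel, mul_one, mul_inv_cancel, mul_one]
      exact Normal.conj_mem inferInstance _ hd _
    have := eq_one_of_shift (g := g) (x := u) (c := c) (by rw [hcdef]; group)
      (mem_centralizer_iff.1 hcZ.2 g (mem_of_coprime_of_sup_eq_top S hNS hg)) hg (k := 1)
      (by rw [pow_one]; exact hcZ.1.2)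
    rw [hcdef, mul_inv_eq_one] at this
    exact (mul_inv_eq_iff_eq_mul.1 this).symm
  have hcard : ∀ X : Subgroup G, Z₀ ≤ X →
      Nat.card X = Nat.card Z₀ * Nat.card (X.map θ) := fun X hX => by
    rw [← relIndex_ker, QuotientGroup.ker_mk', ← relIndex_bot_left, ← relIndex_bot_left,
      relIndex_mul_relIndex _ _ _ bot_le hX]
  have hmem : ∀ A ∈ fa (S : Subgroup G), v ∈ A := by
    intro A hA
    set P := omega p G ⊓ (fix θ W A).comap θ with hP
    have hZP : Z₀ ≤ P := fun z hz => ⟨hz.1, by
      show θ z ∈ fix θ W A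
      rw [show θ z = 1 from (QuotientGroup.eq_one_iff z).2 hz]; exact one_mem _⟩
    have hAP : omega p G ⊓ A ≤ P := fun u hu => ⟨hu.1, mem_fix.2 ⟨mem_map_of_mem θ hu.1,
      fun a ha => by rw [← map_mul, ← map_mul, fa_comm hA ha hu.2]⟩⟩
    have h1 := card_mul_fix_le hc hact hker hA
    have h2 : Nat.card (P.map θ) ≤ Nat.card (fix θ W A) :=
      card_le_of_le (map_le_iff_le_comap.2 inf_le_right)
    obtain ⟨-, -, heq⟩ := prime'_spec hc hZ hA
    have h3 : Nat.card A * Nat.card P ≤ Nat.card A * Nat.card ↥(omega p G ⊓ A) := by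
      calc Nat.card A * Nat.card P = Nat.card Z₀ * (Nat.card A * Nat.card (P.map θ)) := by
            rw [hcard P hZP]; ring
        _ ≤ Nat.card Z₀ * (Nat.card ↥(A ⊓ Cfsg.pCore p G) * Nat.card W) :=
            Nat.mul_le_mul_left _ ((Nat.mul_le_mul_left _ h2).trans h1)
        _ = _ := by rw [heq, hcard (omega p G) inf_le_left]; ring
    have hvP : v ∈ P := ⟨hv, mem_fix_of_conj (mem_map_of_mem θ hv) fun a ha => by
      rw [← mul_inv_eq_one, ← map_mul, ← map_inv, ← map_mul, ← map_inv, ← map_mul]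
      exact (QuotientGroup.eq_one_iff _).2 (h a (hA.2.1 ha))⟩
    rw [← eq_of_le_of_card_ge hAP (Nat.le_of_mul_le_mul_left h3 Nat.card_pos)] at hvP
    exact hvP.2
  intro s hs
  have hle : (S : Subgroup G) ≤ centralizer {v} := by
    rw [← jOf_sup_core hc hJ]
    exact sup_le (sSup_le fun A hA a ha => mem_centralizer_singleton_iff.2
        (fa_comm hA ha (hmem A hA)))
      fun q hq => mem_centralizer_singleton_iff.2 (omega_commute hv hq).symm
  exact mem_centralizer_singleton_iff.1 (hle hs)

/-- The elements of order prime to `p` in `S` centralise `Z(J(S))`. -/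
theorem commute_zj (hc : Core p S) (hZ : ¬ centerIn (S : Subgroup G) ≤ center G)
    (hJ : ¬ jOf (S : Subgroup G) ≤ Cfsg.pCore p G) {x : G} (hxS : x ∈ (S : Subgroup G))
    (hx : x ∈ closure {g : G | (orderOf g).Coprime p}) {y : G}
    (hy : y ∈ Cfsg.centerThompsonAOf (S : Subgroup G)) : y * x = x * y := by
  classical
  haveI hYVn := yv_normal hc hZ hJ
  obtain ⟨hDn, hDY, hYS, hDN⟩ := dOf_spec hc hZ hJ
  haveI := hDn
  set N := normalClosure (jOf (S : Subgroup G) : Set G) with hN
  have hNS := normalClosure_sup_eq_top hc hJ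
  set D := dOf S
  have hyc : y ∈ yv S := mem_sup_right hy
  -- everything moves `Z(J(S))` only inside `D ⊔ Ω₁Z(O_p(G))`
  set E := omega p G ⊔ D
  let πE := QuotientGroup.mk' E
  haveI : ((yv S).map πE).Normal := hYVn.map πE (QuotientGroup.mk'_surjective _)
  have hE : ∀ g : G, y⁻¹ * (g * y * g⁻¹) ∈ E := by
    have hC : (centralizer ((yv S).map πE : Set (G ⧸ E))).comap πE = ⊤ := by
      rw [eq_top_iff, ← hNS]
      have hj : jOf (S : Subgroup G) ≤ (centralizer ((yv S).map πE : Set (G ⧸ E))).comap πE := by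
        intro j hj
        refine mem_centralizer_iff.2 ?_
        rintro _ ⟨u, hu, rfl⟩
        obtain ⟨v, hv, z, hz, rfl⟩ := mem_yv.1 hu
        have hv1 : πE v = 1 := (QuotientGroup.eq_one_iff v).2 (mem_sup_left hv)
        rw [map_mul, hv1, one_mul, ← map_mul, ← map_mul,
          mem_centralizer_iff.1 (jOf_le_centralizer_zj _ hj) z hz]
      refine sup_le (normalClosure_le_normal hj) ?_
      rw [← jOf_sup_core hc hJ]
      refine sup_le hj fun q hq => mem_centralizer_iff.2 ?_
      rintro _ ⟨u, hu, rfl⟩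
      refine mul_inv_eq_iff_eq_mul.1 (mul_inv_eq_one.1 ?_)
      rw [← map_mul, ← map_inv, ← map_mul, ← map_inv, ← map_mul]
      exact (QuotientGroup.eq_one_iff _).2 (mem_sup_right (commutator_mem_commutator hu hq))
    intro g
    have hg : g ∈ (centralizer ((yv S).map πE : Set (G ⧸ E))).comap πE := by
      rw [hC]; exact mem_top g
    have h := mem_centralizer_iff.1 hg _ (mem_map_of_mem πE hyc)
    refine (QuotientGroup.eq_one_iff _).1 ?_
    show πE (y⁻¹ * (g * y * g⁻¹)) = 1
    rw [map_mul, map_mul, map_inv, map_mul, map_inv, ← h]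
    group
  -- the product of the conjugates of `y` over `G/S`
  letI : CommGroup ↥(yv S) :=
    { (inferInstance : Group ↥(yv S)) with
      mul_comm := fun a b => Subtype.ext (by
        obtain ⟨v, hv, z, hz, ha⟩ := mem_yv.1 a.2
        obtain ⟨v', hv', z', hz', hb⟩ := mem_yv.1 b.2
        have hQ := zj_le_core hc hZ
        show (a : G) * b = b * a
        obtain ⟨A, hA⟩ := CfsgLib.ZJ.exists_fam CfsgLib.ZJ.admissible_abelian (S : Subgroup G)
        have hA' := (prime'_spec hc hZ hA).1
        exact fa_comm hA'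
          (ha ▸ mul_mem (omega_le_member hc hA' (prime'_spec hc hZ hA).2.1 hv) (zj_le hA' hz))
          (hb ▸ mul_mem (omega_le_member hc hA' (prime'_spec hc hZ hA).2.1 hv') (zj_le hA' hz'))) }
  haveI := Fintype.ofFinite (G ⧸ (S : Subgroup G))
  let ŷ : yv S := ⟨y, hyc⟩
  let f : G → ↥(yv S) := fun g => MulAut.conjNormal g ŷ
  set P : ↥(yv S) := ∏ c : G ⧸ (S : Subgroup G), f c.out with hPdef
  have hshift : ∀ g : G, ∀ s ∈ (S : Subgroup G), f (g * s) / f g ∈ D.subgroupOf (yv S) := by
    intro g s hs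
    rw [div_eq_mul_inv, mem_subgroupOf]
    simp only [Subgroup.coe_mul, Subgroup.coe_inv, f, MulAut.conjNormal_apply, ŷ]
    rw [show g * s * y * (g * s)⁻¹ * (g * y * g⁻¹)⁻¹ = g * (s * y * s⁻¹ * y⁻¹) * g⁻¹ by group]
    refine hDn.conj_mem _ ?_ g
    rw [← commutatorElement_def, ← commutatorElement_inv]
    exact inv_mem (hYS (commutator_mem_commutator hy hs))
  have hfix : ∀ g : G, g * (P : G) * g⁻¹ * (P : G)⁻¹ ∈ D := by
    intro g
    have h1 : MulAut.conjNormal g P / P ∈ D.subgroupOf (yv S) := by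
      have hperm : P = ∏ c : G ⧸ (S : Subgroup G), f (g • c).out :=
        (Equiv.prod_comp (MulAction.toPerm g) fun c : G ⧸ (S : Subgroup G) => f c.out).symm
      rw [show MulAut.conjNormal g P / P = ∏ c : G ⧸ (S : Subgroup G),
        MulAut.conjNormal g (f c.out) / f (g • c).out by
          rw [Finset.prod_div_distrib, ← hperm, hPdef, map_prod]]
      refine Subgroup.prod_mem _ fun c _ => ?_
      have e : MulAut.conjNormal g (f c.out) = f (g * c.out) :=
        Subtype.ext (by simp only [f, MulAut.conjNormal_apply]; group)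
      obtain ⟨s, hs⟩ := QuotientGroup.mk_out_eq_mul (S : Subgroup G) (g * c.out)
      have hgc : (g • c).out = g * c.out * s := by
        rw [← hs]
        congr 1
        conv_lhs => rw [← QuotientGroup.out_eq' c]
        rfl
      rw [e, hgc, ← inv_div]
      exact inv_mem (hshift _ s s.2)
    rw [div_eq_mul_inv, mem_subgroupOf] at h1
    simpa [MulAut.conjNormal_apply] using h1
  have hPE : (P : G) * ((y : G) ^ (S : Subgroup G).index)⁻¹ ∈ E := by
    have h1 : P / ŷ ^ (S : Subgroup G).index ∈ E.subgroupOf (yv S) := by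
      rw [index_eq_card, Nat.card_eq_fintype_card, ← Finset.card_univ, ← Finset.prod_const,
        hPdef, ← Finset.prod_div_distrib]
      refine Subgroup.prod_mem _ fun c _ => ?_
      rw [mem_subgroupOf, div_eq_mul_inv]
      simp only [Subgroup.coe_mul, Subgroup.coe_inv, f, MulAut.conjNormal_apply, ŷ]
      have h := hE c.out
      exact (inferInstance : E.Normal).mem_comm h
    simpa [div_eq_mul_inv, mem_subgroupOf, ŷ] using h1
  obtain ⟨v, hv, d, hd, hvd⟩ := mem_sup_of_normal_left.1 hPE
  set m := (S : Subgroup G).index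
  have hsv : ∀ s ∈ (S : Subgroup G), s * v = v * s := by
    refine commute_of_shift hc hZ hJ hv fun s hs => ⟨(omega p G).mul_mem (omega_normal.conj_mem v hv s)
      ((omega p G).inv_mem hv), ?_⟩
    suffices s * v * s⁻¹ * v⁻¹ ∈ D from mem_centralizer_iff.2 fun n hn =>
      (mem_centralizer_iff.1 (hDN hn) _ this).symm
    let π := QuotientGroup.mk' D
    have hcy : Commute (π s) (π y) := by
      refine mul_inv_eq_iff_eq_mul.1 (mul_inv_eq_one.1 ?_)
      rw [← map_mul, ← map_inv, ← map_mul, ← map_inv, ← map_mul]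
      refine (QuotientGroup.eq_one_iff _).2 ?_
      rw [← commutatorElement_def, ← commutatorElement_inv]
      exact inv_mem (hYS (commutator_mem_commutator hy hs))
    have hcP : Commute (π s) (π (P : G)) := by
      refine mul_inv_eq_iff_eq_mul.1 (mul_inv_eq_one.1 ?_)
      rw [← map_mul, ← map_inv, ← map_mul, ← map_inv, ← map_mul]
      exact (QuotientGroup.eq_one_iff _).2 (hfix s)
    have hd1 : π d = 1 := (QuotientGroup.eq_one_iff d).2 hd
    have hv' : π v = π (P : G) * (π y ^ m)⁻¹ := by
      have h := congrArg π hvd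
      rwa [map_mul, hd1, mul_one, map_mul, map_inv, map_pow] at h
    have hcv : Commute (π s) (π v) := by
      rw [hv']; exact hcP.mul_right ((hcy.pow_right m).inv_right)
    refine (QuotientGroup.eq_one_iff _).1 ?_
    show π (s * v * s⁻¹ * v⁻¹) = 1
    rw [map_mul, map_mul, map_mul, map_inv, map_inv, hcv.eq]
    group
  have hP1 : Commute x (P : G) := by
    have hle : closure {g : G | (orderOf g).Coprime p} ≤ centralizer {(P : G)} := by
      refine (closure_le _).2 fun g hg => mem_centralizer_singleton_iff.2 ?_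
      have hgN := mem_of_coprime_of_sup_eq_top S hNS hg
      set c := g * (P : G) * g⁻¹ * (P : G)⁻¹ with hcdef
      obtain ⟨k, hk⟩ := S.isPGroup' ⟨c, zj_le_self _ (hDY (hfix g))⟩
      have := eq_one_of_shift (g := g) (x := (P : G)) (c := c) (by rw [hcdef]; group)
        (mem_centralizer_iff.1 (hDN hgN) c (hfix g)).symm hg (congrArg Subtype.val hk)
      rw [hcdef, mul_inv_eq_one] at this
      exact mul_inv_eq_iff_eq_mul.1 this
    exact mem_centralizer_singleton_iff.1 (hle hx)
  have hxN : x ∈ N :=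
    (closure_le N).2 (fun g hg => mem_of_coprime_of_sup_eq_top S hNS hg) hx
  have hd' : Commute x d := (mem_centralizer_iff.1 (hDN hxN) d hd).symm
  have hm : Commute x (y ^ m) := by
    have e : y ^ m = (v * d)⁻¹ * (P : G) * ((P : G)⁻¹ * (v * d) * y ^ m) := by group
    have hPy : (P : G)⁻¹ * (v * d) * y ^ m = 1 := by
      rw [hvd]; group
    rw [e, hPy, mul_one]
    exact ((show Commute x v from hsv x hxS).mul_right hd').inv_right.mul_right hP1
  obtain ⟨k, hk⟩ := S.isPGroup' ⟨y, zj_le_self _ hy⟩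
  replace hk : y ^ p ^ k = 1 := congrArg Subtype.val hk
  obtain ⟨i, hi⟩ := exists_pow_eq_self_of_coprime (x := y) (n := m)
    (Nat.Coprime.coprime_dvd_right (orderOf_dvd_of_pow_eq_one hk)
      (Nat.Coprime.pow_right k (((Fact.out : p.Prime).coprime_iff_not_dvd.2 S.not_dvd_index).symm)))
  have := hm.pow_right i
  rw [hi] at this
  exact this.eq.symm

/-- `C_S(Z(J(S)))` is a Sylow subgroup of its normal closure. -/
theorem inf_normalClosure (hc : Core p S) (hZ : ¬ centerIn (S : Subgroup G) ≤ center G) :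
    (S : Subgroup G) ⊓ normalClosure (((S : Subgroup G) ⊓
      centralizer (Cfsg.centerThompsonAOf (S : Subgroup G) : Set G)) : Set G) =
    (S : Subgroup G) ⊓ centralizer (Cfsg.centerThompsonAOf (S : Subgroup G) : Set G) := by
  set T := (S : Subgroup G) ⊓ centralizer (Cfsg.centerThompsonAOf (S : Subgroup G) : Set G) with hT
  rw [show ((S : Subgroup G) ⊓ centralizer (Cfsg.centerThompsonAOf (S : Subgroup G) : Set G) :
    Set G) = (T : Set G) from rfl]
  refine le_antisymm ?_ (le_inf inf_le_left le_normalClosure)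
  by_cases hJ : jOf (S : Subgroup G) ≤ Cfsg.pCore p G
  · haveI : T.Normal := inf_centralizer_normal hc hZ hJ
    rw [normalClosure_eq_self]
    exact inf_le_right
  set L := closure {g : G | (orderOf g).Coprime p} with hL
  haveI hLn : L.Normal := by
    refine ⟨fun x hx g => ?_⟩
    have hle : L ≤ L.comap (MulAut.conj g).toMonoidHom := (closure_le _).2 fun a ha =>
      subset_closure (show (orderOf ((MulAut.conj g) a)).Coprime p by
        rw [MulEquiv.orderOf_eq]; exact ha)
    exact hle hx
  haveI hTL : (L ⊔ T).Normal := by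
    rw [← normalizer_eq_top_iff]
    refine eq_top_of_coprime S (fun s hs => mem_normalizer_fintype fun x hx => ?_) fun g hg =>
      le_normalizer (mem_sup_left (subset_closure hg))
    obtain ⟨l, hl, t, ht, rfl⟩ := mem_sup_of_normal_left.1 hx
    rw [show s * (l * t) * s⁻¹ = (s * l * s⁻¹) * (s * t * s⁻¹) by group]
    refine mul_mem (mem_sup_left (hLn.conj_mem l hl s)) (mem_sup_right ⟨?_, ?_⟩)
    · exact (S : Subgroup G).mul_mem ((S : Subgroup G).mul_mem hs ht.1) ((S : Subgroup G).inv_mem hs)
    · refine mem_centralizer_iff.2 fun z hz => ?_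
      have hz' := zj_conj_mem (inv_mem hs) hz
      rw [inv_inv] at hz'
      have h := mem_centralizer_iff.1 ht.2 _ hz'
      have h2 := congrArg (fun a => s * a * s⁻¹) h
      simpa [mul_assoc] using h2
  refine (inf_le_inf_left _ (normalClosure_le_normal (N := L ⊔ T) (SetLike.coe_subset_coe.2 le_sup_right))).trans ?_
  rintro z ⟨hzS, hz⟩
  obtain ⟨l, hl, t, ht, rfl⟩ := mem_sup_of_normal_left.1 hz
  have hlS : l ∈ (S : Subgroup G) := by
    simpa using (S : Subgroup G).mul_mem hzS ((S : Subgroup G).inv_mem ht.1)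
  exact mul_mem ⟨hlS, mem_centralizer_iff.2 fun y hy => commute_zj hc hZ hJ hlS hl hy⟩ ht

end CfsgLib.PushL2
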