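import Cfsg.Agent.Solvable.PGroupBasic

/-!
The Frattini subgroup of a `p`-subgroup as generated by commutators and `p`-th powers.
-/

set_option autoImplicit false

namespace CfsgLib.PushL2

open Subgroup
open scoped commutatorElement

variable {G : Type*} [Group G]

/-- The subgroup generated by the commutators and the `p`-th powers of elements of `X`. -/
def phi (p : ℕ) (X : Subgroup G) : Subgroup G :=
  closure {x | (∃ a ∈ X, ∃ b ∈ X, ⁅a, b⁆ = x) ∨ ∃ a ∈ X, a ^ p = x}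

variable {p : ℕ}

theorem comm_mem_phi {X : Subgroup G} {a b : G} (ha : a ∈ X) (hb : b ∈ X) : ⁅a, b⁆ ∈ phi p X :=
  subset_closure (Or.inl ⟨a, ha, b, hb, rfl⟩)

theorem pow_mem_phi {X : Subgroup G} {a : G} (ha : a ∈ X) : a ^ p ∈ phi p X :=
  subset_closure (Or.inr ⟨a, ha, rfl⟩)

theorem phi_le (X : Subgroup G) : phi p X ≤ X := by
  refine (closure_le X).2 ?_
  rintro x (⟨a, ha, b, hb, rfl⟩ | ⟨a, ha, rfl⟩)
  · exact mul_mem (mul_mem (mul_mem ha hb) (inv_mem ha)) (inv_mem hb)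
  · exact pow_mem ha p

theorem phi_mono {X Y : Subgroup G} (h : X ≤ Y) : phi p X ≤ phi p Y := by
  refine (closure_le _).2 ?_
  rintro x (⟨a, ha, b, hb, rfl⟩ | ⟨a, ha, rfl⟩)
  · exact comm_mem_phi (h ha) (h hb)
  · exact pow_mem_phi (h ha)

theorem map_phi {H : Type*} [Group H] (f : G →* H) (X : Subgroup G) :
    (phi p X).map f = phi p (X.map f) := by
  rw [phi, MonoidHom.map_closure]
  refine congrArg closure (Set.ext fun y => ⟨?_, ?_⟩)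
  · rintro ⟨x, ⟨a, ha, b, hb, rfl⟩ | ⟨a, ha, rfl⟩, rfl⟩
    · exact Or.inl ⟨f a, mem_map_of_mem f ha, f b, mem_map_of_mem f hb,
        (map_commutatorElement f a b).symm⟩
    · exact Or.inr ⟨f a, mem_map_of_mem f ha, (map_pow f a p).symm⟩
  · rintro (⟨_, ⟨a, ha, rfl⟩, _, ⟨b, hb, rfl⟩, rfl⟩ | ⟨_, ⟨a, ha, rfl⟩, rfl⟩)
    · exact ⟨⁅a, b⁆, Or.inl ⟨a, ha, b, hb, rfl⟩, map_commutatorElement f a b⟩
    · exact ⟨a ^ p, Or.inr ⟨a, ha, rfl⟩, map_pow f a p⟩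

theorem map_frattini [Finite G] [Fact p.Prime] {X : Subgroup G} (hX : IsPGroup p X) :
    (frattini ↥X).map X.subtype = phi p X := by
  set N := (phi p X).subgroupOf X with hN
  have hcomm : ∀ a b : X, ⁅a, b⁆ ∈ N := fun a b => mem_subgroupOf.2 (by
    show ((⁅a, b⁆ : X) : G) ∈ phi p X
    rw [show ((⁅a, b⁆ : X) : G) = ⁅(a : G), (b : G)⁆ from map_commutatorElement X.subtype a b]
    exact comm_mem_phi a.2 b.2)
  haveI : N.Normal := ⟨fun n hn g => by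
    have := mul_mem (hcomm g n) hn
    simpa [commutatorElement_def] using this⟩
  have hpow : ∀ x : X, x ^ p ∈ N := fun x => mem_subgroupOf.2 (by
    show ((x ^ p : X) : G) ∈ phi p X
    rw [SubmonoidClass.coe_pow]
    exact pow_mem_phi x.2)
  have h1 : frattini ↥X ≤ N := CfsgLib.PGroupBasic.frattini_le_of_elementary (p := p) N
    (commutator_le.2 fun a _ b _ => hcomm a b) hpow
  refine le_antisymm ((map_mono h1).trans ?_) ((closure_le _).2 ?_)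
  · rw [hN, subgroupOf_map_subtype]
    exact inf_le_left
  · obtain ⟨hc, hp⟩ := CfsgLib.PGroupBasic.commutator_pow_le_frattini (p := p) hX
    rintro x (⟨a, ha, b, hb, rfl⟩ | ⟨a, ha, rfl⟩)
    · exact ⟨⁅⟨a, ha⟩, ⟨b, hb⟩⁆, hc (commutator_mem_commutator (mem_top _) (mem_top _)),
        map_commutatorElement X.subtype _ _⟩
    · exact ⟨⟨a, ha⟩ ^ p, hp _, map_pow X.subtype _ _⟩

/-- A central factor of exponent `p` adds nothing. -/
theorem phi_sup_central {X Y : Subgroup G} (hXY : X ≤ centralizer (Y : Set G))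
    (hX : X ≤ centralizer (X : Set G)) (hXp : ∀ x ∈ X, x ^ p = 1) :
    phi p (X ⊔ Y) = phi p Y := by
  refine le_antisymm ((closure_le _).2 ?_) (phi_mono le_sup_right)
  have hdec : ∀ a ∈ X ⊔ Y, ∃ x ∈ X, ∃ y ∈ Y, x * y = a := fun a ha => by
    have ha' : a ∈ ((X ⊔ Y : Subgroup G) : Set G) := ha
    rw [coe_mul_of_left_le_normalizer_right _ _
      (hXY.trans (centralizer_le_normalizer _))] at ha'
    exact ha'
  rintro a (⟨a₁, h₁, a₂, h₂, rfl⟩ | ⟨a₁, h₁, rfl⟩)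
  · obtain ⟨x₁, hx₁, y₁, hy₁, rfl⟩ := hdec a₁ h₁
    obtain ⟨x₂, hx₂, y₂, hy₂, rfl⟩ := hdec a₂ h₂
    have c1 : Commute x₁ (x₂ * y₂) := Commute.mul_right (mem_centralizer_iff.1 (hX hx₁) x₂ hx₂).symm
      (mem_centralizer_iff.1 (hXY hx₁) y₂ hy₂).symm
    have c2 : Commute y₁ x₂ := mem_centralizer_iff.1 (hXY hx₂) y₁ hy₁
    have : ⁅x₁ * y₁, x₂ * y₂⁆ = ⁅y₁, y₂⁆ := by
      have c1' : Commute x₁ y₁ := (mem_centralizer_iff.1 (hXY hx₁) y₁ hy₁).symm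
      have c2' : Commute x₂ y₂ := (mem_centralizer_iff.1 (hXY hx₂) y₂ hy₂).symm
      simp only [commutatorElement_def]
      calc x₁ * y₁ * (x₂ * y₂) * (x₁ * y₁)⁻¹ * (x₂ * y₂)⁻¹
          = x₁ * y₁ * (x₂ * y₂) * y₁⁻¹ * x₁⁻¹ * (x₂ * y₂)⁻¹ := by group
        _ = y₁ * (x₁ * (x₂ * y₂)) * y₁⁻¹ * x₁⁻¹ * (x₂ * y₂)⁻¹ := by rw [c1'.eq]; group
        _ = y₁ * ((x₂ * y₂) * x₁) * y₁⁻¹ * x₁⁻¹ * (x₂ * y₂)⁻¹ := by rw [c1.eq]
        _ = y₁ * x₂ * y₂ * (x₁ * y₁⁻¹) * x₁⁻¹ * (x₂ * y₂)⁻¹ := by group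
        _ = y₁ * x₂ * y₂ * (y₁⁻¹ * x₁) * x₁⁻¹ * (x₂ * y₂)⁻¹ := by rw [c1'.inv_right.eq]
        _ = (y₁ * x₂) * y₂ * y₁⁻¹ * y₂⁻¹ * x₂⁻¹ := by group
        _ = x₂ * (y₁ * y₂ * y₁⁻¹ * y₂⁻¹) * x₂⁻¹ := by rw [c2.eq]; group
        _ = y₁ * y₂ * y₁⁻¹ * y₂⁻¹ := by
          rw [(mem_centralizer_iff.1 (hXY hx₂) (y₁ * y₂ * y₁⁻¹ * y₂⁻¹)
            (mul_mem (mul_mem (mul_mem hy₁ hy₂) (inv_mem hy₁)) (inv_mem hy₂))).symm]
          group
    rw [SetLike.mem_coe, this]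
    exact comm_mem_phi hy₁ hy₂
  · obtain ⟨x₁, hx₁, y₁, hy₁, rfl⟩ := hdec a₁ h₁
    rw [SetLike.mem_coe, (show Commute x₁ y₁ from
      (mem_centralizer_iff.1 (hXY hx₁) y₁ hy₁).symm).mul_pow, hXp x₁ hx₁, one_mul]
    exact pow_mem_phi hy₁

end CfsgLib.PushL2
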