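import Cfsg.Agent.PushL2.Bound
import Cfsg.Agent.ZJ.ZJCenter

/-!
`Z(J(S))` against `Ω₁(Z(O_p(G)))` when `G/K ≅ PSL₂(q)` and `S` lies in one maximal subgroup.
-/

set_option autoImplicit false
set_option linter.unusedSectionVars false
set_option linter.style.haveILetI false

namespace CfsgLib.PushL2

open Subgroup

/-- The centre of `O_p(G)`. -/
def coreCenter (p : ℕ) (G : Type*) [Group G] : Subgroup G :=
  Cfsg.pCore p G ⊓ centralizer (Cfsg.pCore p G : Set G)

theorem coreCenter_commute {p : ℕ} {G : Type*} [Group G] {x y : G} (hx : x ∈ coreCenter p G) (hy : y ∈ Cfsg.pCore p G) :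
    x * y = y * x :=
  (mem_centralizer_iff.1 hx.2 y hy).symm

/-- `Ω₁(Z(O_p(G)))`. -/
def omega (p : ℕ) (G : Type*) [Group G] : Subgroup G where
  carrier := {x | x ∈ coreCenter p G ∧ x ^ p = 1}
  one_mem' := ⟨one_mem _, one_pow p⟩
  mul_mem' {x y} hx hy := ⟨mul_mem hx.1 hy.1, by
    rw [(show Commute x y from coreCenter_commute hx.1 hy.1.1).mul_pow, hx.2, hy.2, one_mul]⟩
  inv_mem' {x} hx := ⟨inv_mem hx.1, by rw [inv_pow, hx.2, inv_one]⟩

variable {G : Type*} [Group G] [Finite G] {p : ℕ} [Fact p.Prime]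

instance pCore_isNormal : (Cfsg.pCore p G).Normal := CfsgLib.Solvable.pCore_normal p

instance coreCenter_normal : (coreCenter p G).Normal := by
  unfold coreCenter
  infer_instance

instance omega_normal : (omega p G).Normal :=
  ⟨fun x hx g => ⟨coreCenter_normal.conj_mem x hx.1 g, by rw [conj_pow, hx.2]; group⟩⟩

theorem omega_le : omega p G ≤ Cfsg.pCore p G := fun _ hx => hx.1.1

theorem omega_commute {x y : G} (hx : x ∈ omega p G) (hy : y ∈ Cfsg.pCore p G) : x * y = y * x :=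
  coreCenter_commute hx.1 hy

/-- Conjugation that shifts `x` by a fixed element of order prime to its own is trivial. -/
theorem eq_one_of_shift {g x c : G} (h : g * x * g⁻¹ = c * x) (hc : g * c = c * g)
    (hg : (orderOf g).Coprime p) {k : ℕ} (hk : c ^ p ^ k = 1) : c = 1 := by
  have hpow : ∀ n : ℕ, g ^ n * x * (g ^ n)⁻¹ = c ^ n * x := fun n => by
    induction n with
    | zero => simp
    | succ n ih =>
      rw [pow_succ' g, show g * g ^ n * x * (g * g ^ n)⁻¹ = g * (g ^ n * x * (g ^ n)⁻¹) * g⁻¹ by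
        group, ih, ← mul_assoc g, ← ((show Commute c g from hc.symm).pow_left n).eq,
        mul_assoc (c ^ n), mul_assoc (c ^ n) (g * x), h, ← mul_assoc, pow_succ c n]
  have h1 := hpow (orderOf g)
  rw [pow_orderOf_eq_one, one_mul, inv_one, mul_one] at h1
  have h2 : c ^ orderOf g = 1 := by simpa using h1.symm
  exact orderOf_eq_one_iff.1 (Nat.eq_one_of_dvd_coprimes (Nat.Coprime.pow_right k hg)
    (orderOf_dvd_of_pow_eq_one h2) (orderOf_dvd_of_pow_eq_one hk))

/-- A `p'`-element fixing the elements of order `p` of the centre of `O_p(G)` fixes the centre. -/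
theorem commute_coreCenter {g : G} (hg : (orderOf g).Coprime p)
    (h : ∀ v ∈ omega p G, g * v = v * g) {x : G} (hx : x ∈ coreCenter p G) : g * x = x * g := by
  obtain ⟨k, hk⟩ := CfsgLib.Solvable.isPGroup_pCore (G := G) p ⟨x, hx.1⟩
  replace hk : x ^ p ^ k = 1 := congrArg Subtype.val hk
  induction k generalizing x with
  | zero =>
    rw [pow_zero, pow_one] at hk
    simp [hk]
  | succ k ih =>
    have h1 : g * x ^ p = x ^ p * g :=
      ih (pow_mem hx p) (by rw [← pow_mul, ← pow_succ']; exact hk)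
    set c := g * x * g⁻¹ * x⁻¹ with hcdef
    have hgx : g * x * g⁻¹ ∈ coreCenter p G := coreCenter_normal.conj_mem x hx g
    have hc : c ∈ omega p G := by
      refine ⟨mul_mem hgx (inv_mem hx), ?_⟩
      rw [hcdef, (show Commute (g * x * g⁻¹) x⁻¹ from
        coreCenter_commute hgx (inv_mem hx).1).mul_pow, conj_pow, inv_pow, h1,
        mul_inv_cancel_right, mul_inv_cancel]
    have h2 : c = 1 :=
      eq_one_of_shift (g := g) (x := x) (by rw [hcdef]; group) (h c hc) hg
        (k := 1) (by rw [pow_one]; exact hc.2)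
    rw [hcdef, mul_inv_eq_one] at h2
    exact mul_inv_eq_iff_eq_mul.1 h2

theorem mem_of_coprime_of_sup_eq_top (S : Sylow p G) {N : Subgroup G} [N.Normal]
    (hN : N ⊔ S = ⊤) {g : G} (hg : (orderOf g).Coprime p) : g ∈ N := by
  have h1 : N.index = N.relIndex (S : Subgroup G) := by
    rw [← relIndex_sup_left (S : Subgroup G) N, hN, relIndex_top_right]
  obtain ⟨k, hk⟩ := (Nat.dvd_prime_pow Fact.out).1
    ((dvd_of_eq h1).trans ((relIndex_dvd_card N (S : Subgroup G)).trans
      (dvd_of_eq S.isPGroup'.exists_card_eq.choose_spec)))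
  rw [← QuotientGroup.eq_one_iff]
  refine orderOf_eq_one_iff.1 (Nat.eq_one_of_dvd_coprimes (Nat.Coprime.pow_right k hg)
    (orderOf_map_dvd (QuotientGroup.mk' N) g) ?_)
  rw [← hk.2, index_eq_card]
  exact orderOf_dvd_natCard _

theorem eq_top_of_coprime (S : Sylow p G) {X : Subgroup G} (hS : (S : Subgroup G) ≤ X)
    (hX : ∀ g : G, (orderOf g).Coprime p → g ∈ X) : X = ⊤ := by
  rw [← index_eq_one]
  by_contra h
  obtain ⟨r, hr, hrX⟩ := Nat.exists_prime_and_dvd h
  rcases eq_or_ne r p with rfl | hne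
  · exact S.not_dvd_index (hrX.trans (index_dvd_of_le hS))
  · haveI := Fact.mk hr
    let R : Sylow r G := default
    refine R.not_dvd_index (hrX.trans (index_dvd_of_le fun g hg => hX g ?_))
    obtain ⟨k, hk⟩ := R.isPGroup' ⟨g, hg⟩
    replace hk : g ^ r ^ k = 1 := congrArg Subtype.val hk
    exact Nat.Coprime.coprime_dvd_left (orderOf_dvd_of_pow_eq_one hk)
      (Nat.Coprime.pow_left k ((Nat.coprime_primes hr Fact.out).2 hne))

/-- The centre of a subgroup. -/
def centerIn (S : Subgroup G) : Subgroup G := S ⊓ centralizer (S : Set G)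

variable (S : Sylow p G)

theorem centerIn_le_coreCenter (hc : Core p S) : centerIn (S : Subgroup G) ≤ coreCenter p G :=
  fun x hx =>
    have h : x ∈ centralizer (Cfsg.pCore p G : Set G) := centralizer_le hc.le_S hx.2
    ⟨hc.cQ h, h⟩

theorem le_center_of_le_centralizer {T : Subgroup G} (hT : T ≤ centerIn (S : Subgroup G))
    {X : Subgroup G} (hX : X ⊔ S = ⊤) (hXT : X ≤ centralizer (T : Set G)) :
    T ≤ center G := by
  intro t ht
  have hle : (⊤ : Subgroup G) ≤ centralizer (T : Set G) := hX ▸ sup_le hXT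
    ((le_centralizer_iff).1 (hT.trans inf_le_right))
  exact mem_center_iff.2 fun g => (mem_centralizer_iff.1 (hle (mem_top g)) t ht).symm

theorem normal_of_le_center {T : Subgroup G} (hT : T ≤ center G) : T.Normal :=
  ⟨fun t ht g => by rw [mem_center_iff.1 (hT ht) g, mul_inv_cancel_right]; exact ht⟩

variable {S}

theorem centralizer_omega_sup_ne (hc : Core p S) (hZ : ¬ centerIn (S : Subgroup G) ≤ center G) :
    centralizer (omega p G : Set G) ⊔ S ≠ ⊤ := by
  intro h
  refine hZ (le_center_of_le_centralizer S le_rfl (X := centralizer (centerIn (S : Subgroup G) : Set G))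
    ?_ le_rfl)
  refine eq_top_of_coprime S le_sup_right fun g hg => mem_sup_left ?_
  have hgC := mem_of_coprime_of_sup_eq_top S h hg
  exact mem_centralizer_iff.2 fun x hx => (commute_coreCenter hg
    (fun v hv => (mem_centralizer_iff.1 hgC v hv).symm) (centerIn_le_coreCenter S hc hx)).symm

theorem inf_centralizer_omega_le (hc : Core p S) (hZ : ¬ centerIn (S : Subgroup G) ≤ center G) :
    (S : Subgroup G) ⊓ centralizer (omega p G : Set G) ≤ Cfsg.pCore p G :=
  le_pCore_of_normal ((hc.dich _ inferInstance).resolve_left (centralizer_omega_sup_ne hc hZ))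
    (S.isPGroup'.to_le inf_le_left)

theorem omega_action : Action (MonoidHom.id G) (omega p G) p where
  comm v hv w hw := omega_commute hv (omega_le hw)
  expo v hv := hv.2
  stable g v hv := omega_normal.conj_mem v hv g
  triv a ha := mem_centralizer_iff.2 fun v hv => omega_commute hv ha

/-! ### Abelian subgroups of largest order -/

/-- The abelian subgroups of largest order. -/
abbrev fa (U : Subgroup G) : Set (Subgroup G) :=
  CfsgLib.ZJ.fam (fun A : Subgroup G => IsMulCommutative A) U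

theorem fa_comm {U A : Subgroup G} (hA : A ∈ fa U) {a b : G} (ha : a ∈ A) (hb : b ∈ A) :
    a * b = b * a :=
  congrArg Subtype.val (hA.1.is_comm.comm ⟨a, ha⟩ ⟨b, hb⟩)

theorem mem_of_commute {U A : Subgroup G} (hA : A ∈ fa U) {x : G} (hx : x ∈ U)
    (h : ∀ a ∈ A, a * x = x * a) : x ∈ A := by
  have hcl : IsMulCommutative (closure (insert x (A : Set G))) := by
    refine Subgroup.isMulCommutative_closure ?_
    rintro a (rfl | ha) b (rfl | hb)
    · rfl
    · exact (h b hb).symm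
    · exact h a ha
    · exact fa_comm hA ha hb
  rw [eq_of_le_of_card_ge (fun a ha => subset_closure (Set.mem_insert_of_mem x ha))
    (hA.2.2 _ hcl ((closure_le _).mpr (Set.insert_subset hx hA.2.1)))]
  exact subset_closure (Set.mem_insert x _)

theorem fa_conj {U A : Subgroup G} (hA : A ∈ fa U) (g : G)
    (h : ∀ a ∈ A, g * a * g⁻¹ ∈ U) : A.map (MulAut.conj g).toMonoidHom ∈ fa U := by
  haveI := hA.1
  refine ⟨Subgroup.map_isMulCommutative A _, fun x ⟨a, ha, he⟩ => he ▸ h a ha, fun B hB hBU => ?_⟩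
  rw [card_map_of_injective (MulAut.conj g).injective]
  exact hA.2.2 B hB hBU

/-- The Thompson subgroup. -/
def jOf (U : Subgroup G) : Subgroup G := sSup (fa U)

theorem jOf_le (U : Subgroup G) : jOf U ≤ U := sSup_le fun _ hA => hA.2.1

theorem mem_zj_iff {U : Subgroup G} {y : G} :
    y ∈ Cfsg.centerThompsonAOf U ↔ ∀ A ∈ fa U, y ∈ A := by
  rw [← CfsgLib.ZJ.famCenter_abelian_eq, CfsgLib.ZJ.famCenter, mem_sInf]

theorem zj_le {U A : Subgroup G} (hA : A ∈ fa U) : Cfsg.centerThompsonAOf U ≤ A :=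
  fun _ hy => mem_zj_iff.1 hy A hA

theorem zj_le_self (U : Subgroup G) : Cfsg.centerThompsonAOf U ≤ U := by
  obtain ⟨A, hA⟩ := CfsgLib.ZJ.exists_fam CfsgLib.ZJ.admissible_abelian U
  exact (zj_le hA).trans hA.2.1

theorem jOf_le_centralizer_zj (U : Subgroup G) :
    jOf U ≤ centralizer (Cfsg.centerThompsonAOf U : Set G) :=
  sSup_le fun _ hA a ha => mem_centralizer_iff.2 fun _ hy => fa_comm hA (zj_le hA hy) ha

theorem centerIn_le_zj (U : Subgroup G) : centerIn U ≤ Cfsg.centerThompsonAOf U :=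
  fun _ hx => mem_zj_iff.2 fun _ hA =>
    mem_of_commute hA hx.1 fun a ha => mem_centralizer_iff.1 hx.2 a (hA.2.1 ha)

theorem zj_conj {U : Subgroup G} {g : G} (h : ∀ A ∈ fa U, ∀ a ∈ A, g⁻¹ * a * g ∈ U) {y : G}
    (hy : y ∈ Cfsg.centerThompsonAOf U) : g * y * g⁻¹ ∈ Cfsg.centerThompsonAOf U := by
  refine mem_zj_iff.2 fun A hA => ?_
  obtain ⟨a, ha, he⟩ := mem_zj_iff.1 hy _ (fa_conj hA g⁻¹ fun a ha => by
    simpa using h A hA a ha)
  rw [← he]
  simpa [mul_assoc] using ha

theorem zj_conj_normalizer {g : G} (hg : g ∈ normalizer ((S : Subgroup G) : Set G)) {y : G}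
    (hy : y ∈ Cfsg.centerThompsonAOf (S : Subgroup G)) :
    g * y * g⁻¹ ∈ Cfsg.centerThompsonAOf (S : Subgroup G) :=
  zj_conj (fun A hA a ha => by
    have h := (mem_normalizer_iff.1 (inv_mem hg) a).1 (hA.2.1 ha)
    rwa [inv_inv] at h) hy

theorem zj_conj_mem {g : G} (hg : g ∈ (S : Subgroup G)) {y : G}
    (hy : y ∈ Cfsg.centerThompsonAOf (S : Subgroup G)) :
    g * y * g⁻¹ ∈ Cfsg.centerThompsonAOf (S : Subgroup G) :=
  zj_conj_normalizer (le_normalizer hg) hy

/-- If `J(S) ≤ O_p(G)` and `Z(S)` is not central, `C_S(Z(J(S)))` is normal. -/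
theorem inf_centralizer_normal (hc : Core p S) (hZ : ¬ centerIn (S : Subgroup G) ≤ center G)
    (hJ : jOf (S : Subgroup G) ≤ Cfsg.pCore p G) :
    ((S : Subgroup G) ⊓ centralizer (Cfsg.centerThompsonAOf (S : Subgroup G) : Set G)).Normal := by
  haveI : (Cfsg.centerThompsonAOf (S : Subgroup G)).Normal :=
    ⟨fun y hy g => zj_conj (fun A hA a ha => hc.le_S (by
      simpa using pCore_isNormal.conj_mem a (hJ (le_sSup hA ha)) g⁻¹)) hy⟩
  refine (hc.dich _ inferInstance).resolve_left fun h => hZ ?_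
  exact le_center_of_le_centralizer S le_rfl h (centralizer_le (centerIn_le_zj _))

/-! ### The case `J(S) ≰ O_p(G)` -/

theorem card_sup_mul_inf (N X : Subgroup G) [N.Normal] :
    Nat.card ↥(N ⊔ X) * Nat.card ↥(N ⊓ X) = Nat.card N * Nat.card X := by
  have h1 : Nat.card ↥(N ⊔ X) = Nat.card N * N.relIndex X := by
    rw [← relIndex_sup_left X N, ← relIndex_bot_left, ← relIndex_bot_left,
      relIndex_mul_relIndex _ _ _ bot_le le_sup_left]
  have h2 : Nat.card X = Nat.card ↥(N ⊓ X) * N.relIndex X := by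
    rw [← inf_relIndex_right N X, ← relIndex_bot_left, ← relIndex_bot_left,
      relIndex_mul_relIndex _ _ _ bot_le inf_le_right]
  rw [h1, h2]; ring

theorem core_sup_le (hc : Core p S) {A : Subgroup G} (hA : A ∈ fa (S : Subgroup G)) :
    A ⊔ Cfsg.pCore p G ≤ S :=
  sup_le hA.2.1 hc.le_S

theorem fix_sup_core {H : Type*} [Group H] [Finite H] {θ : G →* H} {V : Subgroup H}
    (hA : Action θ V p) (A : Subgroup G) :
    fix θ V A ≤ fix θ V (A ⊔ Cfsg.pCore p G) := fun v hv =>
  fix_sup A _ ⟨hv, mem_fix_of_conj hv.1 fun _ ha => hA.core_fix hv.1 ha⟩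

/-- The bound read off for one abelian subgroup of largest order. -/
theorem card_mul_fix_le (hc : Core p S) {H : Type*} [Group H] [Finite H] {θ : G →* H}
    {V : Subgroup H} (hV : Action θ V p) (hker : (centralizer (V : Set H)).comap θ ⊔ S ≠ ⊤)
    {A : Subgroup G} (hA : A ∈ fa (S : Subgroup G)) :
    Nat.card A * Nat.card (fix θ V A) ≤ Nat.card ↥(A ⊓ Cfsg.pCore p G) * Nat.card V := by
  have h := bound hc hV hker (le_sup_right : _ ≤ A ⊔ Cfsg.pCore p G) (core_sup_le hc hA)
  have h2 := card_sup_mul_inf (Cfsg.pCore p G) A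
  rw [sup_comm, inf_comm] at h2
  have h3 := Nat.mul_le_mul (le_refl (Nat.card ↥(A ⊔ Cfsg.pCore p G)))
    (card_le_of_le (fix_sup_core hV A))
  refine Nat.le_of_mul_le_mul_left ?_ (Nat.card_pos (α := ↥(Cfsg.pCore p G)))
  calc Nat.card ↥(Cfsg.pCore p G) * (Nat.card A * Nat.card (fix θ V A))
      = Nat.card ↥(Cfsg.pCore p G) * Nat.card A * Nat.card (fix θ V A) := by ring
    _ = Nat.card ↥(A ⊔ Cfsg.pCore p G) * Nat.card (fix θ V A) *
          Nat.card ↥(A ⊓ Cfsg.pCore p G) := by rw [← h2]; ring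
    _ ≤ Nat.card ↥(Cfsg.pCore p G) * Nat.card V * Nat.card ↥(A ⊓ Cfsg.pCore p G) :=
        Nat.mul_le_mul_right _ (h3.trans h)
    _ = _ := by ring

/-- `V ⊔ (A ⊓ Q)`, another abelian subgroup of largest order. -/
def prime' (p : ℕ) (A : Subgroup G) : Subgroup G := omega p G ⊔ (A ⊓ Cfsg.pCore p G)

theorem prime'_spec (hc : Core p S) (hZ : ¬ centerIn (S : Subgroup G) ≤ center G)
    {A : Subgroup G} (hA : A ∈ fa (S : Subgroup G)) :
    prime' p A ∈ fa (S : Subgroup G) ∧ prime' p A ≤ Cfsg.pCore p G ∧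
      Nat.card A * Nat.card ↥(omega p G ⊓ A) =
        Nat.card ↥(A ⊓ Cfsg.pCore p G) * Nat.card ↥(omega p G) := by
  have hfix : fix (MonoidHom.id G) (omega p G) A = omega p G ⊓ A := by
    ext v
    rw [mem_fix]
    exact ⟨fun ⟨hv, h⟩ => ⟨hv, mem_of_commute hA (hc.le_S (omega_le hv)) h⟩,
      fun ⟨hv, hvA⟩ => ⟨hv, fun b hb => fa_comm hA hb hvA⟩⟩
  have h := card_mul_fix_le hc omega_action
    (by simpa using centralizer_omega_sup_ne hc hZ) hA
  rw [hfix] at h
  have hle : prime' p A ≤ Cfsg.pCore p G := sup_le omega_le inf_le_right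
  have hcomm : IsMulCommutative ↥(prime' p A) := by
    rw [prime', Subgroup.sup_eq_closure]
    refine Subgroup.isMulCommutative_closure ?_
    rintro a (ha | ha) b (hb | hb)
    · exact omega_commute ha (omega_le hb)
    · exact omega_commute ha hb.2
    · exact (omega_commute hb ha.2).symm
    · exact fa_comm hA ha.1 hb.1
  have hcard := card_sup_mul_inf (omega p G) (A ⊓ Cfsg.pCore p G)
  have hmeet : omega p G ⊓ (A ⊓ Cfsg.pCore p G) = omega p G ⊓ A :=
    le_antisymm (inf_le_inf_left _ inf_le_left)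
      (le_inf inf_le_left (le_inf inf_le_right (inf_le_left.trans omega_le)))
  rw [hmeet] at hcard
  have hmax := hA.2.2 _ hcomm (hle.trans hc.le_S)
  change Nat.card ↥(prime' p A) * _ = _ at hcard
  have hge : Nat.card A ≤ Nat.card ↥(prime' p A) := by
    refine Nat.le_of_mul_le_mul_right ?_ (Nat.card_pos (α := ↥(omega p G ⊓ A)))
    rw [hcard, mul_comm (Nat.card ↥(omega p G))]
    exact h
  refine ⟨⟨hcomm, hle.trans hc.le_S, fun B hB hBS => (hA.2.2 B hB hBS).trans hge⟩, hle, ?_⟩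
  rw [le_antisymm hge hmax, hcard, mul_comm]

theorem omega_le_member (hc : Core p S) {A : Subgroup G} (hA : A ∈ fa (S : Subgroup G))
    (hAQ : A ≤ Cfsg.pCore p G) : omega p G ≤ A := fun _ hv =>
  mem_of_commute hA (hc.le_S (omega_le hv)) fun _ ha => (omega_commute hv (hAQ ha)).symm

theorem zj_le_core (hc : Core p S) (hZ : ¬ centerIn (S : Subgroup G) ≤ center G) :
    Cfsg.centerThompsonAOf (S : Subgroup G) ≤ Cfsg.pCore p G := by
  obtain ⟨A, hA⟩ := CfsgLib.ZJ.exists_fam CfsgLib.ZJ.admissible_abelian (S : Subgroup G)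
  exact (zj_le (prime'_spec hc hZ hA).1).trans (prime'_spec hc hZ hA).2.1

/-- `Z(J(S)) Ω₁(Z(O_p(G)))`. -/
def yv (S : Sylow p G) : Subgroup G :=
  omega p G ⊔ Cfsg.centerThompsonAOf (S : Subgroup G)

theorem mem_yv {x : G} :
    x ∈ yv S ↔ ∃ v ∈ omega p G, ∃ y ∈ Cfsg.centerThompsonAOf (S : Subgroup G), v * y = x :=
  mem_sup_of_normal_left

theorem normalClosure_sup_eq_top (hc : Core p S)
    (hJ : ¬ jOf (S : Subgroup G) ≤ Cfsg.pCore p G) :
    normalClosure (jOf (S : Subgroup G) : Set G) ⊔ S = ⊤ :=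
  (hc.dich _ inferInstance).resolve_right fun h => hJ
    ((le_inf (jOf_le _) le_normalClosure).trans
      (le_pCore_of_normal h (S.isPGroup'.to_le inf_le_left)))

theorem jOf_sup_core (hc : Core p S) (hJ : ¬ jOf (S : Subgroup G) ≤ Cfsg.pCore p G) :
    jOf (S : Subgroup G) ⊔ Cfsg.pCore p G = S := by
  refine ((hc.irr _ le_sup_right (sup_le (jOf_le _) hc.le_S) fun g hg b hb => ?_)).resolve_left
    fun h => hJ (le_sup_left.trans h.le)
  have hinv : jOf (S : Subgroup G) ⊔ Cfsg.pCore p G ≤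
      (jOf (S : Subgroup G) ⊔ Cfsg.pCore p G).comap (MulAut.conj g).toMonoidHom := by
    refine sup_le (sSup_le fun A hA a ha => mem_sup_left (le_sSup (fa_conj hA g fun a ha => ?_)
      ⟨a, ha, rfl⟩)) fun a ha => mem_sup_right (pCore_isNormal.conj_mem a ha g)
    exact (mem_normalizer_iff.1 hg a).1 (hA.2.1 ha)
  exact hinv hb

theorem yv_normal (hc : Core p S) (hZ : ¬ centerIn (S : Subgroup G) ≤ center G)
    (hJ : ¬ jOf (S : Subgroup G) ≤ Cfsg.pCore p G) : (yv S).Normal := by
  let U : Subgroup G := sInf {A | A ∈ fa (S : Subgroup G) ∧ A ≤ Cfsg.pCore p G}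
  haveI hU : U.Normal := by
    refine ⟨fun u hu g => mem_sInf.2 fun A hA => ?_⟩
    have hmem : A.map (MulAut.conj g⁻¹).toMonoidHom ≤ Cfsg.pCore p G := by
      rintro _ ⟨a, ha, rfl⟩
      exact pCore_isNormal.conj_mem a (hA.2 ha) g⁻¹
    obtain ⟨a, ha, he⟩ := mem_sInf.1 hu _
      ⟨fa_conj hA.1 g⁻¹ fun a ha => hc.le_S (hmem ⟨a, ha, rfl⟩), hmem⟩
    rw [← he]
    simpa [mul_assoc] using ha
  have hVU : omega p G ≤ U := le_sInf fun A hA => omega_le_member hc hA.1 hA.2
  have hYU : Cfsg.centerThompsonAOf (S : Subgroup G) ≤ U := le_sInf fun A hA => zj_le hA.1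
  -- `J(S)`, hence its normal closure, centralises `U` modulo `Ω₁ Z(O_p(G))`
  let Cm : Subgroup G := (centralizer
    ((U.map (QuotientGroup.mk' (omega p G)) : Subgroup (G ⧸ omega p G)) :
      Set (G ⧸ omega p G))).comap (QuotientGroup.mk' (omega p G))
  haveI : (U.map (QuotientGroup.mk' (omega p G))).Normal :=
    hU.map _ (QuotientGroup.mk'_surjective _)
  have hJC : normalClosure (jOf (S : Subgroup G) : Set G) ≤ Cm := by
    refine normalClosure_le_normal ((sSup_le fun A hA a ha => mem_centralizer_iff.2 ?_) :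
      jOf (S : Subgroup G) ≤ Cm)
    rintro _ ⟨u, hu, rfl⟩
    obtain ⟨h1, h2, -⟩ := prime'_spec hc hZ hA
    obtain ⟨v, hv, a', ha', rfl⟩ :=
      mem_sup_of_normal_left.1 (mem_sInf.1 hu (prime' p A) ⟨h1, h2⟩)
    rw [← map_mul, ← map_mul]
    refine QuotientGroup.eq.2 ?_
    rw [show (v * a' * a)⁻¹ * (a * (v * a')) =
      a⁻¹ * a'⁻¹ * (v⁻¹ * (a * v * a⁻¹)) * a * a' by group]
    have hd : v⁻¹ * (a * v * a⁻¹) ∈ omega p G :=
      mul_mem (inv_mem hv) (omega_normal.conj_mem v hv a)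
    have hcom := omega_commute hd ha'.2
    have e : a⁻¹ * a'⁻¹ * (v⁻¹ * (a * v * a⁻¹)) * a * a' =
        a⁻¹ * (v⁻¹ * (a * v * a⁻¹)) * a := by
      rw [mul_assoc _ a a', fa_comm hA ha ha'.1, ← mul_assoc _ a' a, mul_assoc _ _ a',
        hcom]
      group
    rw [e]
    simpa using omega_normal.conj_mem _ hd a⁻¹
  rw [← normalizer_eq_top_iff, eq_top_iff, ← normalClosure_sup_eq_top hc hJ]
  refine sup_le (fun g hg => mem_normalizer_fintype fun x hx => ?_)
    (fun g hg => mem_normalizer_fintype fun x hx => ?_)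
  · obtain ⟨v, hv, y, hy, rfl⟩ := mem_yv.1 hx
    have h := mem_centralizer_iff.1 (hJC hg) _ (mem_map_of_mem _ (hYU hy))
    rw [← map_mul, ← map_mul] at h
    have h' : (y * g)⁻¹ * (g * y) ∈ omega p G := QuotientGroup.eq.1 h
    have e : g * y * g⁻¹ = y * (g * ((y * g)⁻¹ * (g * y)) * g⁻¹) := by group
    rw [show g * (v * y) * g⁻¹ = (g * v * g⁻¹) * (g * y * g⁻¹) by group, e]
    exact mul_mem (mem_sup_left (omega_normal.conj_mem v hv g))
      (mul_mem (mem_sup_right hy) (mem_sup_left (omega_normal.conj_mem _ h' g)))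
  · obtain ⟨v, hv, y, hy, rfl⟩ := mem_yv.1 hx
    rw [show g * (v * y) * g⁻¹ = (g * v * g⁻¹) * (g * y * g⁻¹) by group]
    exact mul_mem (mem_sup_left (omega_normal.conj_mem v hv g))
      (mem_sup_right (zj_conj_mem hg hy))

end CfsgLib.PushL2
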