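import Cfsg.Agent.PushL2.Maximiser
import Cfsg.Agent.PushL2.Thompson
import Cfsg.Agent.PushL2.Phi
import Cfsg.Agent.LocalB.ChermakDelgado

/-!
Minimal centrally large subgroups of a Sylow subgroup over a quotient `PSL₂(q)`: each is traded
for one inside `O_p(G)` with the same derived subgroup and no smaller `Ω₁` of the centre.
-/

set_option autoImplicit false
set_option linter.unusedSectionVars false
set_option linter.style.haveILetI false

namespace CfsgLib.PushL2

open Subgroup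
open CfsgLib.LocalB.CD (C CL Large m le_C_iff C_antitone le_CC C_sup)

section Intrinsic

variable {P : Type*} [Group P] [Finite P]

theorem mem_omegaOneCenter {p : ℕ} {R : Subgroup P} {x : P} :
    x ∈ Cfsg.omegaOneCenter p R ↔ x ∈ R ⊓ C R ∧ x ^ p = 1 := by
  refine ⟨fun h => ?_, fun h => subset_closure ⟨h.1, h.2⟩⟩
  induction h using Subgroup.closure_induction with
  | mem y hy => exact hy
  | one => exact ⟨one_mem _, one_pow p⟩
  | mul y z _ _ hy hz => exact ⟨mul_mem hy.1 hz.1, by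
      rw [(show Commute y z from (mem_centralizer_iff.1 hy.1.2 z hz.1.1).symm).mul_pow, hy.2,
        hz.2, one_mul]⟩
  | inv y _ hy => exact ⟨inv_mem hy.1, by rw [inv_pow, hy.2, inv_one]⟩

/-- Isomorphic subgroups: minimal central largeness transfers. -/
theorem minimal_of_iso {R R' : Subgroup P} (hR : Cfsg.IsMinimalCentrallyLarge R) (e : R ≃* R') :
    Cfsg.IsMinimalCentrallyLarge R' := by
  have h1 : Nat.card R' = Nat.card R := (Nat.card_congr e.toEquiv).symm
  have h2 : Nat.card (center R') = Nat.card (center R) := by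
    refine (Nat.card_congr (e.toEquiv.subtypeEquiv fun x => ?_)).symm
    show x ∈ center R ↔ e x ∈ center R'
    simp only [mem_center_iff]
    constructor
    · intro h g
      obtain ⟨g, rfl⟩ := e.surjective g
      rw [← map_mul, ← map_mul, h g]
    · intro h g
      exact e.injective (by rw [map_mul, map_mul, h (e g)])
  have hcl : Cfsg.IsCentrallyLarge R' := by
    unfold Cfsg.IsCentrallyLarge
    rw [h1, h2]
    exact hR.1
  obtain ⟨Y, hYle, hY⟩ := LocalB.CD.exists_minimal_le (LocalB.CD.isCentrallyLarge_iff.1 hcl)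
  obtain ⟨-, hc, -⟩ := LocalB.CD.minimal_invariants hR hY
  exact eq_of_le_of_card_ge hYle (by omega) ▸ hY

theorem omega_card_le_of_iso {p : ℕ} {R R' : Subgroup P} (e : R ≃* R') :
    Nat.card (Cfsg.omegaOneCenter p R) ≤ Nat.card (Cfsg.omegaOneCenter p R') := by
  refine Nat.card_le_card_of_injective (fun x : Cfsg.omegaOneCenter p R =>
    (⟨(e ⟨x, (mem_omegaOneCenter.1 x.2).1.1⟩ : R'), mem_omegaOneCenter.2 ?_⟩ :
      Cfsg.omegaOneCenter p R')) ?_
  · obtain ⟨⟨hx, hxc⟩, hxp⟩ := mem_omegaOneCenter.1 x.2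
    refine ⟨⟨SetLike.coe_mem _, mem_centralizer_iff.2 fun y hy => ?_⟩, ?_⟩
    · obtain ⟨z, hz⟩ := e.surjective ⟨y, hy⟩
      have hc : z * ⟨x, hx⟩ = ⟨x, hx⟩ * z := Subtype.ext (mem_centralizer_iff.1 hxc z z.2)
      have := congrArg e hc
      rw [map_mul, map_mul, hz] at this
      exact congrArg Subtype.val this
    · rw [← SubmonoidClass.coe_pow, ← map_pow,
        show (⟨(x : P), hx⟩ : R) ^ p = 1 from Subtype.ext hxp, map_one, OneMemClass.coe_one]
  · intro x y h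
    have h0 : ((e ⟨x, (mem_omegaOneCenter.1 x.2).1.1⟩ : R') : P) =
        ((e ⟨y, (mem_omegaOneCenter.1 y.2).1.1⟩ : R') : P) :=
      congrArg (fun z : Cfsg.omegaOneCenter p R' => (z : P)) h
    have h' := e.injective (Subtype.ext h0)
    exact Subtype.ext (congrArg (fun z : R => (z : P)) h')

theorem minimal_comm_eq {R R' : Subgroup P} (hR : Cfsg.IsMinimalCentrallyLarge R)
    (hR' : Cfsg.IsMinimalCentrallyLarge R') : ⁅R, R⁆ = ⁅R', R'⁆ :=
  (LocalB.CD.minimal_invariants hR hR').1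

theorem commutator_characteristic {R : Subgroup P} (hR : Cfsg.IsMinimalCentrallyLarge R) :
    (⁅R, R⁆).Characteristic := by
  refine characteristic_iff_map_eq.2 fun e => ?_
  rw [map_commutator]
  exact minimal_comm_eq (minimal_of_iso hR (e.subgroupMap R)) hR

theorem exists_minimal : ∃ R : Subgroup P, Cfsg.IsMinimalCentrallyLarge R := by
  obtain ⟨H, hH⟩ := LocalB.CD.exists_cl (G := P)
  obtain ⟨R, -, hR⟩ := LocalB.CD.exists_minimal_le hH
  exact ⟨R, hR⟩

/-- The members of `S_Φ`. -/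
def MaxMinimal (p : ℕ) (R : Subgroup P) : Prop :=
  Cfsg.IsMinimalCentrallyLarge R ∧
    ∀ R' : Subgroup P, Cfsg.IsMinimalCentrallyLarge R' →
      Nat.card (Cfsg.omegaOneCenter p R') ≤ Nat.card (Cfsg.omegaOneCenter p R)

theorem exists_maxMinimal (p : ℕ) : ∃ R : Subgroup P, MaxMinimal p R := by
  obtain ⟨R, hR, hmax⟩ := Set.exists_max_image {R : Subgroup P | Cfsg.IsMinimalCentrallyLarge R}
    (fun R => Nat.card (Cfsg.omegaOneCenter p R)) (Set.toFinite _) exists_minimal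
  exact ⟨R, hR, hmax⟩

theorem maxMinimal_iff {p : ℕ} {R : Subgroup P} :
    MaxMinimal p R ↔ Cfsg.IsMinimalCentrallyLarge R ∧
      Nat.card ↥(Cfsg.omegaOneCenter p R) = Cfsg.maxOmegaCenterOfMinimalCL p P := by
  obtain ⟨R₀, h₀, h₀max⟩ := exists_maxMinimal (P := P) p
  have hmax : Cfsg.maxOmegaCenterOfMinimalCL p P = Nat.card (Cfsg.omegaOneCenter p R₀) :=
    IsGreatest.csSup_eq ⟨⟨R₀, h₀, rfl⟩, by rintro _ ⟨K, hK, rfl⟩; exact h₀max K hK⟩
  rw [hmax]
  exact ⟨fun h => ⟨h.1, le_antisymm (h₀max R h.1) (h.2 R₀ h₀)⟩,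
    fun h => ⟨h.1, fun R' hR' => (h₀max R' hR').trans h.2.ge⟩⟩

theorem phiJoin_eq {p : ℕ} [Fact p.Prime] (hP : IsPGroup p P) :
    Cfsg.frattiniOfMinimalCLJoin p P = ⨆ R : {R : Subgroup P // MaxMinimal p R}, phi p R.1 := by
  unfold Cfsg.frattiniOfMinimalCLJoin
  refine le_antisymm (iSup_le fun R => ?_) (iSup_le fun R => ?_)
  · rw [map_frattini (hP.to_subgroup _)]
    exact le_iSup (fun R : {R : Subgroup P // MaxMinimal p R} => phi p R.1)
      ⟨R.1, maxMinimal_iff.2 R.2⟩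
  · rw [← map_frattini (hP.to_subgroup R.1)]
    exact le_iSup (fun R : {Q : Subgroup P // Cfsg.IsMinimalCentrallyLarge Q ∧
      Nat.card ↥(Cfsg.omegaOneCenter p Q) = Cfsg.maxOmegaCenterOfMinimalCL p P} =>
        (frattini ↥(R : Subgroup P)).map (R : Subgroup P).subtype) ⟨R.1, maxMinimal_iff.1 R.2⟩

/-- If `S_Φ = 1`, the minimal centrally large subgroups are the abelian subgroups of largest order,
and one of them is elementary abelian. -/
theorem of_phiJoin_eq_bot {p : ℕ} [Fact p.Prime] (hP : IsPGroup p P)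
    (h : Cfsg.frattiniOfMinimalCLJoin p P = ⊥) :
    (∀ Q : Subgroup P, Cfsg.IsMinimalCentrallyLarge Q ↔ Q ∈ Cfsg.maxAbelianSubgroups P) ∧
      ∃ A ∈ Cfsg.maxAbelianSubgroups P, Cfsg.IsElementaryAbelian p A := by
  obtain ⟨R, hR⟩ := exists_maxMinimal (P := P) p
  have hphi : phi p R ≤ ⊥ := by
    rw [← h, phiJoin_eq hP]
    exact le_iSup (fun R : {R : Subgroup P // MaxMinimal p R} => phi p R.1) ⟨R, hR⟩
  have hpow : ∀ a ∈ R, a ^ p = 1 := fun a ha => mem_bot.1 (hphi (pow_mem_phi ha))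
  have hab : IsMulCommutative R := ⟨⟨fun a b => Subtype.ext
    (commutatorElement_eq_one_iff_mul_comm.1 (mem_bot.1 (hphi (comm_mem_phi a.2 b.2))))⟩⟩
  exact ⟨fun Q => LocalB.CD.minimal_iff_maxAbelian hR.1 hab Q,
    R, (LocalB.CD.minimal_iff_maxAbelian hR.1 hab R).1 hR.1, hab, hpow⟩

end Intrinsic

variable {G : Type*} [Group G] [Finite G] {p : ℕ} [Fact p.Prime] {S : Sylow p G}

/-- `O_p(G)` inside `S`. -/
abbrev qS (S : Sylow p G) : Subgroup ↥(S : Subgroup G) :=
  (Cfsg.pCore p G).subgroupOf (S : Subgroup G)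

/-- `Ω₁Z(O_p(G))` inside `S`. -/
abbrev vS (S : Sylow p G) : Subgroup ↥(S : Subgroup G) :=
  (omega p G).subgroupOf (S : Subgroup G)

theorem vS_le : vS S ≤ qS S := fun _ hx => omega_le hx

theorem vS_comm {x y : ↥(S : Subgroup G)} (hx : x ∈ vS S) (hy : y ∈ qS S) : x * y = y * x :=
  Subtype.ext (omega_commute hx hy)

theorem vS_le_C {X : Subgroup ↥(S : Subgroup G)} (hX : X ≤ qS S) : vS S ≤ C X := fun _ hv =>
  mem_centralizer_iff.2 fun _ hy => (vS_comm hv (hX hy)).symm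

theorem card_vS (hc : Core p S) : Nat.card (vS S) = Nat.card (omega p G) :=
  Nat.card_congr (subgroupOfEquivOfLe (omega_le.trans hc.le_S)).toEquiv

theorem card_qS (hc : Core p S) : Nat.card (qS S) = Nat.card ↥(Cfsg.pCore p G) :=
  Nat.card_congr (subgroupOfEquivOfLe hc.le_S).toEquiv

theorem fix_map (hc : Core p S) (X : Subgroup ↥(S : Subgroup G)) :
    fix (MonoidHom.id G) (omega p G) (X.map (S : Subgroup G).subtype ⊔ Cfsg.pCore p G) =
      (vS S ⊓ C X).map (S : Subgroup G).subtype := by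
  refine le_antisymm (fun v hv => ?_) ?_
  · refine ⟨⟨v, hc.le_S (omega_le hv.1)⟩, ⟨hv.1, mem_centralizer_iff.2 fun x hx => Subtype.ext ?_⟩,
      rfl⟩
    exact (mem_fix.1 hv).2 x (mem_sup_left (mem_map_of_mem (S : Subgroup G).subtype hx))
  · rintro _ ⟨v, ⟨hv, hvX⟩, rfl⟩
    refine fix_sup _ _ ⟨mem_fix.2 ⟨hv, ?_⟩, mem_fix.2 ⟨hv, fun a ha => (omega_commute hv ha).symm⟩⟩
    rintro _ ⟨x, hx, rfl⟩
    exact congrArg Subtype.val (mem_centralizer_iff.1 hvX x hx)

theorem card_sup_core (hc : Core p S) (X : Subgroup ↥(S : Subgroup G)) :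
    Nat.card ↥(X.map (S : Subgroup G).subtype ⊔ Cfsg.pCore p G) * Nat.card ↥(X ⊓ qS S) =
      Nat.card ↥(Cfsg.pCore p G) * Nat.card X := by
  have h := card_sup_mul_inf (qS S) X
  rw [card_qS hc, sup_comm, inf_comm] at h
  rw [← h]
  congr 1
  have e : (X ⊔ qS S).map (S : Subgroup G).subtype =
      X.map (S : Subgroup G).subtype ⊔ Cfsg.pCore p G := by
    rw [Subgroup.map_sup, subgroupOf_map_subtype, inf_of_le_left hc.le_S]
  rw [← e, card_map_of_injective (S : Subgroup G).subtype_injective]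

/-- The bound inside `S`. -/
theorem card_le (hc : Core p S) (hZ : ¬ centerIn (S : Subgroup G) ≤ center G)
    (X : Subgroup ↥(S : Subgroup G)) :
    Nat.card X * Nat.card ↥(vS S ⊓ C X) ≤ Nat.card ↥(X ⊓ qS S) * Nat.card (vS S) := by
  have h := bound hc omega_action (by simpa using centralizer_omega_sup_ne hc hZ)
    (le_sup_right : _ ≤ X.map (S : Subgroup G).subtype ⊔ Cfsg.pCore p G)
    (sup_le (map_subtype_le X) hc.le_S)
  rw [fix_map hc, card_map_of_injective (S : Subgroup G).subtype_injective] at h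
  refine Nat.le_of_mul_le_mul_left ?_ (Nat.card_pos (α := ↥(Cfsg.pCore p G)))
  calc Nat.card ↥(Cfsg.pCore p G) * (Nat.card X * Nat.card ↥(vS S ⊓ C X))
      = Nat.card ↥(Cfsg.pCore p G) * Nat.card X * Nat.card ↥(vS S ⊓ C X) := by ring
    _ = Nat.card ↥(X.map (S : Subgroup G).subtype ⊔ Cfsg.pCore p G) *
          Nat.card ↥(vS S ⊓ C X) * Nat.card ↥(X ⊓ qS S) := by rw [← card_sup_core hc]; ring
    _ ≤ Nat.card ↥(Cfsg.pCore p G) * Nat.card (omega p G) * Nat.card ↥(X ⊓ qS S) :=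
        Nat.mul_le_mul_right _ h
    _ = _ := by rw [card_vS hc]; ring

/-- Equality outside `O_p(G)`. -/
theorem sharp_S (hc : Core p S) (hZ : ¬ centerIn (S : Subgroup G) ≤ center G)
    {X : Subgroup ↥(S : Subgroup G)} (hX : ¬ X ≤ qS S)
    (h : Nat.card ↥(X ⊓ qS S) * Nat.card (vS S) ≤ Nat.card X * Nat.card ↥(vS S ⊓ C X)) :
    (∀ Y : Subgroup ↥(S : Subgroup G), ¬ Y ≤ qS S →
      vS S ⊓ C Y = vS S ⊓ C (⊤ : Subgroup ↥(S : Subgroup G))) ∧ X ⊔ qS S = ⊤ := by
  have hmapX : ∀ Y : Subgroup ↥(S : Subgroup G), ¬ Y ≤ qS S →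
      ¬ Y.map (S : Subgroup G).subtype ⊔ Cfsg.pCore p G ≤ Cfsg.pCore p G := fun Y hY hle =>
    hY fun y hy => hle (mem_sup_left (mem_map_of_mem (S : Subgroup G).subtype hy))
  obtain ⟨heq, hfix⟩ := sharp hc omega_action (by simpa using centralizer_omega_sup_ne hc hZ)
    (le_sup_right : _ ≤ X.map (S : Subgroup G).subtype ⊔ Cfsg.pCore p G)
    (sup_le (map_subtype_le X) hc.le_S) (hmapX X hX) (by
      rw [fix_map hc, card_map_of_injective (S : Subgroup G).subtype_injective]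
      refine Nat.le_of_mul_le_mul_left ?_ (Nat.card_pos (α := ↥(X ⊓ qS S)))
      calc Nat.card ↥(X ⊓ qS S) * (Nat.card ↥(Cfsg.pCore p G) * Nat.card (omega p G))
          = Nat.card ↥(Cfsg.pCore p G) * (Nat.card ↥(X ⊓ qS S) * Nat.card (vS S)) := by
            rw [card_vS hc]; ring
        _ ≤ Nat.card ↥(Cfsg.pCore p G) * (Nat.card X * Nat.card ↥(vS S ⊓ C X)) :=
            Nat.mul_le_mul_left _ h
        _ = Nat.card ↥(Cfsg.pCore p G) * Nat.card X * Nat.card ↥(vS S ⊓ C X) := by ring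
        _ = _ := by rw [← card_sup_core hc]; ring)
  have hall : ∀ Y : Subgroup ↥(S : Subgroup G), ¬ Y ≤ qS S →
      vS S ⊓ C Y = vS S ⊓ C (⊤ : Subgroup ↥(S : Subgroup G)) := by
    intro Y hY
    refine map_injective (S : Subgroup G).subtype_injective ?_
    have htop : ¬ (⊤ : Subgroup ↥(S : Subgroup G)) ≤ qS S := fun hle =>
      hc.ne fun s hs => hle (mem_top (⟨s, hs⟩ : ↥(S : Subgroup G)))
    rw [← fix_map hc, ← fix_map hc, hfix _ (sup_le (map_subtype_le Y) hc.le_S) (hmapX Y hY),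
      hfix _ (sup_le (map_subtype_le _) hc.le_S) (hmapX _ htop)]
  refine ⟨hall, eq_top_of_card_eq _ ?_⟩
  have htop : ¬ (⊤ : Subgroup ↥(S : Subgroup G)) ≤ qS S := fun hle =>
    hc.ne fun s hs => hle (mem_top (⟨s, hs⟩ : ↥(S : Subgroup G)))
  have hC1 : Nat.card (fix (MonoidHom.id G) (omega p G) (S : Subgroup G)) =
      Nat.card ↥(vS S ⊓ C X) := by
    rw [← hfix _ (sup_le (map_subtype_le X) hc.le_S) (hmapX X hX), fix_map hc,
      card_map_of_injective (S : Subgroup G).subtype_injective]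
  rw [hC1] at heq
  have hsup := card_sup_mul_inf (qS S) X
  rw [sup_comm, inf_comm, card_qS hc] at hsup
  have hle := card_le hc hZ X
  refine Nat.eq_of_mul_eq_mul_right
    (Nat.mul_pos (Nat.card_pos (α := ↥(X ⊓ qS S))) (Nat.card_pos (α := ↥(vS S ⊓ C X)))) ?_
  calc Nat.card ↥(X ⊔ qS S) * (Nat.card ↥(X ⊓ qS S) * Nat.card ↥(vS S ⊓ C X))
      = Nat.card ↥(Cfsg.pCore p G) * (Nat.card X * Nat.card ↥(vS S ⊓ C X)) := by
        rw [← mul_assoc, hsup]; ring
    _ = Nat.card ↥(Cfsg.pCore p G) * (Nat.card ↥(X ⊓ qS S) * Nat.card (vS S)) := by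
        rw [le_antisymm hle h]
    _ = _ := by
        rw [card_vS hc, mul_left_comm, ← heq]
        ring

/-- The subgroup traded for `R`. -/
def trade (S : Sylow p G) (R : Subgroup ↥(S : Subgroup G)) : Subgroup ↥(S : Subgroup G) :=
  vS S ⊔ (R ⊓ qS S)

theorem trade_le (R : Subgroup ↥(S : Subgroup G)) : trade S R ≤ qS S :=
  sup_le vS_le inf_le_right

theorem meet_vS (R : Subgroup ↥(S : Subgroup G)) : vS S ⊓ (R ⊓ qS S) = vS S ⊓ R :=
  le_antisymm (inf_le_inf_left _ inf_le_left)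
    (le_inf inf_le_left (le_inf inf_le_right (inf_le_left.trans vS_le)))

theorem trade_spec (hc : Core p S) (hZ : ¬ centerIn (S : Subgroup G) ≤ center G)
    {R : Subgroup ↥(S : Subgroup G)} (hR : CL R) :
    CL (trade S R) ∧ C (trade S R) = vS S ⊔ (C R ⊓ qS S) ∧
      Nat.card R * Nat.card ↥(vS S ⊓ C R) = Nat.card ↥(R ⊓ qS S) * Nat.card (vS S) ∧
      Nat.card (C R) * Nat.card ↥(vS S ⊓ R) = Nat.card ↥(C R ⊓ qS S) * Nat.card (vS S) := by
  have a1 := card_le hc hZ R
  have a2 := card_le hc hZ (C R)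
  rw [hR.1.centralizer.2] at a2
  have e1 := card_sup_mul_inf (vS S) (R ⊓ qS S)
  have e2 := card_sup_mul_inf (vS S) (C R ⊓ qS S)
  rw [meet_vS] at e1 e2
  set sub := vS S ⊔ (C R ⊓ qS S) with hsub
  change Nat.card ↥(trade S R) * _ = _ at e1
  have hsubC : sub ≤ C (trade S R) := by
    rw [trade, C_sup]
    refine sup_le (le_inf (vS_le_C vS_le) (vS_le_C inf_le_right))
      (le_inf (le_C_iff.1 (vS_le_C inf_le_right)) (inf_le_left.trans (C_antitone inf_le_left)))
  have hsubR : sub ≤ trade S R := sup_le_sup_left (inf_le_inf_right _ hR.2) _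
  have hpos : 0 < Nat.card ↥(vS S ⊓ R) * Nat.card ↥(vS S ⊓ C R) :=
    Nat.mul_pos Nat.card_pos Nat.card_pos
  have key : m R * (Nat.card ↥(vS S ⊓ R) * Nat.card ↥(vS S ⊓ C R)) ≤
      (Nat.card ↥(trade S R) * Nat.card sub) *
        (Nat.card ↥(vS S ⊓ R) * Nat.card ↥(vS S ⊓ C R)) := by
    calc m R * (Nat.card ↥(vS S ⊓ R) * Nat.card ↥(vS S ⊓ C R))
        = (Nat.card R * Nat.card ↥(vS S ⊓ C R)) * (Nat.card (C R) * Nat.card ↥(vS S ⊓ R)) := by
          unfold LocalB.CD.m; ring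
      _ ≤ (Nat.card ↥(R ⊓ qS S) * Nat.card (vS S)) *
          (Nat.card ↥(C R ⊓ qS S) * Nat.card (vS S)) := Nat.mul_le_mul a1 a2
      _ = (Nat.card (vS S) * Nat.card ↥(R ⊓ qS S)) *
          (Nat.card (vS S) * Nat.card ↥(C R ⊓ qS S)) := by ring
      _ = _ := by rw [← e1, ← e2]; ring
  have h1 : m R ≤ Nat.card ↥(trade S R) * Nat.card sub := Nat.le_of_mul_le_mul_right key hpos
  have h2 : Nat.card ↥(trade S R) * Nat.card sub ≤ m (trade S R) :=
    Nat.mul_le_mul_left _ (card_le_of_le hsubC)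
  have h3 := hR.1 (trade S R)
  have hCeq : C (trade S R) = sub :=
    (eq_of_le_of_card_ge hsubC (Nat.le_of_mul_le_mul_left (h3.trans h1) Nat.card_pos)).symm
  refine ⟨⟨hR.1.congr (h1.trans h2), hCeq ▸ hsubR⟩, hCeq, ?_⟩
  have hprod : (Nat.card R * Nat.card ↥(vS S ⊓ C R)) * (Nat.card (C R) * Nat.card ↥(vS S ⊓ R)) =
      (Nat.card ↥(R ⊓ qS S) * Nat.card (vS S)) * (Nat.card ↥(C R ⊓ qS S) * Nat.card (vS S)) := by
    refine le_antisymm (Nat.mul_le_mul a1 a2) ?_
    calc (Nat.card ↥(R ⊓ qS S) * Nat.card (vS S)) * (Nat.card ↥(C R ⊓ qS S) * Nat.card (vS S))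
        = (Nat.card (vS S) * Nat.card ↥(R ⊓ qS S)) *
          (Nat.card (vS S) * Nat.card ↥(C R ⊓ qS S)) := by ring
      _ = (Nat.card ↥(trade S R) * Nat.card sub) *
          (Nat.card ↥(vS S ⊓ R) * Nat.card ↥(vS S ⊓ C R)) := by rw [← e1, ← e2]; ring
      _ ≤ m R * (Nat.card ↥(vS S ⊓ R) * Nat.card ↥(vS S ⊓ C R)) :=
          Nat.mul_le_mul_right _ (h2.trans h3)
      _ = _ := by unfold LocalB.CD.m; ring
  constructor
  · refine le_antisymm a1 (Nat.le_of_mul_le_mul_right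
      (hprod.ge.trans (Nat.mul_le_mul_left _ a2)) (Nat.mul_pos Nat.card_pos Nat.card_pos))
  · refine le_antisymm a2 (Nat.le_of_mul_le_mul_left
      (hprod.ge.trans (Nat.mul_le_mul_right _ a1)) (Nat.mul_pos Nat.card_pos Nat.card_pos))

/-- Trading a minimal centrally large subgroup that is outside `O_p(G)`. -/
theorem trade_minimal (hc : Core p S) (hZ : ¬ centerIn (S : Subgroup G) ≤ center G)
    {R : Subgroup ↥(S : Subgroup G)} (hR : Cfsg.IsMinimalCentrallyLarge R) (hRQ : ¬ R ≤ qS S) :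
    Cfsg.IsMinimalCentrallyLarge (trade S R) ∧ ¬ C R ≤ qS S ∧
      (∀ Y : Subgroup ↥(S : Subgroup G), ¬ Y ≤ qS S →
        vS S ⊓ C Y = vS S ⊓ C (⊤ : Subgroup ↥(S : Subgroup G))) := by
  have hRc := LocalB.CD.isCentrallyLarge_iff.1 hR.1
  obtain ⟨hT, hCT, q1, q2⟩ := trade_spec hc hZ hRc
  obtain ⟨Y, hY, hYm⟩ := LocalB.CD.exists_minimal_le hT
  obtain ⟨-, hcR, hcC⟩ := LocalB.CD.minimal_invariants hR hYm
  obtain ⟨hall, -⟩ := sharp_S hc hZ hRQ q1.ge
  have hCR : ¬ C R ≤ qS S := by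
    intro hle
    rw [inf_of_le_left hle] at q2
    have hVR : vS S ≤ R := by
      have h := Nat.eq_of_mul_eq_mul_left Nat.card_pos q2
      rw [← eq_of_le_of_card_ge (inf_le_left : vS S ⊓ R ≤ vS S) h.ge]
      exact inf_le_right
    have hle' : trade S R ≤ R ⊓ qS S := sup_le (le_inf hVR vS_le) le_rfl
    refine hRQ ?_
    rw [← eq_of_le_of_card_ge (inf_le_left : R ⊓ qS S ≤ R)
      (hcR.le.trans (card_le_of_le (hY.trans hle')))]
    exact inf_le_right
  refine ⟨?_, hCR, hall⟩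
  have hVR : vS S ⊓ R = vS S ⊓ C R := by
    have h1 := hall (C R) hCR
    rw [hRc.1.centralizer.2] at h1
    rw [h1, hall R hRQ]
  have e1 := card_sup_mul_inf (vS S) (R ⊓ qS S)
  rw [meet_vS, hVR] at e1
  change Nat.card ↥(trade S R) * _ = _ at e1
  rw [mul_comm (Nat.card (vS S)), ← q1] at e1
  have h := Nat.eq_of_mul_eq_mul_right Nat.card_pos e1
  exact eq_of_le_of_card_ge hY (h.le.trans hcR.le) ▸ hYm

/-- Trading keeps `Φ` when the `Ω₁` of the centre has the largest possible order. -/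
theorem trade_phi (hc : Core p S) (hZ : ¬ centerIn (S : Subgroup G) ≤ center G)
    {R : Subgroup ↥(S : Subgroup G)} (hR : MaxMinimal p R) (hRQ : ¬ R ≤ qS S) :
    MaxMinimal p (trade S R) ∧ phi p (trade S R) = phi p R := by
  obtain ⟨hTm, hCR, hall⟩ := trade_minimal hc hZ hR.1 hRQ
  have hRc := LocalB.CD.isCentrallyLarge_iff.1 hR.1.1
  obtain ⟨hTc, hCT, q1, q2⟩ := trade_spec hc hZ hRc
  set E := Cfsg.omegaOneCenter p R with hE
  have hER : E ≤ R := fun x hx => (mem_omegaOneCenter.1 hx).1.1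
  have hEC : E ≤ C R := fun x hx => (mem_omegaOneCenter.1 hx).1.2
  set F := vS S ⊔ (E ⊓ qS S) with hF
  have hFE : F ≤ Cfsg.omegaOneCenter p (trade S R) := by
    refine sup_le (fun x hx => mem_omegaOneCenter.2 ⟨⟨mem_sup_left hx,
      vS_le_C (trade_le R) hx⟩, Subtype.ext ?_⟩) (fun x hx => mem_omegaOneCenter.2 ⟨⟨?_, ?_⟩, ?_⟩)
    · rw [SubmonoidClass.coe_pow]; exact hx.2
    · exact mem_sup_right ⟨hER hx.1, hx.2⟩
    · show x ∈ C (trade S R)
      rw [hCT]; exact mem_sup_right ⟨hEC hx.1, hx.2⟩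
    · exact (mem_omegaOneCenter.1 hx.1).2
  have e1 := card_sup_mul_inf (vS S) (E ⊓ qS S)
  rw [meet_vS, mul_comm (Nat.card (vS S))] at e1
  change Nat.card F * _ = _ at e1
  -- `V ⊓ E` lies in the fixed points of `E`
  have hVE : vS S ⊓ E ≤ vS S ⊓ C E :=
    inf_le_inf_left _ (hER.trans (le_C_iff.1 hEC))
  have hbound := card_le hc hZ E
  have hge : Nat.card E ≤ Nat.card F := by
    refine Nat.le_of_mul_le_mul_right ?_ (Nat.card_pos (α := ↥(vS S ⊓ E)))
    rw [e1]
    exact (Nat.mul_le_mul_left _ (card_le_of_le hVE)).trans hbound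
  have hle : Nat.card (Cfsg.omegaOneCenter p (trade S R)) ≤ Nat.card E := hR.2 _ hTm
  have hFeq : Nat.card F = Nat.card E := le_antisymm ((card_le_of_le hFE).trans hle) hge
  refine ⟨⟨hTm, fun R' hR' => (hR.2 R' hR').trans (hge.trans (card_le_of_le hFE))⟩, ?_⟩
  rw [hFeq] at e1
  -- so `E` covers `S / O_p(G)`
  have hEQ : ¬ E ≤ qS S := by
    intro hle'
    rw [inf_of_le_left hle'] at e1
    have h := Nat.eq_of_mul_eq_mul_left Nat.card_pos e1
    have hVR : vS S ≤ C R := by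
      rw [← eq_of_le_of_card_ge (inf_le_left : vS S ⊓ E ≤ vS S) h.ge]
      exact inf_le_right.trans hEC
    rw [inf_eq_left.2 hVR] at q1
    have h1 := Nat.eq_of_mul_eq_mul_right Nat.card_pos q1
    refine hRQ ?_
    rw [← eq_of_le_of_card_ge (inf_le_left : R ⊓ qS S ≤ R) h1.le]
    exact inf_le_right
  obtain ⟨-, hEtop⟩ := sharp_S hc hZ hEQ
    (e1 ▸ Nat.mul_le_mul_left _ (card_le_of_le hVE))
  have hdec : R = E ⊔ (R ⊓ qS S) := by
    refine le_antisymm (fun r hr => ?_) (sup_le hER inf_le_left)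
    haveI : (qS S).Normal := normal_subgroupOf
    obtain ⟨e, he, q, hq, rfl⟩ := mem_sup_of_normal_right.1
      (show r ∈ E ⊔ qS S from hEtop ▸ mem_top r)
    exact mul_mem_sup he ⟨(R.mul_mem_cancel_left (hER he)).1 hr, hq⟩
  conv_rhs => rw [hdec]
  rw [phi_sup_central (hEC.trans (C_antitone inf_le_left)) (hEC.trans (C_antitone hER))
      fun x hx => (mem_omegaOneCenter.1 hx).2, trade,
    phi_sup_central (vS_le_C inf_le_right) (vS_le_C vS_le) fun x hx => Subtype.ext (by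
      rw [SubmonoidClass.coe_pow]; exact hx.2)]

/-- The transfer of a subgroup of `S` along conjugation by an element of `G`. -/
theorem exists_conj {R : Subgroup ↥(S : Subgroup G)} (g : G)
    (hg : ∀ x ∈ R, g * (x : G) * g⁻¹ ∈ (S : Subgroup G)) :
    ∃ R' : Subgroup ↥(S : Subgroup G), Nonempty (R ≃* R') ∧
      R'.map (S : Subgroup G).subtype =
        (R.map (S : Subgroup G).subtype).map (MulAut.conj g).toMonoidHom := by
  set A := (R.map (S : Subgroup G).subtype).map (MulAut.conj g).toMonoidHom with hA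
  have hAS : A ≤ (S : Subgroup G) := by
    rintro _ ⟨_, ⟨x, hx, rfl⟩, rfl⟩
    exact hg x hx
  refine ⟨A.subgroupOf (S : Subgroup G), ⟨((R.equivMapOfInjective _
    (S : Subgroup G).subtype_injective).trans (Subgroup.equivMapOfInjective _ _
      (MulAut.conj g).injective)).trans (subgroupOfEquivOfLe hAS).symm⟩, ?_⟩
  rw [subgroupOf_map_subtype, inf_of_le_left hAS]

theorem conj_spec (hc : Core p S) {R : Subgroup ↥(S : Subgroup G)}
    (hR : Cfsg.IsMinimalCentrallyLarge R) (hRQ : R ≤ qS S) (g : G) :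
    ∃ R' : Subgroup ↥(S : Subgroup G), Cfsg.IsMinimalCentrallyLarge R' ∧ R' ≤ qS S ∧
      (MaxMinimal p R → MaxMinimal p R') ∧
      R'.map (S : Subgroup G).subtype =
        (R.map (S : Subgroup G).subtype).map (MulAut.conj g).toMonoidHom := by
  have hQn : (Cfsg.pCore p G).Normal := CfsgLib.Solvable.pCore_normal p
  obtain ⟨R', ⟨e⟩, he⟩ := exists_conj g fun x hx => hc.le_S (hQn.conj_mem x (hRQ hx) g)
  refine ⟨R', minimal_of_iso hR e, fun y hy => ?_,
    fun h => ⟨minimal_of_iso hR e, fun R'' hR'' => (h.2 R'' hR'').trans (omega_card_le_of_iso e)⟩,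
    he⟩
  have hy' : (y : G) ∈ R'.map (S : Subgroup G).subtype := mem_map_of_mem _ hy
  rw [he] at hy'
  obtain ⟨_, ⟨x, hx, rfl⟩, hxy⟩ := hy'
  show (y : G) ∈ Cfsg.pCore p G
  rw [← hxy]
  exact hQn.conj_mem x (hRQ hx) g

/-- `S_Φ` is normal in `G`. -/
theorem phiJoin_normal (hc : Core p S) (hZ : ¬ centerIn (S : Subgroup G) ≤ center G) :
    ((Cfsg.frattiniOfMinimalCLJoin p ↥(S : Subgroup G)).map (S : Subgroup G).subtype).Normal := by
  rw [phiJoin_eq S.isPGroup', Subgroup.map_iSup]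
  refine ⟨fun x hx g => ?_⟩
  have hle : (⨆ R : {R : Subgroup ↥(S : Subgroup G) // MaxMinimal p R},
      (phi p R.1).map (S : Subgroup G).subtype) ≤
      (⨆ R : {R : Subgroup ↥(S : Subgroup G) // MaxMinimal p R},
        (phi p R.1).map (S : Subgroup G).subtype).comap (MulAut.conj g).toMonoidHom := by
    refine iSup_le fun ⟨R, hR⟩ => map_le_iff_le_comap.1 ?_
    obtain ⟨T, hT, hTQ, hTphi⟩ : ∃ T, MaxMinimal p T ∧ T ≤ qS S ∧ phi p T = phi p R := by
      by_cases hRQ : R ≤ qS S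
      · exact ⟨R, hR, hRQ, rfl⟩
      · exact ⟨trade S R, (trade_phi hc hZ hR hRQ).1, trade_le R, (trade_phi hc hZ hR hRQ).2⟩
    obtain ⟨T', -, -, hT'max, he⟩ := conj_spec hc hT.1 hTQ g
    refine le_trans (le_of_eq ?_) (le_iSup (fun R : {R : Subgroup ↥(S : Subgroup G) // MaxMinimal p R} =>
      (phi p R.1).map (S : Subgroup G).subtype) ⟨T', hT'max hT⟩)
    rw [← hTphi, map_phi, map_phi, map_phi, he]
  exact hle hx

/-- `Z(S) ∩ [R, R]` is central, or all minimal centrally large subgroups lie in `O_p(G)`. -/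
theorem derived_or_join (hc : Core p S) (hZ : ¬ centerIn (S : Subgroup G) ≤ center G)
    {R₀ : Subgroup ↥(S : Subgroup G)} (hR₀ : Cfsg.IsMinimalCentrallyLarge R₀) :
    centerIn (S : Subgroup G) ⊓ (⁅R₀, R₀⁆).map (S : Subgroup G).subtype ≤ center G ∨
      ((Cfsg.minimalCentrallyLargeJoin ↥(S : Subgroup G)).map (S : Subgroup G).subtype).Normal := by
  by_cases hall : ∀ R : Subgroup ↥(S : Subgroup G), Cfsg.IsMinimalCentrallyLarge R → R ≤ qS S
  · right
    refine ⟨fun x hx g => ?_⟩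
    have hle : (Cfsg.minimalCentrallyLargeJoin ↥(S : Subgroup G)).map (S : Subgroup G).subtype ≤
        ((Cfsg.minimalCentrallyLargeJoin ↥(S : Subgroup G)).map (S : Subgroup G).subtype).comap
          (MulAut.conj g).toMonoidHom := by
      rw [map_le_iff_le_comap]
      refine sSup_le fun R hR => ?_
      obtain ⟨R', hR', -, -, he⟩ := conj_spec hc hR (hall R hR) g
      rw [← map_le_iff_le_comap, ← map_le_iff_le_comap, ← he]
      exact map_mono (le_sSup hR')
    exact hle hx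
  · left
    push Not at hall
    obtain ⟨R, hR, hRQ⟩ := hall
    obtain ⟨hTm, hCR, -⟩ := trade_minimal hc hZ hR hRQ
    set D := (⁅R₀, R₀⁆).map (S : Subgroup G).subtype with hD
    haveI hDn : D.Normal := by
      refine ⟨fun x hx g => ?_⟩
      obtain ⟨T', hT', -, -, he⟩ := conj_spec hc hTm (trade_le R) g
      have hle : D.map (MulAut.conj g).toMonoidHom = D := by
        rw [hD]
        conv_lhs => rw [minimal_comm_eq hR₀ hTm, map_commutator, map_commutator, ← he,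
          ← map_commutator, ← minimal_comm_eq hR₀ hT']
      rw [← hle]
      exact mem_map_of_mem (MulAut.conj g).toMonoidHom hx
    refine le_center_of_le_centralizer S inf_le_left (X := centralizer (D : Set G)) ?_
      (centralizer_le inf_le_right)
    refine (hc.dich _ inferInstance).resolve_right fun hn => hCR fun c hcR => ?_
    refine le_pCore_of_normal hn (S.isPGroup'.to_le inf_le_left) ⟨c.2, mem_centralizer_iff.2 ?_⟩
    rintro _ ⟨d, hd, rfl⟩
    rw [SetLike.mem_coe, minimal_comm_eq hR₀ hR] at hd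
    have hdR : d ∈ R := commutator_le.2 (fun a ha b hb =>
      mul_mem (mul_mem (mul_mem ha hb) (inv_mem ha)) (inv_mem hb)) hd
    exact congrArg Subtype.val (mem_centralizer_iff.1 hcR d hdR)

theorem core_of_pushingUp {S : Sylow p G} (h : Cfsg.IsPushingUpSituation p (S : Subgroup G)) :
    Core p S := by
  obtain ⟨-, -, hE₁, hE₂, K, hK, F, hF, hFf, n, hcard, ⟨e⟩⟩ := h
  have hn : 1 ≤ n := by
    rcases n with _ | n
    · exact absurd hcard (by simpa using (Fintype.one_lt_card (α := F)).ne')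
    · omega
  exact core S hE₁ hE₂ K n hn (Nat.card_eq_fintype_card.trans hcard) e

end CfsgLib.PushL2
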