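import Cfsg.Agent.PushL2.Ambient
import Cfsg.Agent.Solvable.PGroupBasic
import Cfsg.Prelude.Def_LocalEven

/-!
Tools for both cases: coprime elements, central and natural steps of a series, transfer to chief
factors.
-/

set_option autoImplicit false
set_option linter.unusedSectionVars false
set_option linter.style.haveILetI false

namespace CfsgLib.PushL2

open Subgroup Matrix
open scoped commutatorElement

variable {G : Type*} [Group G] [Finite G] {p : ℕ} [Fact p.Prime]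

/-- The elements of order prime to `p` act trivially on `U` modulo `W`. -/
def Triv (p : ℕ) (U W : Subgroup G) : Prop :=
  ∀ g : G, (orderOf g).Coprime p → ∀ u ∈ U, g * u * g⁻¹ * u⁻¹ ∈ W

theorem triv_of_center {U : Subgroup G} (h : U ≤ center G) : Triv p U ⊥ := fun g _ u hu => by
  rw [mem_center_iff.1 (h hu) g]
  simp

/-- A normal subgroup containing an element of `S` outside `O_p(G)` contains all `p'`-elements. -/
theorem coprime_mem {S : Sylow p G} (hc : Core p S) (K : Subgroup G) [K.Normal] {s : G}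
    (hs : s ∈ (S : Subgroup G)) (hsK : s ∈ K) (hsQ : s ∉ Cfsg.pCore p G) {g : G}
    (hg : (orderOf g).Coprime p) : g ∈ K :=
  mem_of_coprime_of_sup_eq_top S ((hc.dich K inferInstance).resolve_right fun h =>
    hsQ (le_pCore_of_normal h (S.isPGroup'.to_le inf_le_left) ⟨hs, hsK⟩)) hg

/-- A `p'`-element moving `x` by an element it fixes fixes `x`. -/
theorem commute_of_shift' {g x : G} (hg : (orderOf g).Coprime p) {c : G}
    (hc : g * x * g⁻¹ * x⁻¹ = c) (hcp : c ∈ Cfsg.pCore p G) (hgc : g * c = c * g) :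
    g * x = x * g := by
  obtain ⟨k, hk⟩ := CfsgLib.Solvable.isPGroup_pCore (G := G) p ⟨c, hcp⟩
  have h := eq_one_of_shift (g := g) (x := x) (c := c) (by rw [← hc]; group) hgc hg
    (congrArg Subtype.val hk)
  rw [h, mul_inv_eq_one] at hc
  exact mul_inv_eq_iff_eq_mul.1 hc

/-- A normal subgroup all of whose elements of order prime to `p` are trivial lies in `O_p(G)`. -/
theorem le_pCore_of_coprime {K : Subgroup G} [K.Normal]
    (h : ∀ g ∈ K, (orderOf g).Coprime p → g = 1) : K ≤ Cfsg.pCore p G := by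
  refine le_pCore_of_normal inferInstance fun g => ?_
  have hp := (Fact.out : p.Prime)
  obtain ⟨e, m, hm, he⟩ := Nat.exists_eq_pow_mul_and_not_dvd (orderOf_pos (g : G)).ne' p hp.ne_one
  refine ⟨e, Subtype.ext (h _ (pow_mem g.2 _) ?_)⟩
  rw [SubmonoidClass.coe_pow, orderOf_pow, he, Nat.gcd_eq_right (dvd_mul_right _ _),
    Nat.mul_div_cancel_left m (pow_pos hp.pos e)]
  exact (hp.coprime_iff_not_dvd.2 hm).symm

theorem ap_commutator {S : Subgroup G} (α : ↥S ≃* ↥S) {a b : G} (ha : a ∈ S) (hb : b ∈ S) :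
    ap α (a * b * a⁻¹ * b⁻¹) = ap α a * ap α b * (ap α a)⁻¹ * (ap α b)⁻¹ := by
  rw [ap_mul α (S.mul_mem (S.mul_mem ha hb) (S.inv_mem ha)) (S.inv_mem hb),
    ap_mul α (S.mul_mem ha hb) (S.inv_mem ha), ap_mul α ha hb, ap_inv α ha, ap_inv α hb]

/-- `S` moves a twist of `V` into `C_V(S)`. -/
theorem NoChar.quad_ap {S : Sylow p G} {q : ℕ} {M : Subgroup G} (N : NoChar p S q M)
    (α : ↥(S : Subgroup G) ≃* ↥(S : Subgroup G)) {v : G} (hv : v ∈ omega p G) {s : G}
    (hs : s ∈ (S : Subgroup G)) : s * ap α v * s⁻¹ * (ap α v)⁻¹ ∈ zs S := by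
  have := zs_inv N.core α (N.quad v hv _ (ap_mem α.symm hs))
  rwa [ap_commutator α (ap_mem α.symm hs) (N.core.le_S (omega_le hv)), symm_ap α hs] at this

/-- An element of order prime to `p` centralising `O_p(G)` is trivial. -/
theorem eq_one_of_coprime {S : Sylow p G} (hc : Core p S) {g : G}
    (hg : (orderOf g).Coprime p) (h : ∀ a ∈ Cfsg.pCore p G, g * a = a * g) : g = 1 := by
  obtain ⟨k, hk⟩ := hc.isP ⟨g, hc.cQ (mem_centralizer_iff.2 fun a ha => (h a ha).symm)⟩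
  exact orderOf_eq_one_iff.1 (Nat.eq_one_of_dvd_coprimes (Nat.Coprime.pow_right k hg) dvd_rfl
    (orderOf_dvd_of_pow_eq_one (congrArg Subtype.val hk)))

theorem lcs_inv {S : Subgroup G} (α : ↥S ≃* ↥S) (k : ℕ) :
    ∀ x ∈ S.lowerCentralSeries k, x ∈ S ∧ ap α x ∈ S.lowerCentralSeries k := by
  induction k with
  | zero => exact fun x hx => ⟨hx, ap_mem α hx⟩
  | succ k ih =>
    intro x hx
    change x ∈ closure {g | ∃ g₁ ∈ S.lowerCentralSeries k, ∃ g₂ ∈ S, ⁅g₁, g₂⁆ = g} at hx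
    induction hx using Subgroup.closure_induction with
    | mem y hy =>
      obtain ⟨a, ha, b, hb, rfl⟩ := hy
      obtain ⟨haS, haI⟩ := ih a ha
      refine ⟨S.mul_mem (S.mul_mem (S.mul_mem haS hb) (S.inv_mem haS)) (S.inv_mem hb), ?_⟩
      rw [commutatorElement_def, ap_commutator α haS hb, ← commutatorElement_def]
      exact commutator_mem_commutator haI (ap_mem α hb)
    | one => exact ⟨one_mem _, by rw [ap_one]; exact one_mem _⟩
    | mul a b _ _ ha hb => exact ⟨S.mul_mem ha.1 hb.1, by rw [ap_mul α ha.1 hb.1]; exact mul_mem ha.2 hb.2⟩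
    | inv a _ ha => exact ⟨S.inv_mem ha.1, by rw [ap_inv α ha.1]; exact inv_mem ha.2⟩

/-- A power map with values in a subgroup centralised by the `p'`-elements is trivial. -/
theorem NoChar.pow_eq_one {S : Sylow p G} {q : ℕ} {M : Subgroup G} (N : NoChar p S q M)
    {X : Subgroup G} (hX : ∀ g : G, (orderOf g).Coprime p → ∀ x ∈ X, g * x = x * g) (m : ℕ)
    (h : ∀ s ∈ (S : Subgroup G), s ^ m ∈ X) : ∀ s ∈ (S : Subgroup G), s ^ m = 1 := by
  have hTS : closure {x : G | ∃ s ∈ (S : Subgroup G), s ^ m = x} ≤ (S : Subgroup G) :=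
    (closure_le _).2 fun x ⟨s, hs, e⟩ => e ▸ (S : Subgroup G).pow_mem hs m
  have hbot : closure {x : G | ∃ s ∈ (S : Subgroup G), s ^ m = x} = ⊥ := by
    refine N.eq_bot hTS (fun α x hx => ?_) fun g hg x hx => ?_
    · have key : x ∈ (S : Subgroup G) ∧
          ap α x ∈ closure {x : G | ∃ s ∈ (S : Subgroup G), s ^ m = x} := by
        induction hx using Subgroup.closure_induction with
        | mem y hy =>
          obtain ⟨s, hs, rfl⟩ := hy
          exact ⟨(S : Subgroup G).pow_mem hs m,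
            subset_closure ⟨_, ap_mem α hs, (ap_pow α hs m).symm⟩⟩
        | one => exact ⟨one_mem _, by rw [ap_one]; exact one_mem _⟩
        | mul a b _ _ ha hb =>
          exact ⟨(S : Subgroup G).mul_mem ha.1 hb.1,
            by rw [ap_mul α ha.1 hb.1]; exact mul_mem ha.2 hb.2⟩
        | inv a _ ha =>
          exact ⟨(S : Subgroup G).inv_mem ha.1, by rw [ap_inv α ha.1]; exact inv_mem ha.2⟩
      exact key.2
    · have hgen : {x : G | ∃ s ∈ (S : Subgroup G), s ^ m = x} ⊆ (X : Set G) :=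
        fun y ⟨s, hs, e⟩ => e ▸ h s hs
      have hxX : x ∈ X := (closure_le X).2 hgen hx
      rwa [hX g hg x hxX, mul_inv_cancel_right]
  intro s hs
  have : s ^ m ∈ closure {x : G | ∃ s ∈ (S : Subgroup G), s ^ m = x} := subset_closure ⟨s, hs, rfl⟩
  rwa [hbot, mem_bot] at this

/-- A term of the lower central series centralised by the `p'`-elements is trivial. -/
theorem NoChar.lcs_eq_bot {S : Sylow p G} {q : ℕ} {M : Subgroup G} (N : NoChar p S q M)
    {X : Subgroup G} (hX : ∀ g : G, (orderOf g).Coprime p → ∀ x ∈ X, g * x = x * g) (k : ℕ)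
    (h : (S : Subgroup G).lowerCentralSeries k ≤ X) :
    (S : Subgroup G).lowerCentralSeries k = ⊥ :=
  N.eq_bot (fun x hx => (lcs_inv (MulEquiv.refl _) k x hx).1)
    (fun α x hx => (lcs_inv α k x hx).2) fun g hg x hx => by
      rwa [hX g hg x (h hx), mul_inv_cancel_right]

/-- An element shifting `r`, `r'` by elements of `V` fixes their commutator. -/
theorem fix_commutator {k r r' : G} (hr : r ∈ Cfsg.pCore p G) (hr' : r' ∈ Cfsg.pCore p G)
    (h : k * r * k⁻¹ * r⁻¹ ∈ omega p G) (h' : k * r' * k⁻¹ * r'⁻¹ ∈ omega p G) :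
    k * (r * r' * r⁻¹ * r'⁻¹) = r * r' * r⁻¹ * r'⁻¹ * k := by
  set V := omega p G
  set Q := Cfsg.pCore p G
  set c := k * r * k⁻¹ * r⁻¹ with hc
  set c' := k * r' * k⁻¹ * r'⁻¹ with hc'
  set d := r * r' * r⁻¹ * r'⁻¹ with hd
  have hdQ : d ∈ Q :=
    Q.mul_mem (Q.mul_mem (Q.mul_mem hr hr') (Q.inv_mem hr)) (Q.inv_mem hr')
  refine mul_inv_eq_iff_eq_mul.1 ?_
  rw [show k * d * k⁻¹ = c * (r * c') * (r' * (r⁻¹ * c⁻¹) * r'⁻¹) * c'⁻¹ by
    rw [hd, hc, hc']; group]
  rw [← omega_commute h' hr, ← omega_commute (V.inv_mem h) (Q.inv_mem hr),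
    show c * (c' * r) * (r' * (c⁻¹ * r⁻¹) * r'⁻¹) * c'⁻¹ =
      c * c' * r * ((r' * c⁻¹) * (r⁻¹ * r'⁻¹)) * c'⁻¹ by group,
    ← omega_commute (V.inv_mem h) hr',
    show c * c' * r * (c⁻¹ * r' * (r⁻¹ * r'⁻¹)) * c'⁻¹ =
      c * c' * (r * c⁻¹) * (r' * r⁻¹ * r'⁻¹) * c'⁻¹ by group,
    ← omega_commute (V.inv_mem h) hr,
    show c * c' * (c⁻¹ * r) * (r' * r⁻¹ * r'⁻¹) * c'⁻¹ = (c * c') * c⁻¹ * (d * c'⁻¹) by
      rw [hd]; group,
    ← omega_commute (V.inv_mem h') hdQ, omega_commute h (omega_le h')]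
  group

/-- An element shifting `r` by an element of `V` fixes `r ^ p`. -/
theorem fix_pow {k r : G} (hr : r ∈ Cfsg.pCore p G) (h : k * r * k⁻¹ * r⁻¹ ∈ omega p G) :
    k * r ^ p = r ^ p * k := by
  refine mul_inv_eq_iff_eq_mul.1 ?_
  rw [← conj_pow, show k * r * k⁻¹ = k * r * k⁻¹ * r⁻¹ * r by group,
    (show Commute (k * r * k⁻¹ * r⁻¹) r from omega_commute h hr).mul_pow, h.2, one_mul]

/-- A noncentral chief factor in `O_p(G)` is moved by some element of order prime to `p`. -/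
theorem not_triv {S : Sylow p G} (hc : Core p S) {U W : Subgroup G}
    (hUW : Cfsg.IsChiefFactor U W) (hUQ : U ≤ Cfsg.pCore p G)
    (hn : ¬ ⁅U, (⊤ : Subgroup G)⁆ ≤ W) : ¬ Triv p U W := by
  intro ht
  obtain ⟨hlt, hUn, hWn, hmin⟩ := hUW
  haveI := hUn; haveI := hWn
  haveI := S.isPGroup'.isNilpotent
  have hUS : U ≤ (S : Subgroup G) := hUQ.trans hc.le_S
  have hlt' : W.subgroupOf (S : Subgroup G) < U.subgroupOf (S : Subgroup G) := by
    refine lt_of_le_of_ne (comap_mono hlt.le) fun h => hlt.ne ?_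
    have h' := congrArg (Subgroup.map (S : Subgroup G).subtype) h
    rwa [subgroupOf_map_subtype, subgroupOf_map_subtype, inf_of_le_left (hlt.le.trans hUS),
      inf_of_le_left hUS] at h'
  obtain ⟨z, hzU, hzW, hz⟩ := CfsgLib.PGroupBasic.exists_central_mod _ _ hlt'
  let Z : Subgroup G :=
    U ⊓ (centralizer (Set.univ : Set (G ⧸ W))).comap (QuotientGroup.mk' W)
  haveI : Z.Normal := by
    haveI : (centralizer (Set.univ : Set (G ⧸ W))).Normal := by
      rw [centralizer_univ]; infer_instance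
    exact inferInstance
  have hWZ : W ≤ Z := le_inf hlt.le fun w hw => mem_centralizer_iff.2 fun b _ => by
    rw [show (QuotientGroup.mk' W) w = 1 from (QuotientGroup.eq_one_iff w).2 hw, mul_one, one_mul]
  have hzZ : (z : G) ∈ Z := by
    refine ⟨hzU, mem_centralizer_iff.2 fun b _ => ?_⟩
    obtain ⟨g, rfl⟩ := QuotientGroup.mk'_surjective W b
    have htop : (centralizer {((z : G) : G ⧸ W)}).comap (QuotientGroup.mk' W) = ⊤ := by
      refine eq_top_of_coprime S (fun s hs => mem_centralizer_singleton_iff.2 ?_)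
        fun g hg => mem_centralizer_singleton_iff.2 (commute_mk.2 (ht g hg _ hzU)).eq
      exact (commute_mk.2 (mem_subgroupOf.1 (hz ⟨s, hs⟩))).eq.symm
    exact mem_centralizer_singleton_iff.1
      (show g ∈ (centralizer {((z : G) : G ⧸ W)}).comap (QuotientGroup.mk' W) by
        rw [htop]; exact mem_top g)
  rcases hmin Z inferInstance hWZ inf_le_left with h | h
  · exact hzW (mem_subgroupOf.2 (h ▸ hzZ))
  · refine hn (commutator_le.2 fun u hu g _ => ?_)
    rw [← h] at hu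
    rw [commutatorElement_def]
    exact commute_mk.1 (show Commute (u : G ⧸ W) (g : G ⧸ W) from
      (mem_centralizer_iff.1 hu.2 _ (Set.mem_univ _)).symm)

section Series

variable {U W : Subgroup G}

theorem inf_sup_cases (hUW : Cfsg.IsChiefFactor U W) (N : Subgroup G) [N.Normal] :
    U ⊓ N ≤ W ∨ U ≤ (U ⊓ N) ⊔ W := by
  obtain ⟨hlt, hUn, hWn, hmin⟩ := hUW
  haveI := hUn; haveI := hWn
  rcases hmin ((U ⊓ N) ⊔ W) inferInstance le_sup_right (sup_le inf_le_left hlt.le) with h | h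
  · exact Or.inl (le_sup_left.trans h.le)
  · exact Or.inr h.ge

/-- A centralised step does not contain the factor. -/
theorem triv_step {S : Sylow p G} (hc : Core p S) (hUW : Cfsg.IsChiefFactor U W)
    (hUQ : U ≤ Cfsg.pCore p G) (hn : ¬ ⁅U, (⊤ : Subgroup G)⁆ ≤ W) {A B : Subgroup G} [B.Normal]
    (hT : Triv p B A) (hA : U ⊓ A ≤ W) : U ⊓ B ≤ W := by
  obtain ⟨hlt, hUn, hWn, hmin⟩ := id hUW
  haveI := hUn; haveI := hWn
  refine (inf_sup_cases hUW B).resolve_right fun h => not_triv hc hUW hUQ hn fun g hg u hu => ?_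
  obtain ⟨b, hb, w, hw, rfl⟩ := mem_sup_of_normal_right.1 (h hu)
  have h1 : g * b * g⁻¹ * b⁻¹ ∈ W :=
    hA ⟨U.mul_mem (hUn.conj_mem b hb.1 g) (U.inv_mem hb.1), hT g hg b hb.2⟩
  have h2 : Commute (g : G ⧸ W) (b : G ⧸ W) := commute_mk.2 h1
  refine commute_mk.1 ?_
  rw [QuotientGroup.mk_mul, (QuotientGroup.eq_one_iff w).2 hw, mul_one]
  exact h2

/-- A natural step carrying the factor makes it natural. -/
theorem natural_step {S : Sylow p G} {q : ℕ} {M B C A : Subgroup G} [A.Normal] [B.Normal]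
    (hUW : Cfsg.IsChiefFactor U W) [W.Normal] (L : Lines S q M B C A) (hx : Ctx p S q M)
    {F : Type*} [Field F] (φ : Nat2 p S F B C A) (hWker : W ≤ kerOf B A) (hA : U ⊓ A ≤ W)
    (hB : ¬ U ⊓ B ≤ W) :
    Cfsg.IsNaturalSL2Module F (U.map (QuotientGroup.mk' W)) (⊤ : Subgroup (G ⧸ W)) := by
  classical
  obtain ⟨hlt, hUn, -, hmin⟩ := id hUW
  haveI := hUn
  have hUB : U ≤ (U ⊓ B) ⊔ W := (inf_sup_cases hUW B).resolve_left hB
  have hAB : A ≤ B := L.hWC.trans L.hCU
  obtain ⟨-, -, -, hminB⟩ := L.isChiefFactor hx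
  have hBsup : B ≤ (U ⊓ B) ⊔ A := by
    rcases hminB ((U ⊓ B) ⊔ A) inferInstance le_sup_right (sup_le inf_le_right hAB) with h | h
    · exact absurd ((le_inf inf_le_left (le_sup_left.trans h.le)).trans hA) hB
    · exact h.ge
  have hWA : W ⊓ B ≤ A := by
    rcases hminB ((W ⊓ B) ⊔ A) inferInstance le_sup_right (sup_le inf_le_right hAB) with h | h
    · exact le_sup_left.trans h.le
    · refine absurd (fun b (hb : b ∈ U ⊓ B) => ?_) hB
      obtain ⟨w, hw, a, ha, rfl⟩ := mem_sup_of_normal_right.1 (h.ge hb.2)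
      refine W.mul_mem hw.1 (hA ⟨?_, ha⟩)
      have := U.mul_mem (U.inv_mem (hlt.le hw.1)) hb.1
      rwa [inv_mul_cancel_left] at this
  have hmap : ∀ {b w : G}, b ∈ B → w ∈ A → φ.ψ (b * w) = φ.ψ b := fun hb hw => by
    rw [φ.map_mul _ hb _ (hAB hw), (φ.eq_zero _ (hAB hw)).2 hw, add_zero]
  -- coordinates on `U`
  have hdec : ∀ u ∈ U, ∃ b ∈ U ⊓ B, b⁻¹ * u ∈ W := fun u hu => by
    obtain ⟨b, hb, w, hw, rfl⟩ := mem_sup_of_normal_right.1 (hUB hu)
    exact ⟨b, hb, by simpa using hw⟩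
  choose r hr hrW using hdec
  let f : G → (Fin 2 → F) := fun u => if h : u ∈ U then φ.ψ (r u h) else 0
  have hf : ∀ {u b : G}, u ∈ U → b ∈ U ⊓ B → b⁻¹ * u ∈ W → f u = φ.ψ b := by
    intro u b hu hb hbu
    show (if h : u ∈ U then φ.ψ (r u h) else 0) = φ.ψ b
    rw [dif_pos hu]
    have h1 : b⁻¹ * r u hu ∈ A := hWA ⟨by
      have := W.mul_mem hbu (W.inv_mem (hrW u hu))
      rwa [_root_.mul_inv_rev, inv_inv, mul_assoc, mul_inv_cancel_left] at this,
      B.mul_mem (B.inv_mem hb.2) (hr u hu).2⟩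
    rw [show r u hu = b * (b⁻¹ * r u hu) by group, hmap hb.2 h1]
  have hfzero : ∀ {u}, u ∈ U → (f u = 0 ↔ u ∈ W) := by
    intro u hu
    rw [hf hu (hr u hu) (hrW u hu), φ.eq_zero _ (hr u hu).2]
    constructor
    · intro h
      have := W.mul_mem (hA ⟨(hr u hu).1, h⟩) (hrW u hu)
      rwa [mul_inv_cancel_left] at this
    · intro h
      refine hWA ⟨?_, (hr u hu).2⟩
      have := W.mul_mem h (W.inv_mem (hrW u hu))
      rwa [_root_.mul_inv_rev, inv_inv, mul_inv_cancel_left] at this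
  have hfmul : ∀ {u v}, u ∈ U → v ∈ U → f (u * v) = f u + f v := by
    intro u v hu hv
    rw [hf hu (hr u hu) (hrW u hu), hf hv (hr v hv) (hrW v hv),
      ← φ.map_mul _ (hr u hu).2 _ (hr v hv).2]
    refine hf (U.mul_mem hu hv) ((U ⊓ B).mul_mem (hr u hu) (hr v hv)) ?_
    rw [show (r u hu * r v hv)⁻¹ * (u * v) =
      ((r v hv)⁻¹ * ((r u hu)⁻¹ * u) * (r v hv)⁻¹⁻¹) * ((r v hv)⁻¹ * v) by group]
    exact W.mul_mem ((inferInstance : W.Normal).conj_mem _ (hrW u hu) _) (hrW v hv)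
  have hfconj : ∀ (g : G) {u}, u ∈ U →
      f (g * u * g⁻¹) = (φ.ρ g : Matrix (Fin 2) (Fin 2) F).mulVec (f u) := by
    intro g u hu
    rw [hf hu (hr u hu) (hrW u hu), ← φ.equiv g _ (hr u hu).2]
    refine hf (hUn.conj_mem u hu g) ⟨hUn.conj_mem _ (hr u hu).1 g,
      (inferInstance : B.Normal).conj_mem _ (hr u hu).2 g⟩ ?_
    rw [show (g * r u hu * g⁻¹)⁻¹ * (g * u * g⁻¹) = g * ((r u hu)⁻¹ * u) * g⁻¹ by group]
    exact (inferInstance : W.Normal).conj_mem _ (hrW u hu) g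
  set π := QuotientGroup.mk' W with hπ
  have hkerW : W ≤ φ.ρ.ker := φ.ker.symm ▸ hWker
  let ρ : (⊤ : Subgroup (G ⧸ W)) →* Matrix.SpecialLinearGroup (Fin 2) F :=
    (QuotientGroup.lift W φ.ρ hkerW).comp (⊤ : Subgroup (G ⧸ W)).subtype
  refine ⟨fun x _ => mem_normalizer_fintype fun v hv =>
    ((hUn.map π (QuotientGroup.mk'_surjective W)).conj_mem v hv x), ρ, ?_⟩
  have hfib : ∀ {u u' : G}, u ∈ U → u' ∈ U → π u = π u' → f u = f u' := by
    intro u u' hu hu' he
    have hw : u⁻¹ * u' ∈ W := QuotientGroup.eq.1 he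
    rw [show u' = u * (u⁻¹ * u') by group, hfmul hu (hlt.le hw),
      (hfzero (hlt.le hw)).2 hw, add_zero]
  let ψ₀ : Additive ↥(U.map π) →+ (Fin 2 → F) :=
    { toFun := fun x => f (Classical.choose (Additive.toMul x).2)
      map_zero' := by
        obtain ⟨h1, h2⟩ := Classical.choose_spec (Additive.toMul (0 : Additive ↥(U.map π))).2
        exact (hfzero h1).2 ((QuotientGroup.eq_one_iff _).1 h2)
      map_add' := fun x y => by
        obtain ⟨h1, e1⟩ := Classical.choose_spec (Additive.toMul x).2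
        obtain ⟨h2, e2⟩ := Classical.choose_spec (Additive.toMul y).2
        obtain ⟨h3, e3⟩ := Classical.choose_spec (Additive.toMul (x + y)).2
        rw [← hfmul h1 h2]
        refine hfib h3 (U.mul_mem h1 h2) ?_
        rw [e3, map_mul, e1, e2]
        rfl }
  have hψ₀ : ∀ (x : Additive ↥(U.map π)) {u : G}, u ∈ U →
      π u = ((Additive.toMul x : ↥(U.map π)) : G ⧸ W) → ψ₀ x = f u := by
    intro x u hu he
    obtain ⟨h1, e1⟩ := Classical.choose_spec (Additive.toMul x).2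
    exact hfib h1 hu (e1.trans he.symm)
  have hbij : Function.Bijective ψ₀ := by
    refine ⟨(injective_iff_map_eq_zero _).2 fun x hx => ?_, fun w => ?_⟩
    · obtain ⟨u, hu, he⟩ := (Additive.toMul x).2
      rw [hψ₀ x hu he, hfzero hu] at hx
      refine Additive.toMul.injective (Subtype.ext ?_)
      rw [← he]
      exact (QuotientGroup.eq_one_iff u).2 hx
    · obtain ⟨b, hb, rfl⟩ := φ.onto w
      obtain ⟨c, hc, a, ha, rfl⟩ := mem_sup_of_normal_right.1 (hBsup hb)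
      refine ⟨Additive.ofMul ⟨π c, mem_map_of_mem π hc.1⟩, ?_⟩
      rw [hψ₀ _ hc.1 rfl, hf hc.1 hc (by simp), hmap hc.2 ha]
  refine ⟨AddEquiv.ofBijective ψ₀ hbij, ?_, ?_, fun l v => ?_⟩
  · intro y
    obtain ⟨g, hg⟩ := φ.surj y
    exact ⟨⟨π g, mem_top _⟩, hg⟩
  · ext x
    obtain ⟨g, hg⟩ := QuotientGroup.mk'_surjective W (x : G ⧸ W)
    rw [MonoidHom.mem_ker, mem_subgroupOf, show ρ x = φ.ρ g by
      show QuotientGroup.lift W φ.ρ hkerW (x : G ⧸ W) = _
      rw [← hg]; rfl, ← MonoidHom.mem_ker, φ.ker, mem_kerOf, mem_centralizer_iff, ← hg]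
    constructor
    · rintro h _ ⟨u, hu, rfl⟩
      obtain ⟨b, hb, w, hw, rfl⟩ := mem_sup_of_normal_right.1 (hUB hu)
      have h2 : g * b * g⁻¹ * b⁻¹ ∈ W :=
        hA ⟨U.mul_mem (hUn.conj_mem b hb.1 g) (U.inv_mem hb.1), h b hb.2⟩
      rw [map_mul, show π w = 1 from (QuotientGroup.eq_one_iff w).2 hw, mul_one]
      exact (commute_mk.2 h2).eq.symm
    · intro h b hb
      obtain ⟨c, hc, a, ha, rfl⟩ := mem_sup_of_normal_right.1 (hBsup hb)
      have h1 : g * c * g⁻¹ * c⁻¹ ∈ A :=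
        hWA ⟨commute_mk.1 (show Commute (π g) (π c) from (h _ (mem_map_of_mem π hc.1)).symm),
          B.mul_mem ((inferInstance : B.Normal).conj_mem c hc.2 g) (B.inv_mem hc.2)⟩
      refine commute_mk.1 ?_
      rw [QuotientGroup.mk_mul, (QuotientGroup.eq_one_iff a).2 ha, mul_one]
      exact commute_mk.2 h1
  · obtain ⟨g, hg⟩ := QuotientGroup.mk'_surjective W (l : G ⧸ W)
    obtain ⟨u, hu, he⟩ := v.2
    refine ⟨⟨_, mem_map_of_mem π (hUn.conj_mem u hu g)⟩, ?_, ?_⟩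
    · show π (g * u * g⁻¹) = _
      rw [map_mul, map_mul, map_inv, he, hg]
    · show ψ₀ (Additive.ofMul _) = (ρ l : Matrix (Fin 2) (Fin 2) F).mulVec (ψ₀ (Additive.ofMul v))
      rw [hψ₀ (Additive.ofMul v) hu he, hψ₀ _ (hUn.conj_mem u hu g) rfl, hfconj g hu]
      congr 2
      show φ.ρ g = QuotientGroup.lift W φ.ρ hkerW (l : G ⧸ W)
      rw [← hg]; rfl

end Series

end CfsgLib.PushL2
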