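import Cfsg.Agent.PushL2.Setup

/-!
The generation facts in a group with quotient `PSL₂(q)` and a Sylow subgroup in one maximal subgroup.
-/

set_option autoImplicit false
set_option linter.unusedSectionVars false
set_option linter.style.haveILetI false

namespace CfsgLib.PushL2

open Subgroup Matrix
open CfsgLib.SL2Pair (up low up_mul up_inv up_zero up_coe low_coe)

/-- `|S : O_p(G)| = q`, and a conjugate of `S` by an element outside `M` generates `G` with any
element of `S` outside `O_p(G)`. -/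
structure Ctx {G : Type*} [Group G] (p : ℕ) [Fact p.Prime] (S : Sylow p G) (q : ℕ)
    (M : Subgroup G) : Prop where
  one_lt : 1 < q
  card_S : Nat.card (S : Subgroup G) = q * Nat.card ↥(Cfsg.pCore p G)
  top : M ≠ ⊤
  le_M : (S : Subgroup G) ≤ M
  gen : ∀ h, h ∉ M → ∀ X : Subgroup G, (∀ s ∈ (S : Subgroup G), h * s * h⁻¹ ∈ X) →
    (∃ s ∈ (S : Subgroup G), s ∉ Cfsg.pCore p G ∧ s ∈ X) → X = ⊤

section Quotient

variable {F : Type*} [Field F]

local notation "P2" => Matrix.ProjectiveSpecialLinearGroup (Fin 2) F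

/-- A conjugate of the root group by an element outside its normaliser generates everything with
any nontrivial element of the root group. -/
theorem eq_top_of_conj (X : Subgroup P2) {y : P2}
    (hy : y ∉ normalizer ((uh (F := F)).range : Set P2)) {x : F} (hx : x ≠ 0)
    (hu : uh (Multiplicative.ofAdd x) ∈ X)
    (hc : ∀ z : F, y * uh (Multiplicative.ofAdd z) * y⁻¹ ∈ X) [Finite F] : X = ⊤ := by
  obtain ⟨g, rfl⟩ := QuotientGroup.mk_surjective y
  set a := (g : Matrix (Fin 2) (Fin 2) F) 0 0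
  set c := (g : Matrix (Fin 2) (Fin 2) F) 1 0
  have hdet : (g : Matrix (Fin 2) (Fin 2) F) 0 0 * (g : Matrix (Fin 2) (Fin 2) F) 1 1 -
      (g : Matrix (Fin 2) (Fin 2) F) 0 1 * (g : Matrix (Fin 2) (Fin 2) F) 1 0 = 1 := by
    rw [← Matrix.det_fin_two]; exact g.2
  by_cases hc0 : c = 0
  · refine absurd ?_ hy
    haveI : Finite P2 := Quotient.finite _
    refine mem_normalizer_fintype ?_
    rintro _ ⟨z, rfl⟩
    refine ⟨Multiplicative.ofAdd (a ^ 2 * z.toAdd), ?_⟩
    rw [eq_comm, mul_inv_eq_iff_eq_mul]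
    refine congrArg (QuotientGroup.mk (s := Subgroup.center (Matrix.SpecialLinearGroup (Fin 2) F)))
      (?_ : g * up z.toAdd = up (a ^ 2 * z.toAdd) * g)
    simp only [c] at hc0
    rw [hc0, mul_zero, sub_zero] at hdet
    refine Subtype.ext ?_
    rw [Matrix.SpecialLinearGroup.coe_mul, Matrix.SpecialLinearGroup.coe_mul, up_coe, up_coe]
    ext i j
    fin_cases i <;> fin_cases j <;>
      simp [Matrix.mul_apply, Fin.sum_univ_two, hc0, a]
    linear_combination (-((g : Matrix (Fin 2) (Fin 2) F) 0 0) * z.toAdd) * hdet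
  · set t := uh (Multiplicative.ofAdd (a / c))
    let X' : Subgroup P2 := X.comap (MulAut.conj t).toMonoidHom
    have hX' : X' = ⊤ := by
      refine eq_top_of_uh_lh X' hx ?_ fun w => ?_
      · show t * uh (Multiplicative.ofAdd x) * t⁻¹ ∈ X
        rw [← map_inv, ← map_mul, ← map_mul, mul_comm, ← mul_assoc, inv_mul_cancel, one_mul]
        exact hu
      · show t * lh w * t⁻¹ ∈ X
        convert hc (-w / c ^ 2) using 1
        rw [eq_comm, mul_inv_eq_iff_eq_mul, eq_comm]
        refine congrArg (QuotientGroup.mk (s := Subgroup.center (Matrix.SpecialLinearGroup (Fin 2) F)))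
          (?_ : up (a / c) * low w * (up (a / c))⁻¹ * g = g * up (-w / c ^ 2))
        refine Subtype.ext ?_
        rw [up_inv, Matrix.SpecialLinearGroup.coe_mul, Matrix.SpecialLinearGroup.coe_mul,
          Matrix.SpecialLinearGroup.coe_mul, Matrix.SpecialLinearGroup.coe_mul, up_coe, up_coe,
          low_coe, up_coe]
        have hc0' : (g : Matrix (Fin 2) (Fin 2) F) 1 0 ≠ 0 := hc0
        ext i j
        fin_cases i <;> fin_cases j <;>
          simp [Matrix.mul_apply, Fin.sum_univ_two, a, c] <;> field_simp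
        all_goals grind
    refine eq_top_iff.2 fun z _ => ?_
    have h1 : t⁻¹ * z * t ∈ X' := by rw [hX']; exact mem_top _
    simpa [X', mul_assoc] using h1

theorem normalizer_range_ne_top :
    normalizer ((uh (F := F)).range : Set P2) ≠ ⊤ := by
  intro h
  obtain ⟨y, hy⟩ := exists_swap (F := F)
  obtain ⟨z, hz⟩ := (mem_normalizer_iff.1 (h ▸ mem_top y) _).1
    (show uh (Multiplicative.ofAdd (1 : F)) ∈ (uh (F := F)).range from ⟨_, rfl⟩)
  rw [hy] at hz
  have h0 := eq_zero_of_uh_eq_lh (x := z.toAdd) hz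
  have h1 : z = 1 := Multiplicative.toAdd.injective h0
  rw [h1, map_one] at hz
  have h2 := hy (1 : F)
  rw [← hz, mul_inv_eq_one, mul_eq_left, ← map_one (uh (F := F))] at h2
  have h3 := congrArg Multiplicative.toAdd (uh_injective h2)
  rw [toAdd_ofAdd, toAdd_one] at h3
  exact one_ne_zero h3

end Quotient

section Derive

variable {G : Type*} [Group G] [Finite G] {p : ℕ} [Fact p.Prime] {F : Type*} [Field F] [Finite F]

theorem exists_ctx (S : Sylow p G) (hE₁ : centralizer (Cfsg.pCore p G : Set G) ≤ Cfsg.pCore p G)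
    (hE₂ : ∃! M : Subgroup G, IsCoatom M ∧ (S : Subgroup G) ≤ M) (K : Subgroup G) [K.Normal]
    (n : ℕ) (hn : 1 ≤ n) (hF : Nat.card F = p ^ n)
    (e : G ⧸ K ≃* Matrix.ProjectiveSpecialLinearGroup (Fin 2) F) :
    ∃ M : Subgroup G, Core p S ∧ Ctx p S (Nat.card F) M := by
  have hc := core S hE₁ hE₂ K n hn hF e
  obtain ⟨π, hπ, hker, hmap⟩ := exists_hom S n hn hF K e
  obtain ⟨M, hM, -⟩ := id hE₂
  haveI : (Cfsg.pCore p G).Normal := CfsgLib.Solvable.pCore_normal p
  have hS : ∀ s ∈ (S : Subgroup G), π s ∈ (uh (F := F)).range := fun s hs =>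
    hmap ▸ mem_map_of_mem π hs
  set N := (normalizer ((uh (F := F)).range : Set _)).comap π with hN
  have hSN : (S : Subgroup G) ≤ N := fun s hs => le_normalizer (hS s hs)
  have hKN : K ≤ N := fun k hk => by
    show π k ∈ normalizer ((uh (F := F)).range : Set _)
    rw [MonoidHom.mem_ker.1 (hker.symm ▸ hk)]
    exact one_mem _
  have hNM : N ≤ M := le_of_unique hE₂ hM hSN fun h => normalizer_range_ne_top (F := F) (by
    rw [← Subgroup.map_comap_eq_self_of_surjective hπ (normalizer _), ← hN, h,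
      map_top_of_surjective π hπ])
  have hKM : K ≤ M := hKN.trans hNM
  have hSK : (S : Subgroup G) ⊓ K ≤ Cfsg.pCore p G :=
    le_pCore_of_normal ((hc.dich K inferInstance).resolve_left fun h =>
      hM.1.1 (top_le_iff.1 (h ▸ sup_le hKM hM.2))) (S.isPGroup'.to_le inf_le_left)
  have hQK : Cfsg.pCore p G ≤ K := by
    intro a ha
    have hle : (Cfsg.pCore p G).map π ≤ (uh (F := F)).range := hmap ▸ map_mono hc.le_S
    haveI hQn := (CfsgLib.Solvable.pCore_normal (G := G) p).map π hπ
    obtain ⟨z, hz⟩ := hle (mem_map_of_mem π ha)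
    obtain ⟨y, hy⟩ := exists_swap (F := F)
    obtain ⟨z', hz'⟩ := hle (hQn.conj_mem _ (mem_map_of_mem π ha) y⁻¹)
    rw [← hker, MonoidHom.mem_ker, ← hz]
    have h0 : z.toAdd = 0 := by
      refine eq_zero_of_uh_eq_lh (x := z.toAdd) (c := -z'.toAdd) ?_
      rw [← hy, ofAdd_toAdd, ofAdd_toAdd, hz', ← hz]
      group
    rw [show z = 1 from Multiplicative.toAdd.injective h0, map_one]
  refine ⟨M, hc, ⟨Finite.one_lt_card, ?_, hM.1.1, hM.2, fun h hh X hX ⟨s, hs, hsQ, hsX⟩ => ?_⟩⟩
  · let f : ↥(S : Subgroup G) →* (uh (F := F)).range :=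
      (π.comp (S : Subgroup G).subtype).codRestrict _ fun s => hS s s.2
    have hf : Function.Surjective f := fun u => by
      obtain ⟨s, hs, he⟩ : (u : Matrix.ProjectiveSpecialLinearGroup (Fin 2) F) ∈
        (S : Subgroup G).map π := hmap.symm ▸ u.2
      exact ⟨⟨s, hs⟩, Subtype.ext he⟩
    have hk : f.ker = (Cfsg.pCore p G).subgroupOf (S : Subgroup G) := by
      ext s
      rw [MonoidHom.mem_ker, mem_subgroupOf]
      constructor
      · intro h1
        exact hSK ⟨s.2, hker ▸ MonoidHom.mem_ker.2 (congrArg Subtype.val h1)⟩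
      · intro h1
        exact Subtype.ext (MonoidHom.mem_ker.1 (show (s : G) ∈ π.ker from hker.symm ▸ hQK h1))
    have := f.ker.card_mul_index
    rw [Subgroup.index_ker, MonoidHom.range_eq_top.2 hf, Subgroup.card_top, card_range_uh, hk,
      Nat.card_congr (subgroupOfEquivOfLe hc.le_S).toEquiv] at this
    rw [← this, mul_comm]
  · have htop : X.map π = ⊤ := by
      obtain ⟨x, hx⟩ := hS s hs
      refine eq_top_of_conj (y := π h) _ (fun hn' => hh (hNM hn')) (x := x.toAdd) ?_
        (hx ▸ mem_map_of_mem π hsX) fun z => ?_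
      · intro h0
        have : x = 1 := Multiplicative.toAdd.injective h0
        rw [this, map_one] at hx
        exact hsQ (hSK ⟨hs, hker ▸ MonoidHom.mem_ker.2 hx.symm⟩)
      · obtain ⟨t, ht, he⟩ : uh (Multiplicative.ofAdd z) ∈ (S : Subgroup G).map π :=
          hmap.symm ▸ ⟨_, rfl⟩
        refine ⟨_, hX t ht, ?_⟩
        rw [map_mul, map_mul, map_inv, he]
    have hXK : K ⊔ X = ⊤ := by
      rw [← hker, sup_comm, ← Subgroup.comap_map_eq, htop, Subgroup.comap_top]
    by_contra hX'
    let X' : Subgroup G := X.comap (MulAut.conj h).toMonoidHom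
    have hne : X' ≠ ⊤ := by
      intro hX0
      refine hX' (eq_top_iff.2 fun a _ => ?_)
      have : (MulAut.conj h).symm a ∈ X' := hX0 ▸ mem_top _
      simpa [X', mul_assoc] using this
    have hXM : X' ≤ M := le_of_unique hE₂ hM (fun t ht => hX t ht) hne
    refine hM.1.1 (eq_top_iff.2 fun a _ => ?_)
    obtain ⟨k, hk, w, hw, he⟩ := Subgroup.mem_sup_of_normal_left.1
      (show h * a * h⁻¹ ∈ K ⊔ X by rw [hXK]; exact mem_top _)
    have hkM : h⁻¹ * k * h ∈ M :=
      hKM (by simpa using Normal.conj_mem (inferInstance : K.Normal) k hk h⁻¹)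
    have hwM : h⁻¹ * w * h ∈ M := hXM (show h * (h⁻¹ * w * h) * h⁻¹ ∈ X by
      rwa [show h * (h⁻¹ * w * h) * h⁻¹ = w by group])
    have : a = (h⁻¹ * k * h) * (h⁻¹ * w * h) := by
      rw [show (h⁻¹ * k * h) * (h⁻¹ * w * h) = h⁻¹ * (k * w) * h by group, he]; group
    rw [this]
    exact mul_mem hkM hwM

end Derive

end CfsgLib.PushL2
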