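import Cfsg.Agent.PushL2.NoChar
import Cfsg.Agent.LocalB.OffenderGeneration
import Mathlib.FieldTheory.Finite.GaloisField

/-!
A section `U/W` of order `q²` which `S` moves into a line `C/W`, any two conjugates of the line
spanning it, is a natural `SL₂(q)`-module.
-/

set_option autoImplicit false
set_option linter.unusedSectionVars false
set_option linter.style.haveILetI false

namespace CfsgLib.PushL2

open Subgroup Matrix
open CfsgLib.SL2Pair (up low up_mul up_inv up_zero up_coe low_coe)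

variable {G : Type*} [Group G] [Finite G] {p : ℕ} [Fact p.Prime]

/-- The elements acting trivially on `U` modulo `W`. -/
def kerOf (U W : Subgroup G) [W.Normal] : Subgroup G :=
  (centralizer (U.map (QuotientGroup.mk' W) : Set (G ⧸ W))).comap (QuotientGroup.mk' W)

theorem mem_kerOf {U W : Subgroup G} [W.Normal] {g : G} :
    g ∈ kerOf U W ↔ ∀ u ∈ U, g * u * g⁻¹ * u⁻¹ ∈ W := by
  simp only [kerOf, mem_comap, mem_centralizer_iff, coe_map, Set.forall_mem_image,
    SetLike.mem_coe, QuotientGroup.mk'_apply]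
  refine forall₂_congr fun u _ => ?_
  rw [← QuotientGroup.eq_one_iff, eq_comm, QuotientGroup.mk_mul, QuotientGroup.mk_mul,
    QuotientGroup.mk_mul, QuotientGroup.mk_inv, QuotientGroup.mk_inv, mul_inv_eq_one,
    mul_inv_eq_iff_eq_mul]

instance kerOf_normal {U W : Subgroup G} [W.Normal] [U.Normal] : (kerOf U W).Normal := by
  haveI : (U.map (QuotientGroup.mk' W)).Normal :=
    (inferInstance : U.Normal).map _ (QuotientGroup.mk'_surjective W)
  unfold kerOf
  infer_instance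

/-- Commutation modulo `W`. -/
theorem commute_mk {W : Subgroup G} [W.Normal] {g u : G} :
    Commute (g : G ⧸ W) (u : G ⧸ W) ↔ g * u * g⁻¹ * u⁻¹ ∈ W := by
  rw [← QuotientGroup.eq_one_iff, QuotientGroup.mk_mul, QuotientGroup.mk_mul,
    QuotientGroup.mk_mul, QuotientGroup.mk_inv, QuotientGroup.mk_inv, mul_inv_eq_one,
    mul_inv_eq_iff_eq_mul]
  rfl

theorem card_map_mk (X W : Subgroup G) [W.Normal] (h : W ≤ X) :
    Nat.card (X.map (QuotientGroup.mk' W)) * Nat.card W = Nat.card X := by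
  have := ((QuotientGroup.mk' W).comp X.subtype).ker.card_mul_index
  rw [Subgroup.index_ker, MonoidHom.range_comp, Subgroup.range_subtype, ← MonoidHom.comap_ker,
    QuotientGroup.ker_mk', mul_comm] at this
  rw [← this]
  congr 1
  exact (Nat.card_congr (subgroupOfEquivOfLe h).toEquiv).symm

/-- A section with a line. -/
structure Lines (S : Sylow p G) (q : ℕ) (M U C W : Subgroup G) : Prop where
  normalU : U.Normal
  normalW : W.Normal
  hWC : W ≤ C
  hCU : C ≤ U
  comm : ∀ a ∈ U, ∀ b ∈ U, a * b * a⁻¹ * b⁻¹ ∈ W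
  pow : ∀ a ∈ U, a ^ p ∈ W
  moveC : ∀ s ∈ (S : Subgroup G), ∀ c ∈ C, s * c * s⁻¹ * c⁻¹ ∈ W
  moveU : ∀ s ∈ (S : Subgroup G), ∀ u ∈ U, s * u * s⁻¹ * u⁻¹ ∈ C
  triv : ∀ a ∈ Cfsg.pCore p G, ∀ u ∈ U, a * u * a⁻¹ * u⁻¹ ∈ W
  sup : ∀ h, h ∉ M → U ≤ C ⊔ C.map (MulAut.conj h).toMonoidHom
  cardU : Nat.card U = q * Nat.card C
  cardC : Nat.card C = q * Nat.card W

/-- A natural module structure on `U/W` in which `S` is upper unitriangular and `C` the axis. -/
structure Nat2 (p : ℕ) [Fact p.Prime] (S : Sylow p G) (F : Type*) [Field F] (U C W : Subgroup G)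
    [W.Normal] where
  ρ : G →* Matrix.SpecialLinearGroup (Fin 2) F
  surj : Function.Surjective ρ
  ker : ρ.ker = kerOf U W
  mem_up : ∀ s ∈ (S : Subgroup G), ∃ x, ρ s = up x
  exists_up : ∀ x, ∃ s ∈ (S : Subgroup G), ρ s = up x
  ψ : G → (Fin 2 → F)
  map_mul : ∀ u ∈ U, ∀ v ∈ U, ψ (u * v) = ψ u + ψ v
  eq_zero : ∀ u ∈ U, ψ u = 0 ↔ u ∈ W
  onto : ∀ w, ∃ u ∈ U, ψ u = w
  equiv : ∀ g : G, ∀ u ∈ U,
    ψ (g * u * g⁻¹) = (ρ g : Matrix (Fin 2) (Fin 2) F).mulVec (ψ u)
  axis : ∀ u ∈ U, u ∈ C ↔ ψ u 1 = 0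

theorem exists_col {F : Type*} [Field F] (v : Fin 2 → F) (hv : v ≠ 0) :
    ∃ t : Matrix.SpecialLinearGroup (Fin 2) F,
      (t : Matrix (Fin 2) (Fin 2) F).mulVec ![1, 0] = v := by
  by_cases h0 : v 0 = 0
  · have h1 : v 1 ≠ 0 := fun h => hv (by funext i; fin_cases i <;> assumption)
    refine ⟨⟨!![0, -(v 1)⁻¹; v 1, 0], by simp [Matrix.det_fin_two, h1]⟩, ?_⟩
    funext i
    fin_cases i <;> simp [Matrix.mulVec, dotProduct, Fin.sum_univ_two, h0]
  · refine ⟨⟨!![v 0, 0; v 1, (v 0)⁻¹], by simp [Matrix.det_fin_two, h0]⟩, ?_⟩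
    funext i
    fin_cases i <;> simp [Matrix.mulVec, dotProduct, Fin.sum_univ_two]

namespace Lines

variable {S : Sylow p G} {q : ℕ} {M U C W : Subgroup G}

theorem inf_conj (L : Lines S q M U C W) {h : G} (hh : h ∉ M) :
    C ⊓ C.map (MulAut.conj h).toMonoidHom ≤ W := by
  haveI := L.normalU; haveI := L.normalW
  set D := C.map (MulAut.conj h).toMonoidHom with hD
  have hDU : D ≤ U := by
    rintro _ ⟨c, hc, rfl⟩
    exact L.normalU.conj_mem c (L.hCU hc) h
  have hWD : W ≤ C ⊓ D := le_inf L.hWC fun w hw =>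
    ⟨h⁻¹ * w * h, L.hWC (by simpa using L.normalW.conj_mem w hw h⁻¹), by simp [mul_assoc]⟩
  have : (C.subgroupOf U).Normal := ⟨fun c hc a => by
    rw [mem_subgroupOf] at hc ⊢
    have := mul_mem (L.hWC (L.comm a a.2 c (L.hCU hc))) hc
    rwa [show (a : G) * c * (a : G)⁻¹ * (c : G)⁻¹ * c = a * c * (a : G)⁻¹ by group] at this⟩
  have h1 := card_sup_mul_inf (C.subgroupOf U) (D.subgroupOf U)
  rw [show C.subgroupOf U ⊓ D.subgroupOf U = (C ⊓ D).subgroupOf U from (comap_inf ..).symm,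
    ← subgroupOf_sup L.hCU hDU, Nat.card_congr (subgroupOfEquivOfLe L.hCU).toEquiv,
    Nat.card_congr (subgroupOfEquivOfLe hDU).toEquiv,
    Nat.card_congr (subgroupOfEquivOfLe (inf_le_of_left_le L.hCU)).toEquiv,
    Nat.card_congr (subgroupOfEquivOfLe (sup_le L.hCU hDU)).toEquiv,
    le_antisymm (sup_le L.hCU hDU) (L.sup h hh), hD,
    card_map_of_injective (MulAut.conj h).injective, L.cardU] at h1
  refine (eq_of_le_of_card_ge hWD (le_of_eq ?_)).ge
  refine Nat.eq_of_mul_eq_mul_left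
    (Nat.mul_pos (show 0 < q from Nat.pos_of_ne_zero fun h0 => by
      have h' := L.cardC; rw [h0, zero_mul] at h'; exact Nat.card_pos.ne' h')
      (Nat.card_pos (α := C))) ?_
  rw [h1, mul_right_comm, ← L.cardC]

/-- An element of `U` that one element of `S` outside `O_p(G)` fixes modulo `W` lies in `C`. -/
theorem key (L : Lines S q M U C W) (hx : Ctx p S q M) {s : G} (hs : s ∈ (S : Subgroup G))
    (hsQ : s ∉ Cfsg.pCore p G) {u : G} (hu : u ∈ U) (h : s * u * s⁻¹ * u⁻¹ ∈ W) : u ∈ C := by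
  haveI := L.normalU; haveI := L.normalW
  obtain ⟨h₀, hh⟩ : ∃ h, h ∉ M := by
    by_contra hall
    push Not at hall
    exact hx.top (top_le_iff.1 fun g _ => hall g)
  set D := C.map (MulAut.conj h₀).toMonoidHom
  have hDU : D ≤ U := by
    rintro _ ⟨c, hc, rfl⟩
    exact L.normalU.conj_mem c (L.hCU hc) h₀
  have hmem : u ∈ ((C ⊔ D : Subgroup G) : Set G) := L.sup h₀ hh hu
  have hnorm : D ≤ normalizer (C : Set G) := fun d hd => mem_normalizer_fintype fun c hc => by
    have := C.mul_mem (L.hWC (L.comm d (hDU hd) c (L.hCU hc))) hc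
    rwa [show d * c * d⁻¹ * c⁻¹ * c = d * c * d⁻¹ by group] at this
  rw [coe_mul_of_right_le_normalizer_left _ _ hnorm] at hmem
  obtain ⟨c, hc, _, ⟨c', hc', rfl⟩, rfl⟩ := hmem
  simp only [MulEquiv.coe_toMonoidHom, MulAut.conj_apply] at h hu ⊢
  set d := h₀ * c' * h₀⁻¹ with hd
  have hcom : centralizer {(d : G ⧸ W)} = ⊤ := by
    have htop : (centralizer {(d : G ⧸ W)}).comap (QuotientGroup.mk' W) = ⊤ := by
      refine hx.gen h₀ hh _ (fun t ht => mem_centralizer_singleton_iff.2 ?_)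
        ⟨s, hs, hsQ, mem_centralizer_singleton_iff.2 ?_⟩
      · have := (commute_mk.2 (L.moveC t ht c' hc'))
        show Commute (((h₀ * t * h₀⁻¹ : G)) : G ⧸ W) d
        rw [hd, QuotientGroup.mk_mul, QuotientGroup.mk_mul, QuotientGroup.mk_mul,
          QuotientGroup.mk_mul, QuotientGroup.mk_inv]
        simpa using this.map (MulAut.conj (h₀ : G ⧸ W)).toMonoidHom
      · have h1 : Commute (s : G ⧸ W) ((c * d : G) : G ⧸ W) := commute_mk.2 h
        have h2 : Commute (s : G ⧸ W) (c : G ⧸ W) := commute_mk.2 (L.moveC s hs c hc)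
        have e : (d : G ⧸ W) = (c : G ⧸ W)⁻¹ * ((c * d : G) : G ⧸ W) := by
          rw [QuotientGroup.mk_mul W c d]; group
        show Commute (s : G ⧸ W) (d : G ⧸ W)
        rw [e]
        exact h2.inv_right.mul_right h1
    rw [← Subgroup.map_comap_eq_self_of_surjective (QuotientGroup.mk'_surjective W)
      (centralizer {(d : G ⧸ W)}), htop, map_top_of_surjective _ (QuotientGroup.mk'_surjective W)]
  have h3 : Commute (h₀ : G ⧸ W) (d : G ⧸ W) :=
    mem_centralizer_singleton_iff.1 (hcom.symm ▸ mem_top _)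
  have h4 : h₀⁻¹ * d * h₀⁻¹⁻¹ * d⁻¹ ∈ W :=
    commute_mk.1 (by rw [QuotientGroup.mk_inv]; exact h3.inv_left)
  have hdC : d ∈ C := by
    have h5 : d = (h₀⁻¹ * d * h₀⁻¹⁻¹ * d⁻¹)⁻¹ * c' := by rw [hd]; group
    rw [h5]
    exact mul_mem (L.hWC (inv_mem h4)) hc'
  exact mul_mem hc hdC

theorem not_le_C (L : Lines S q M U C W) (hx : Ctx p S q M) : ¬ U ≤ C := by
  intro h
  have := card_le_of_le h
  rw [L.cardU] at this
  have h1 := hx.one_lt
  have h2 : 0 < Nat.card C := Nat.card_pos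
  nlinarith

theorem inf_kerOf (L : Lines S q M U C W) [W.Normal] (hx : Ctx p S q M) :
    (S : Subgroup G) ⊓ kerOf U W ≤ Cfsg.pCore p G := by
  rintro s ⟨hs, hk⟩
  by_contra hsQ
  exact L.not_le_C hx fun u hu => L.key hx hs hsQ hu (mem_kerOf.1 hk u hu)

theorem core_le_kerOf (L : Lines S q M U C W) [W.Normal] : Cfsg.pCore p G ≤ kerOf U W :=
  fun a ha => mem_kerOf.2 (L.triv a ha)

theorem kerOf_le (L : Lines S q M U C W) [W.Normal] (hx : Ctx p S q M) : kerOf U W ≤ M := by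
  intro k hk
  by_contra hkM
  refine L.not_le_C hx ((L.sup k hkM).trans (sup_le le_rfl ?_))
  rintro _ ⟨c, hc, rfl⟩
  have := mul_mem (L.hWC (mem_kerOf.1 hk c (L.hCU hc))) hc
  simpa [mul_assoc] using this

theorem isChiefFactor (L : Lines S q M U C W) (hx : Ctx p S q M) :
    Cfsg.IsChiefFactor U W := by
  haveI := L.normalW
  refine ⟨lt_of_le_of_ne (L.hWC.trans L.hCU) fun h => L.not_le_C hx (h ▸ L.hWC), L.normalU,
    L.normalW, fun N hN hWN hNU => or_iff_not_imp_left.2 fun hne => ?_⟩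
  haveI := hN
  obtain ⟨h₀, hh⟩ : ∃ h, h ∉ M := by
    by_contra hall
    push Not at hall
    exact hx.top (top_le_iff.1 fun g _ => hall g)
  obtain ⟨v, hvN, hvW⟩ := SetLike.not_le_iff_exists.1 fun h => hne (le_antisymm h hWN)
  obtain ⟨w, hwN, hwC⟩ : ∃ w ∈ N, w ∉ C := by
    by_cases hvC : v ∈ C
    · refine ⟨h₀ * v * h₀⁻¹, hN.conj_mem v hvN h₀, fun h => hvW ?_⟩
      have := L.normalW.conj_mem _ (L.inf_conj hh ⟨h, v, hvC, rfl⟩) h₀⁻¹
      simpa [mul_assoc] using this
    · exact ⟨v, hvN, hvC⟩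
  have hWNC : W ≤ N ⊓ C := le_inf hWN L.hWC
  let f : ↥(S : Subgroup G) → ↥(N ⊓ C) ⧸ W.subgroupOf (N ⊓ C) := fun a => QuotientGroup.mk
    ⟨(a : G) * w * (a : G)⁻¹ * w⁻¹, N.mul_mem (hN.conj_mem w hwN a) (N.inv_mem hwN),
      L.moveU a a.2 w (hNU hwN)⟩
  have hfib : ∀ a b : ↥(S : Subgroup G), f a = f b → (a : G)⁻¹ * b ∈ Cfsg.pCore p G := by
    intro a b hab
    by_contra hn
    refine hwC (L.key hx ((S : Subgroup G).mul_mem ((S : Subgroup G).inv_mem a.2) b.2) hn (hNU hwN) (commute_mk.1 ?_))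
    have h1 := (QuotientGroup.eq_one_iff _).2 (mem_subgroupOf.1 (QuotientGroup.eq.1 hab))
    simp only [Subgroup.coe_mul, Subgroup.coe_inv, QuotientGroup.mk_mul, QuotientGroup.mk_inv,
      inv_mul_eq_one, mul_left_inj] at h1
    show _ * _ = _ * _
    rw [QuotientGroup.mk_mul, QuotientGroup.mk_inv]
    calc (((a : G) : G ⧸ W))⁻¹ * (b : G) * (w : G ⧸ W)
        = ((a : G) : G ⧸ W)⁻¹ * ((b : G) * w * ((b : G) : G ⧸ W)⁻¹) * (b : G) := by group
      _ = ((a : G) : G ⧸ W)⁻¹ * ((a : G) * w * ((a : G) : G ⧸ W)⁻¹) * (b : G) := by rw [← h1]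
      _ = _ := by group
  have h1 := card_le_of_fibres (S : Subgroup G) (Cfsg.pCore p G) f hfib (Equiv.refl _)
  rw [hx.card_S] at h1
  have h2 := card_eq_card_quotient_mul_card_subgroup (W.subgroupOf (N ⊓ C))
  rw [Nat.card_congr (subgroupOfEquivOfLe hWNC).toEquiv] at h2
  have hCN : C ≤ N := by
    have h3 : Nat.card C ≤ Nat.card ↥(N ⊓ C) := by
      rw [L.cardC, h2]
      exact Nat.mul_le_mul_right _ (Nat.le_of_mul_le_mul_right h1 Nat.card_pos)
    exact (eq_of_le_of_card_ge inf_le_right h3).ge.trans inf_le_left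
  refine le_antisymm hNU ((L.sup h₀ hh).trans (sup_le hCN ?_))
  rintro _ ⟨c, hc, rfl⟩
  exact hN.conj_mem c (hCN hc) h₀

theorem not_central (L : Lines S q M U C W) (hx : Ctx p S q M) (hc : Core p S) :
    ¬ ⁅U, (⊤ : Subgroup G)⁆ ≤ W := by
  haveI := L.normalW
  intro h
  obtain ⟨s, hs, hsQ⟩ := SetLike.not_le_iff_exists.1 hc.ne
  refine L.not_le_C hx fun u hu => L.key hx hs hsQ hu ?_
  have := h (commutator_mem_commutator hu (mem_top s))
  rw [← commutatorElement_def, ← commutatorElement_inv]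
  exact inv_mem this

/-- **The natural module.** -/
theorem natural (L : Lines S q M U C W) [W.Normal] (hx : Ctx p S q M) (hc : Core p S)
    (F : Type*) [Field F] [Finite F] (hF : Nat.card F = q) : Nonempty (Nat2 p S F U C W) := by
  classical
  haveI := L.normalU
  haveI hUn : (U.map (QuotientGroup.mk' W)).Normal :=
    L.normalU.map _ (QuotientGroup.mk'_surjective W)
  set K' := kerOf U W with hK'
  set Vb := U.map (QuotientGroup.mk' W) with hV
  let φ₀ : G →* MulAut ↥Vb := (MulAut.conjNormal (H := Vb)).comp (QuotientGroup.mk' W)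
  have hval : ∀ (g : G) (x : ↥Vb),
      ((φ₀ g x : ↥Vb) : G ⧸ W) = (g : G ⧸ W) * x * (g : G ⧸ W)⁻¹ := fun g x =>
    MulAut.conjNormal_apply _ _
  have hker₀ : φ₀.ker = K' := by
    ext g
    rw [MonoidHom.mem_ker, hK', kerOf, mem_comap, mem_centralizer_iff]
    constructor
    · intro h x hx'
      have := congrArg (fun f : MulAut ↥Vb => ((f ⟨x, hx'⟩ : ↥Vb) : G ⧸ W)) h
      simp only [hval, MulAut.one_apply] at this
      exact (mul_inv_eq_iff_eq_mul.1 this).symm
    · intro h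
      refine MulEquiv.ext fun x => Subtype.ext ?_
      rw [hval, MulAut.one_apply, mul_inv_eq_iff_eq_mul]
      exact (h x x.2).symm
  let φ : G ⧸ K' →* MulAut ↥Vb := QuotientGroup.lift K' φ₀ hker₀.ge
  letI : CommGroup ↥Vb :=
    { (inferInstance : Group ↥Vb) with
      mul_comm := fun a b => Subtype.ext (by
        obtain ⟨a', ha', hae⟩ := a.2
        obtain ⟨b', hb', hbe⟩ := b.2
        show (a : G ⧸ W) * b = b * a
        rw [← hae, ← hbe]
        exact commute_mk.2 (L.comm a' ha' b' hb')) }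
  letI act : DistribMulAction (G ⧸ K') (Additive ↥Vb) :=
    { smul := fun g w => Additive.ofMul (φ g w.toMul)
      one_smul := fun w => by
        show Additive.ofMul (φ 1 w.toMul) = w
        rw [map_one]; rfl
      mul_smul := fun g h w => by
        show Additive.ofMul (φ (g * h) w.toMul) = Additive.ofMul (φ g (φ h w.toMul))
        rw [map_mul]; rfl
      smul_zero := fun g => congrArg Additive.ofMul (map_one (φ g))
      smul_add := fun g v w => congrArg Additive.ofMul (map_mul (φ g) v.toMul w.toMul) }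
  let val : Additive ↥Vb → G ⧸ W := fun w => ((w.toMul : ↥Vb) : G ⧸ W)
  have hvinj : Function.Injective val := fun u v h => Additive.toMul.injective (Subtype.ext h)
  have hsmul : ∀ (g : G) w, val ((g : G ⧸ K') • w) = (g : G ⧸ W) * val w * (g : G ⧸ W)⁻¹ :=
    fun g w => hval g _
  let em : ↥U → Additive ↥Vb := fun u => Additive.ofMul ⟨_, mem_map_of_mem _ u.2⟩
  have hem : ∀ u : ↥U, val (em u) = ((u : G) : G ⧸ W) := fun _ => rfl
  have hsurj : ∀ w, ∃ u : ↥U, em u = w := fun w => by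
    obtain ⟨u, hu, he⟩ := (w.toMul : ↥Vb).2
    exact ⟨⟨u, hu⟩, hvinj he⟩
  have hfix : ∀ (g : G) (u : ↥U), (g : G ⧸ K') • em u = em u ↔ g * u * g⁻¹ * (u : G)⁻¹ ∈ W := by
    intro g u
    rw [← hvinj.eq_iff, hsmul, hem, ← commute_mk, mul_inv_eq_iff_eq_mul]
    rfl
  set A := (S : Subgroup G).map (QuotientGroup.mk' K') with hA
  obtain ⟨s₀, hs₀, hs₀Q⟩ := SetLike.not_le_iff_exists.1 hc.ne
  have hfixA : ∀ u : ↥U, em u ∈ CfsgLib.OffGen.fix (Additive ↥Vb) A ↔ (u : G) ∈ C := by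
    intro u
    rw [CfsgLib.OffGen.mem_fix]
    constructor
    · exact fun h => L.key hx hs₀ hs₀Q u.2 ((hfix s₀ u).1 (h _ ⟨s₀, hs₀, rfl⟩))
    · rintro h _ ⟨s, hs, rfl⟩
      exact (hfix s u).2 (L.moveC s hs u h)
  have hMK : (M.map (QuotientGroup.mk' K')).comap (QuotientGroup.mk' K') = M := by
    rw [comap_map_eq, QuotientGroup.ker_mk', sup_eq_left.2 (L.kerOf_le hx)]
  obtain ⟨h₀, hh₀⟩ : ∃ h, h ∉ M := by
    by_contra hall
    push Not at hall
    exact hx.top (top_le_iff.1 fun g _ => hall g)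
  have hline : CfsgLib.OffGen.Line (Additive ↥Vb) p A (M.map (QuotientGroup.mk' K')) :=
    { exp := fun w => by
        obtain ⟨u, rfl⟩ := hsurj w
        refine hvinj ?_
        show ((((em u).toMul ^ p : ↥Vb)) : G ⧸ W) = 1
        rw [SubmonoidClass.coe_pow]
        exact (QuotientGroup.eq_one_iff _).2 (L.pow u u.2)
      faithful := fun g hg => by
        obtain ⟨g, rfl⟩ := QuotientGroup.mk_surjective g
        exact (QuotientGroup.eq_one_iff g).2
          (mem_kerOf.2 fun u hu => (hfix g ⟨u, hu⟩).1 (hg _))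
      top := fun h => hx.top (by rw [← hMK, h, comap_top])
      gen := fun x hxM => by
        obtain ⟨x, rfl⟩ := QuotientGroup.mk_surjective x
        have hxM' : x ∉ M := fun h => hxM (mem_map_of_mem (QuotientGroup.mk' K') h)
        rw [← Subgroup.map_comap_eq_self_of_surjective (QuotientGroup.mk'_surjective K')
          (A ⊔ A.map (MulAut.conj (x : G ⧸ K')).toMonoidHom),
          hx.gen x hxM' ((A ⊔ A.map (MulAut.conj (x : G ⧸ K')).toMonoidHom).comap
            (QuotientGroup.mk' K')) (fun s hs => ?_) ⟨s₀, hs₀, hs₀Q, ?_⟩,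
          map_top_of_surjective _ (QuotientGroup.mk'_surjective K')]
        · exact mem_sup_left (mem_map_of_mem (QuotientGroup.mk' K') hs₀)
        · exact mem_sup_right ⟨_, mem_map_of_mem (QuotientGroup.mk' K') hs, by simp⟩
      quad := by
        rintro _ ⟨a, ha, rfl⟩ _ ⟨b, hb, rfl⟩ w
        obtain ⟨u, rfl⟩ := hsurj w
        have e : (a : G ⧸ K') • em u - em u =
            em ⟨a * u * a⁻¹ * (u : G)⁻¹, L.hCU (L.moveU a ha u u.2)⟩ := by
          refine hvinj ?_
          rw [sub_eq_add_neg]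
          show val ((a : G ⧸ K') • em u) * (val (em u))⁻¹ = _
          rw [hsmul, hem, hem, QuotientGroup.mk_mul, QuotientGroup.mk_mul, QuotientGroup.mk_mul,
            QuotientGroup.mk_inv, QuotientGroup.mk_inv]
        show (b : G ⧸ K') • ((a : G ⧸ K') • em u - em u) = (a : G ⧸ K') • em u - em u
        rw [e]
        exact (hfix b _).2 (L.moveC b hb _ (L.moveU a ha u u.2))
      fixAll := fun w hw => by
        obtain ⟨u, rfl⟩ := hsurj w
        have h1 : ∀ g : G, g * u * g⁻¹ * (u : G)⁻¹ ∈ W := fun g =>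
          (hfix g u).1 (hw _ (mem_top _))
        have hC := L.key hx hs₀ hs₀Q u.2 (h1 s₀)
        have huW : (u : G) ∈ W := L.inf_conj hh₀ ⟨hC, h₀⁻¹ * u * h₀, ?_, by simp [mul_assoc]⟩
        · exact hvinj ((QuotientGroup.eq_one_iff _).2 huW)
        · have := mul_mem (L.hWC (h1 h₀⁻¹)) hC
          simpa using this
      card := by
        have e1 : Nat.card (CfsgLib.OffGen.fix (Additive ↥Vb) A) =
            Nat.card (C.map (QuotientGroup.mk' W)) := by
          refine Nat.card_congr (Equiv.ofBijective (fun w =>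
            (⟨val w.1, ?_⟩ : C.map (QuotientGroup.mk' W))) ⟨fun v w h => ?_, fun x => ?_⟩)
          · obtain ⟨u, hu⟩ := hsurj w.1
            exact ⟨u, (hfixA u).1 (hu.symm ▸ w.2), by rw [← hu]; rfl⟩
          · exact Subtype.ext (hvinj (congrArg Subtype.val h :))
          · obtain ⟨x, c, hcC, rfl⟩ := x
            exact ⟨⟨em ⟨c, L.hCU hcC⟩, (hfixA _).2 hcC⟩, rfl⟩
        have e2 : Nat.card (C.map (QuotientGroup.mk' W)) = q := Nat.eq_of_mul_eq_mul_right
          (Nat.card_pos (α := W)) ((card_map_mk C W L.hWC).trans L.cardC)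
        have e3 := ((QuotientGroup.mk' K').comp (S : Subgroup G).subtype).ker.card_mul_index
        rw [Subgroup.index_ker, MonoidHom.range_comp, Subgroup.range_subtype, ← hA,
          ← MonoidHom.comap_ker, QuotientGroup.ker_mk', hx.card_S] at e3
        have e4 : K'.comap (S : Subgroup G).subtype =
            (Cfsg.pCore p G).subgroupOf (S : Subgroup G) := by
          ext s
          exact ⟨fun h => L.inf_kerOf hx ⟨s.2, h⟩, fun h => L.core_le_kerOf h⟩
        rw [e4, Nat.card_congr (subgroupOfEquivOfLe hc.le_S).toEquiv, mul_comm q] at e3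
        rw [e1, e2, Nat.eq_of_mul_eq_mul_left Nat.card_pos e3]
      key := by
        rintro _ ⟨a, ha, rfl⟩ ha1 w hw
        obtain ⟨u, rfl⟩ := hsurj w
        exact (hfixA u).2 (L.key hx ha
          (fun h => ha1 ((QuotientGroup.eq_one_iff a).2 (L.core_le_kerOf h))) u.2
          ((hfix a u).1 hw))
      sum := fun x hxM w => by
        obtain ⟨x, rfl⟩ := QuotientGroup.mk_surjective x
        have hxM' : x ∉ M := fun h => hxM (mem_map_of_mem (QuotientGroup.mk' K') h)
        obtain ⟨u, rfl⟩ := hsurj w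
        have hmem : (u : G) ∈ ((C ⊔ C.map (MulAut.conj x).toMonoidHom : Subgroup G) : Set G) :=
          L.sup x hxM' u.2
        have hnorm : C.map (MulAut.conj x).toMonoidHom ≤ normalizer (C : Set G) := by
          rintro _ ⟨c', hc', rfl⟩
          refine mem_normalizer_fintype fun c hc => ?_
          have := C.mul_mem (L.hWC (L.comm _ (L.normalU.conj_mem c' (L.hCU hc') x) c (L.hCU hc))) hc
          simpa [mul_assoc] using this
        rw [coe_mul_of_right_le_normalizer_left _ _ hnorm] at hmem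
        obtain ⟨c, hc, _, ⟨c', hc', rfl⟩, he⟩ := hmem
        refine ⟨em ⟨c, L.hCU hc⟩, (hfixA _).2 hc, em ⟨c', L.hCU hc'⟩, (hfixA _).2 hc', hvinj ?_⟩
        show _ = val (em ⟨c, _⟩) * val ((x : G ⧸ K') • em ⟨c', _⟩)
        rw [hsmul, hem, hem, hem, ← he]
        simp
      nontriv := fun h => hs₀Q (L.inf_kerOf hx ⟨hs₀, (QuotientGroup.eq_one_iff s₀).1
        (by have := mem_map_of_mem (QuotientGroup.mk' K') hs₀; rwa [← hA, h, mem_bot] at this)⟩)
      le := map_mono hx.le_M }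
  obtain ⟨F', iF, iFt, hcF, ρ', ψ', hψ'⟩ := hline.exists_natural
  have hcard : Fintype.card F' = Nat.card F := by
    rw [hcF, hF, ← hline.card]
    have e1 : Nat.card (CfsgLib.OffGen.fix (Additive ↥Vb) A) = Nat.card A := hline.card
    have e3 := ((QuotientGroup.mk' K').comp (S : Subgroup G).subtype).ker.card_mul_index
    rw [Subgroup.index_ker, MonoidHom.range_comp, Subgroup.range_subtype, ← hA,
      ← MonoidHom.comap_ker, QuotientGroup.ker_mk', hx.card_S] at e3
    have e4 : K'.comap (S : Subgroup G).subtype =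
        (Cfsg.pCore p G).subgroupOf (S : Subgroup G) := by
      ext s
      exact ⟨fun h => L.inf_kerOf hx ⟨s.2, h⟩, fun h => L.core_le_kerOf h⟩
    rw [e4, Nat.card_congr (subgroupOfEquivOfLe hc.le_S).toEquiv, mul_comm q] at e3
    rw [e1, Nat.eq_of_mul_eq_mul_left Nat.card_pos e3]
  haveI := Fintype.ofFinite F
  let σ : F' ≃+* F :=
    FiniteField.ringEquivOfCardEq (hcard.trans Nat.card_eq_fintype_card)
  -- change the field
  let ρ₁ : G →* Matrix.SpecialLinearGroup (Fin 2) F :=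
    (Matrix.SpecialLinearGroup.map σ.toRingHom).comp (ρ'.toMonoidHom.comp (QuotientGroup.mk' K'))
  let ψ₁ : G → (Fin 2 → F) := fun u =>
    if h : u ∈ U then fun i => σ (ψ' (em ⟨u, h⟩) i) else 0
  have hψ₁ : ∀ u (h : u ∈ U), ψ₁ u = fun i => σ (ψ' (em ⟨u, h⟩) i) := fun u h => dif_pos h
  have hequiv : ∀ g : G, ∀ u ∈ U,
      ψ₁ (g * u * g⁻¹) = (ρ₁ g : Matrix (Fin 2) (Fin 2) F).mulVec (ψ₁ u) := by
    intro g u hu
    rw [hψ₁ _ (L.normalU.conj_mem u hu g), hψ₁ u hu]
    have e : em ⟨g * u * g⁻¹, L.normalU.conj_mem u hu g⟩ = (g : G ⧸ K') • em ⟨u, hu⟩ := by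
      refine hvinj ?_
      rw [hsmul, hem, hem]
      simp
    rw [e, hψ']
    funext i
    exact RingHom.map_mulVec σ.toRingHom _ _ i
  obtain ⟨c, hcC, hcW⟩ := SetLike.not_le_iff_exists.1 (show ¬ C ≤ W from fun h => by
    have := card_le_of_le h
    rw [L.cardC] at this
    have h1 := hx.one_lt
    have h2 : 0 < Nat.card W := Nat.card_pos
    nlinarith)
  have hzero₁ : ∀ u ∈ U, ψ₁ u = 0 ↔ u ∈ W := by
    intro u hu
    rw [hψ₁ u hu, ← QuotientGroup.eq_one_iff]
    constructor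
    · intro h
      have h0 : ψ' (em ⟨u, hu⟩) = 0 := funext fun i => σ.injective (by
        rw [congrFun h i, Pi.zero_apply, Pi.zero_apply, map_zero])
      exact congrArg val ((map_eq_zero_iff ψ' ψ'.injective).1 h0)
    · intro h
      rw [show em ⟨u, hu⟩ = 0 from hvinj h, map_zero]
      funext i
      exact map_zero σ
  obtain ⟨t, ht⟩ := exists_col (ψ₁ c) fun h => hcW ((hzero₁ c (L.hCU hcC)).1 h)
  let ρ : G →* Matrix.SpecialLinearGroup (Fin 2) F := (MulAut.conj t⁻¹).toMonoidHom.comp ρ₁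
  let ψ : G → (Fin 2 → F) := fun u =>
    ((t⁻¹ : Matrix.SpecialLinearGroup (Fin 2) F) : Matrix (Fin 2) (Fin 2) F).mulVec (ψ₁ u)
  have hρ : ∀ g : G, ρ g = t⁻¹ * ρ₁ g * t := fun g => by simp [ρ]
  have hequiv' : ∀ g : G, ∀ u ∈ U,
      ψ (g * u * g⁻¹) = (ρ g : Matrix (Fin 2) (Fin 2) F).mulVec (ψ u) := by
    intro g u hu
    simp only [ψ]
    rw [hequiv g u hu, Matrix.mulVec_mulVec, Matrix.mulVec_mulVec,
      ← Matrix.SpecialLinearGroup.coe_mul, ← Matrix.SpecialLinearGroup.coe_mul, hρ,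
      mul_inv_cancel_right]
  have hzero : ∀ u ∈ U, ψ u = 0 ↔ u ∈ W := by
    intro u hu
    rw [← hzero₁ u hu]
    refine ⟨fun h => ?_, fun h => by simp [ψ, h]⟩
    have := congrArg (fun w => (t : Matrix (Fin 2) (Fin 2) F).mulVec w) h
    simpa only [ψ, Matrix.mulVec_mulVec, ← Matrix.SpecialLinearGroup.coe_mul, mul_inv_cancel,
      Matrix.SpecialLinearGroup.coe_one, Matrix.one_mulVec, Matrix.mulVec_zero] using this
  have hψc : ψ c = ![1, 0] := by
    simp only [ψ, ← ht, Matrix.mulVec_mulVec, ← Matrix.SpecialLinearGroup.coe_mul, inv_mul_cancel,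
      Matrix.SpecialLinearGroup.coe_one, Matrix.one_mulVec]
  have hmul₁ : ∀ u ∈ U, ∀ v ∈ U, ψ₁ (u * v) = ψ₁ u + ψ₁ v := by
    intro u hu v hv
    rw [hψ₁ _ (mul_mem hu hv), hψ₁ u hu, hψ₁ v hv]
    have e : em ⟨u * v, mul_mem hu hv⟩ = em ⟨u, hu⟩ + em ⟨v, hv⟩ := hvinj rfl
    funext i
    rw [e, map_add, Pi.add_apply, map_add, Pi.add_apply]
  have hmul : ∀ u ∈ U, ∀ v ∈ U, ψ (u * v) = ψ u + ψ v := fun u hu v hv => by
    simp only [ψ]
    rw [hmul₁ u hu v hv, Matrix.mulVec_add]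
  have hfixW : ∀ g : G, ∀ u ∈ U, g * u * g⁻¹ * u⁻¹ ∈ W →
      (ρ g : Matrix (Fin 2) (Fin 2) F).mulVec (ψ u) = ψ u := by
    intro g u hu h
    rw [← hequiv' g u hu]
    have hu' : g * u * g⁻¹ * u⁻¹ ∈ U := (L.hWC.trans L.hCU) h
    rw [show g * u * g⁻¹ = g * u * g⁻¹ * u⁻¹ * u by group, hmul _ hu' u hu, (hzero _ hu').2 h,
      zero_add]
  have hmem : ∀ s ∈ (S : Subgroup G), ∃ x, ρ s = up x := by
    intro s hs
    have h1 := hfixW s c (L.hCU hcC) (L.moveC s hs c hcC)
    rw [hψc] at h1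
    have h00 : (ρ s : Matrix (Fin 2) (Fin 2) F) 0 0 = 1 := by
      simpa [Matrix.mulVec, dotProduct, Fin.sum_univ_two] using congrFun h1 0
    have h10 : (ρ s : Matrix (Fin 2) (Fin 2) F) 1 0 = 0 := by
      simpa [Matrix.mulVec, dotProduct, Fin.sum_univ_two] using congrFun h1 1
    have hdet : (ρ s : Matrix (Fin 2) (Fin 2) F) 0 0 * (ρ s : Matrix (Fin 2) (Fin 2) F) 1 1 -
        (ρ s : Matrix (Fin 2) (Fin 2) F) 0 1 * (ρ s : Matrix (Fin 2) (Fin 2) F) 1 0 = 1 := by
      rw [← Matrix.det_fin_two]; exact (ρ s).2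
    rw [h00, h10] at hdet
    refine ⟨(ρ s : Matrix (Fin 2) (Fin 2) F) 0 1, Subtype.ext ?_⟩
    rw [up_coe]
    ext i j
    fin_cases i <;> fin_cases j <;> simp [h00, h10]
    simpa using hdet
  have hker : ρ.ker = K' := by
    ext g
    rw [MonoidHom.mem_ker, hρ]
    constructor
    · intro h
      have h1 : ρ₁ g = 1 := by
        have := congrArg (fun x => t * x * t⁻¹) h
        simpa [mul_assoc] using this
      refine mem_kerOf.2 fun u hu => (hzero₁ _ (mul_mem (L.normalU.conj_mem u hu g) (inv_mem hu))).1 ?_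
      have e := hequiv g u hu
      rw [h1, Matrix.SpecialLinearGroup.coe_one, Matrix.one_mulVec] at e
      have e2 := hmul₁ _ (mul_mem (L.normalU.conj_mem u hu g) (inv_mem hu)) u hu
      rw [inv_mul_cancel_right, e, right_eq_add] at e2
      exact e2
    · intro h
      have : ρ₁ g = 1 := by
        simp only [ρ₁, MonoidHom.comp_apply, QuotientGroup.mk'_apply,
          (QuotientGroup.eq_one_iff g).2 h, map_one]
      rw [this, mul_one, inv_mul_cancel]
  choose x hxs using fun s : ↥(S : Subgroup G) => hmem s s.2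
  have hrange : ∀ y, ∃ s ∈ (S : Subgroup G), ρ s = up y := by
    have h1 : Nat.card ↥(S : Subgroup G) ≤ Nat.card (Set.range x) * Nat.card ↥(Cfsg.pCore p G) :=
      card_le_of_fibres (S : Subgroup G) (Cfsg.pCore p G)
        (fun s => (⟨x s, s, rfl⟩ : Set.range x)) (fun a b hab => L.inf_kerOf hx
          ⟨(S : Subgroup G).mul_mem ((S : Subgroup G).inv_mem a.2) b.2, (show (a : G)⁻¹ * b ∈ K' by
            rw [← hker, MonoidHom.mem_ker, map_mul, map_inv, hxs, hxs,
              show x a = x b from congrArg Subtype.val hab, inv_mul_cancel])⟩) (Equiv.refl _)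
    rw [hx.card_S, ← hF] at h1
    have h2 : Set.range x = Set.univ := Set.eq_univ_of_forall fun y => by
      by_contra hy
      have h3 : Nat.card (Set.range x) < Nat.card F :=
        Finite.card_subtype_lt hy
      have := Nat.le_of_mul_le_mul_right h1 Nat.card_pos
      omega
    intro y
    obtain ⟨s, hs⟩ := (h2.symm ▸ Set.mem_univ y : y ∈ Set.range x)
    exact ⟨s, s.2, by rw [hxs, hs]⟩
  refine ⟨⟨ρ, ?_, hker, hmem, hrange, ψ, hmul, hzero, fun w => ?_, hequiv',
    fun u hu => ⟨fun huC => ?_, fun h => ?_⟩⟩⟩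
  · refine (MulAut.conj t⁻¹).surjective.comp ?_
    have hmap : Function.Surjective (Matrix.SpecialLinearGroup.map (n := Fin 2) σ.toRingHom) :=
      fun y => ⟨Matrix.SpecialLinearGroup.map σ.symm.toRingHom y, by ext i j; simp⟩
    exact hmap.comp (ρ'.surjective.comp (QuotientGroup.mk'_surjective K'))
  · obtain ⟨w', hw'⟩ : ∃ w' : Fin 2 → F', (fun i => σ (w' i)) =
        (t : Matrix (Fin 2) (Fin 2) F).mulVec w :=
      ⟨fun i => σ.symm ((t : Matrix (Fin 2) (Fin 2) F).mulVec w i), by simp⟩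
    obtain ⟨u, hu⟩ := hsurj (ψ'.symm w')
    refine ⟨u, u.2, ?_⟩
    simp only [ψ, hψ₁ u u.2, hu, AddEquiv.apply_symm_apply, hw', Matrix.mulVec_mulVec,
      ← Matrix.SpecialLinearGroup.coe_mul, inv_mul_cancel, Matrix.SpecialLinearGroup.coe_one,
      Matrix.one_mulVec]
  · obtain ⟨s, hs, he⟩ := hrange 1
    have h1 := congrFun (hfixW s u hu (L.moveC s hs u huC)) 0
    rw [he, up_coe] at h1
    simpa [Matrix.mulVec, dotProduct, Fin.sum_univ_two] using h1
  · refine L.key hx hs₀ hs₀Q hu ((hzero _ (L.hCU (L.moveU s₀ hs₀ u hu))).1 ?_)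
    obtain ⟨y, hy⟩ := hmem s₀ hs₀
    have e := hequiv' s₀ u hu
    have e2 := hmul _ (L.hCU (L.moveU s₀ hs₀ u hu)) u hu
    rw [inv_mul_cancel_right, e, hy, up_coe] at e2
    have e3 : (!![1, y; 0, 1] : Matrix (Fin 2) (Fin 2) F).mulVec (ψ u) = ψ u := by
      funext i
      fin_cases i <;> simp [Matrix.mulVec, dotProduct, Fin.sum_univ_two, h]
    rwa [e3, right_eq_add] at e2

end Lines

namespace Nat2

variable {S : Sylow p G} {q : ℕ} {M U C W : Subgroup G} [W.Normal] {F : Type*} [Field F]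

/-- The elements of `M` are upper triangular. -/
theorem apply_one_zero (φ : Nat2 p S F U C W) (L : Lines S q M U C W) (hx : Ctx p S q M) {g : G}
    (hg : g ∈ M) : (φ.ρ g : Matrix (Fin 2) (Fin 2) F) 1 0 = 0 := by
  by_contra hc0
  refine hx.top (top_le_iff.1 ?_)
  have hup : ∀ z, up z ∈ M.map φ.ρ := fun z => by
    obtain ⟨s, hs, he⟩ := φ.exists_up z
    exact ⟨s, hx.le_M hs, he⟩
  have hT : φ.ρ g ∈ M.map φ.ρ := mem_map_of_mem _ hg
  have hlow : ∀ y, low y ∈ M.map φ.ρ := by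
    intro y
    set a := (φ.ρ g : Matrix (Fin 2) (Fin 2) F) 0 0
    set c := (φ.ρ g : Matrix (Fin 2) (Fin 2) F) 1 0
    have hdet : (φ.ρ g : Matrix (Fin 2) (Fin 2) F) 0 0 * (φ.ρ g : Matrix (Fin 2) (Fin 2) F) 1 1 -
        (φ.ρ g : Matrix (Fin 2) (Fin 2) F) 0 1 * (φ.ρ g : Matrix (Fin 2) (Fin 2) F) 1 0 = 1 := by
      rw [← Matrix.det_fin_two]; exact (φ.ρ g).2
    have e : low y = (up (a / c))⁻¹ * (φ.ρ g * up (-y / c ^ 2) * (φ.ρ g)⁻¹) * up (a / c) := by
      suffices h : up (a / c) * low y * (up (a / c))⁻¹ * φ.ρ g = φ.ρ g * up (-y / c ^ 2) by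
        rw [← h]; group
      refine Subtype.ext ?_
      rw [up_inv, Matrix.SpecialLinearGroup.coe_mul, Matrix.SpecialLinearGroup.coe_mul,
        Matrix.SpecialLinearGroup.coe_mul, Matrix.SpecialLinearGroup.coe_mul, up_coe, up_coe,
        low_coe, up_coe]
      have hc0' : (φ.ρ g : Matrix (Fin 2) (Fin 2) F) 1 0 ≠ 0 := hc0
      ext i j
      fin_cases i <;> fin_cases j <;>
        simp [Matrix.mul_apply, Fin.sum_univ_two, a, c] <;> field_simp
      all_goals grind
    rw [e]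
    exact mul_mem (mul_mem (inv_mem (hup _)) (mul_mem (mul_mem hT (hup _)) (inv_mem hT))) (hup _)
  have htop : M.map φ.ρ = ⊤ := by
    rw [eq_top_iff, ← CfsgLib.SL2Pair.sup_eq_top (k := F)]
    refine sup_le (fun g hg => ?_) (fun g hg => ?_)
    · obtain ⟨c, rfl⟩ := CfsgLib.SL2Pair.mem_lower.1 hg; exact hlow c
    · obtain ⟨c, rfl⟩ := CfsgLib.SL2Pair.mem_upper.1 hg; exact hup c
  have := congrArg (Subgroup.comap φ.ρ) htop
  rw [comap_map_eq, φ.ker, comap_top, sup_eq_left.2 (L.kerOf_le hx)] at this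
  exact this.ge

end Nat2

end CfsgLib.PushL2
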