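import Cfsg.Agent.PushL2.Bound

/-!
Subgroups attaining the bound `|B : Q| |C_V(B)| = |V|` over a quotient `PSL₂(q)`: if one lies
outside `O_p(G)` then every element of `S` outside `O_p(G)` has the fixed points of `S`.
-/

set_option autoImplicit false
set_option linter.unusedSectionVars false
set_option linter.style.haveILetI false

namespace CfsgLib.PushL2

open Subgroup
open scoped commutatorElement

/-- A normal subgroup of a `p`-group is not generated by its commutators with the group together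
with a proper normal subgroup. -/
theorem le_of_le_sup_commutator {P : Type*} [Group P] [Finite P] {p : ℕ} [Fact p.Prime]
    (hP : IsPGroup p P) (V F : Subgroup P) [V.Normal] [F.Normal]
    (h : V ≤ F ⊔ ⁅V, (⊤ : Subgroup P)⁆) : V ≤ F := by
  obtain ⟨n, hn⟩ := Subgroup.nilpotent_iff_lowerCentralSeries.1 hP.isNilpotent
  suffices ∀ k, V ≤ F ⊔ (⊤ : Subgroup P).lowerCentralSeries k by
    simpa [hn] using this n
  intro k
  induction k with
  | zero => simp
  | succ k ih =>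
    refine h.trans (sup_le le_sup_left (commutator_le.2 fun x hx g _ => ?_))
    obtain ⟨f, hf, l, hl, rfl⟩ := mem_sup_of_normal_left.1 (ih hx)
    rw [commutatorElement_def, show f * l * g * (f * l)⁻¹ * g⁻¹ =
      f * (l * g * l⁻¹ * g⁻¹) * (g * f⁻¹ * g⁻¹) by group]
    refine mul_mem (mul_mem (mem_sup_left hf) (mem_sup_right ?_))
      (mem_sup_left ((inferInstance : F.Normal).conj_mem _ (inv_mem hf) g))
    rw [Subgroup.lowerCentralSeries_succ, ← commutatorElement_def]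
    exact commutator_mem_commutator hl (mem_top g)

variable {G H : Type*} [Group G] [Finite G] [Group H] [Finite H] {θ : G →* H} {V : Subgroup H}
  {p : ℕ} [Fact p.Prime] {S : Sylow p G}

/-- A `p`-subgroup moves some element of `V` outside the fixed points together with its own
commutators. -/
theorem exists_not_mem_sup (hA : Action θ V p) (hp : IsPGroup p V) {B : Subgroup G}
    (hB : IsPGroup p B) (hne : ¬ V ≤ fix θ V B) :
    ∀ w ∈ V, ¬ V ≤ fix θ V B ⊔ closure {y | ∃ a ∈ B, θ a * w * (θ a)⁻¹ * w⁻¹ = y} := by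
  intro w hw hle
  set F := fix θ V B
  set P := B.map θ ⊔ V with hP
  have hnV : B.map θ ≤ normalizer (V : Set H) := by
    rintro _ ⟨b, hb, rfl⟩
    exact mem_normalizer_fintype fun v hv => hA.stable b v hv
  have hPp : IsPGroup p P := (hB.map θ).to_sup_of_normal_right' hp hnV
  haveI : (V.subgroupOf P).Normal := by
    refine (normal_subgroupOf_iff_le_normalizer le_sup_right).2 (sup_le hnV le_normalizer)
  haveI : (F.subgroupOf P).Normal := by
    refine (normal_subgroupOf_iff_le_normalizer ((fix_le B).trans le_sup_right)).2 (sup_le ?_ ?_)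
    · rintro _ ⟨b, hb, rfl⟩
      exact mem_normalizer_fintype fun v hv => by
        rw [conj_eq_of_mem_fix hv hb]
        exact hv
    · exact fun u hu => mem_normalizer_fintype fun v hv => by
        rw [← hA.comm v (fix_le B hv) u hu, mul_inv_cancel_right]
        exact hv
  refine hne ?_
  have hsub : V.subgroupOf P ≤ F.subgroupOf P ⊔ ⁅V.subgroupOf P, (⊤ : Subgroup P)⁆ := by
    have hmap : V ≤ (F.subgroupOf P ⊔ ⁅V.subgroupOf P, (⊤ : Subgroup P)⁆).map P.subtype := by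
      refine hle.trans (sup_le ?_ ((closure_le _).2 ?_))
      · refine le_trans ?_ (map_mono le_sup_left)
        rw [subgroupOf_map_subtype, inf_of_le_left ((fix_le B).trans le_sup_right)]
      · rintro _ ⟨a, ha, rfl⟩
        have ha' : θ a ∈ P := mem_sup_left (mem_map_of_mem θ ha)
        have hw' : w ∈ P := mem_sup_right hw
        have hc : (⁅(⟨w, hw'⟩ : P), (⟨θ a, ha'⟩ : P)⁆)⁻¹ ∈
            F.subgroupOf P ⊔ ⁅V.subgroupOf P, (⊤ : Subgroup P)⁆ :=
          inv_mem (mem_sup_right (commutator_mem_commutator (show (⟨w, hw'⟩ : P) ∈ V.subgroupOf P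
            from mem_subgroupOf.2 hw) (mem_top _)))
        refine ⟨_, hc, ?_⟩
        rw [commutatorElement_inv, commutatorElement_def]
        rfl
    intro x hx
    obtain ⟨y, hy, he⟩ := hmap (mem_subgroupOf.1 hx)
    rwa [P.subtype_injective he] at hy
  intro v hv
  exact le_of_le_sup_commutator hPp _ _ hsub (show (⟨v, mem_sup_right hv⟩ : P) ∈ V.subgroupOf P
    from mem_subgroupOf.2 hv)

/-- When a subgroup outside `O_p(G)` attains the bound, so does `S`, and every element of `S`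
outside `O_p(G)` has exactly the fixed points of `S`. -/
theorem sharp' (hc : Core p S) (hA : Action θ V p)
    (hker : (centralizer (V : Set H)).comap θ ⊔ S ≠ ⊤) {B₀ : Subgroup G}
    (hQB : Cfsg.pCore p G ≤ B₀) (hBS : B₀ ≤ S) (hne : ¬ B₀ ≤ Cfsg.pCore p G)
    (hmax : Nat.card ↥(Cfsg.pCore p G) * Nat.card V ≤ Nat.card B₀ * Nat.card (fix θ V B₀)) :
    Nat.card (S : Subgroup G) * Nat.card (fix θ V (S : Subgroup G)) =
        Nat.card ↥(Cfsg.pCore p G) * Nat.card V ∧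
      (∀ X : Subgroup G, X ≤ S → ¬ X ≤ Cfsg.pCore p G → fix θ V X = fix θ V (S : Subgroup G)) ∧
      ∀ w ∈ V, ∀ a ∈ (S : Subgroup G), θ a * w * (θ a)⁻¹ * w⁻¹ ∈ fix θ V S := by
  classical
  set Q := Cfsg.pCore p G with hQ
  haveI hQn : Q.Normal := CfsgLib.Solvable.pCore_normal p
  haveI := hA.ker_normal
  have hkerS : (S : Subgroup G) ⊓ (centralizer (V : Set H)).comap θ ≤ Q :=
    le_pCore_of_normal ((hc.dich _ inferInstance).resolve_left hker)
      (S.isPGroup'.to_le inf_le_left)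
  have hpV : IsPGroup p V := fun v => ⟨1, Subtype.ext (by simpa using hA.expo v v.2)⟩
  let M := Nat.card ↥Q * Nat.card V
  let m : Subgroup G → ℕ := fun B => Nat.card B * Nat.card (fix θ V B)
  let Top : Set (Subgroup G) := {B | Q ≤ B ∧ B ≤ S ∧ M ≤ m B}
  have hfixQ : fix θ V Q = V := le_antisymm (fix_le Q) fun v hv =>
    mem_fix_of_conj hv fun a ha => hA.core_fix hv ha
  have hQTop : Q ∈ Top := ⟨le_rfl, hc.le_S, by simp only [m, M, hfixQ, le_refl]⟩
  have hle : ∀ B : Subgroup G, Q ≤ B → B ≤ S → m B ≤ M := fun B h1 h2 => bound hc hA hker h1 h2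
  have hpair : ∀ B₁ ∈ Top, ∀ B₂ ∈ Top, B₁ ⊓ B₂ ∈ Top ∧ B₁ ⊔ B₂ ∈ Top ∧
      fix θ V (B₁ ⊓ B₂) = fix θ V B₁ ⊔ fix θ V B₂ := by
    rintro B₁ ⟨a₁, b₁, e₁⟩ B₂ ⟨a₂, b₂, e₂⟩
    have hi : Q ≤ B₁ ⊓ B₂ := le_inf a₁ a₂
    have hi' : B₁ ⊓ B₂ ≤ (S : Subgroup G) := inf_le_left.trans b₁
    have hs : Q ≤ B₁ ⊔ B₂ := a₁.trans le_sup_left
    have hs' : B₁ ⊔ B₂ ≤ (S : Subgroup G) := sup_le b₁ b₂
    have hI : fix θ V B₁ ⊔ fix θ V B₂ ≤ fix θ V (B₁ ⊓ B₂) :=
      sup_le (fix_anti inf_le_left) (fix_anti inf_le_right)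
    have hpos : 0 < M := Nat.mul_pos Nat.card_pos Nat.card_pos
    have key : M * M ≤ (Nat.card ↥(B₁ ⊓ B₂) * Nat.card ↥(fix θ V B₁ ⊔ fix θ V B₂)) *
        m (B₁ ⊔ B₂) := by
      calc M * M ≤ m B₁ * m B₂ := Nat.mul_le_mul e₁ e₂
        _ = (Nat.card B₁ * Nat.card B₂) * (Nat.card (fix θ V B₁) * Nat.card (fix θ V B₂)) := by ring
        _ ≤ (Nat.card ↥(B₁ ⊓ B₂) * Nat.card ↥(B₁ ⊔ B₂)) *
            (Nat.card ↥(fix θ V B₁ ⊓ fix θ V B₂) * Nat.card ↥(fix θ V B₁ ⊔ fix θ V B₂)) :=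
          Nat.mul_le_mul (card_mul_card_le _ _) (card_mul_card_le _ _)
        _ ≤ (Nat.card ↥(B₁ ⊓ B₂) * Nat.card ↥(B₁ ⊔ B₂)) *
            (Nat.card (fix θ V (B₁ ⊔ B₂)) * Nat.card ↥(fix θ V B₁ ⊔ fix θ V B₂)) :=
          Nat.mul_le_mul_left _ (Nat.mul_le_mul_right _ (card_le_of_le (fix_sup _ _)))
        _ = _ := by ring
    have k1 : M ≤ Nat.card ↥(B₁ ⊓ B₂) * Nat.card ↥(fix θ V B₁ ⊔ fix θ V B₂) :=
      Nat.le_of_mul_le_mul_right (key.trans (Nat.mul_le_mul_left _ (hle _ hs hs'))) hpos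
    have k2 : Nat.card ↥(B₁ ⊓ B₂) * Nat.card ↥(fix θ V B₁ ⊔ fix θ V B₂) ≤ m (B₁ ⊓ B₂) :=
      Nat.mul_le_mul_left _ (card_le_of_le hI)
    have k3 : M ≤ m (B₁ ⊔ B₂) :=
      Nat.le_of_mul_le_mul_left (key.trans (Nat.mul_le_mul_right _ (k2.trans (hle _ hi hi')))) hpos
    exact ⟨⟨hi, hi', k1.trans k2⟩, ⟨hs, hs', k3⟩,
      (eq_of_le_of_card_ge hI (Nat.le_of_mul_le_mul_left ((hle _ hi hi').trans k1) Nat.card_pos)).symm⟩
  let Low : Set (Subgroup G) := {B | Minimal (fun B => B ∈ Top ∧ ¬ B ≤ Q) B}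
  have hquad : ∀ B ∈ Low, ∀ w ∈ V, ∀ b ∈ B, θ b * w * (θ b)⁻¹ * w⁻¹ ∈ fix θ V B := by
    intro B hB w hw b hb
    obtain ⟨⟨⟨hQB', hBS', hm⟩, hBQ⟩, hmin⟩ := hB
    set X : Set H := {y | ∃ a ∈ B, θ a * w * (θ a)⁻¹ * w⁻¹ = y} with hX
    set C₁ := fix θ V B with hC₁
    set Bw := B ⊓ (centralizer X).comap θ with hBw
    have hXV : X ⊆ (V : Set H) := by rintro _ ⟨a, _, rfl⟩; exact hA.conj_sub hw
    have hQw : Q ≤ Bw := le_inf hQB' (hA.triv.trans (comap_mono (centralizer_le hXV)))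
    set T := C₁ ⊔ closure X with hT
    have hTle : T ≤ fix θ V Bw := sup_le (fix_anti inf_le_left)
      ((closure_le _).2 fun y hy => mem_fix.2
        ⟨hXV hy, fun b hb => (mem_centralizer_iff.1 hb.2 y hy).symm⟩)
    let f : ↥B → T ⧸ C₁.subgroupOf T := fun a =>
      QuotientGroup.mk ⟨_, mem_sup_right (subset_closure ⟨a, a.2, rfl⟩)⟩
    have hfib : ∀ a b : B, f a = f b → (a : G)⁻¹ * b ∈ Bw := by
      intro a b hab
      have hab' := QuotientGroup.eq.1 hab
      rw [mem_subgroupOf] at hab'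
      have he : (a : G)⁻¹ * b ∈ B := mul_mem (inv_mem a.2) b.2
      set e : G := (a : G)⁻¹ * b
      have hz : θ e * w * (θ e)⁻¹ * w⁻¹ ∈ C₁ :=
        sub_mem_of_eq (fun z hz => conj_eq_of_mem_fix hz (inv_mem a.2)) hab'
          (hA.comm w hw _ (mul_mem (inv_mem (hA.conj_sub hw)) (hA.conj_sub hw)))
      refine ⟨he, mem_centralizer_iff.2 ?_⟩
      rintro _ ⟨c, hc', rfl⟩
      set z := θ e * w * (θ e)⁻¹ * w⁻¹ with hzdef
      have hcom : ∀ u ∈ V, θ e * (θ c * u * (θ c)⁻¹) * (θ e)⁻¹ =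
          θ c * (θ e * u * (θ e)⁻¹) * (θ c)⁻¹ := fun u hu => by
        have h := hA.core_fix (hA.stable c _ (hA.stable e u hu))
          (hc.comm e (hBS' he) c (hBS' hc'))
        conv_rhs => rw [← h]
        simp only [map_mul, map_inv]
        group
      symm
      refine mul_inv_eq_iff_eq_mul.1 ?_
      rw [show θ e * (θ c * w * (θ c)⁻¹ * w⁻¹) * (θ e)⁻¹ =
        (θ e * (θ c * w * (θ c)⁻¹) * (θ e)⁻¹) * (θ e * w * (θ e)⁻¹)⁻¹ by group, hcom w hw,
        show θ e * w * (θ e)⁻¹ = z * w by rw [hzdef]; group,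
        show θ c * (z * w) * (θ c)⁻¹ = (θ c * z * (θ c)⁻¹) * (θ c * w * (θ c)⁻¹) by group,
        conj_eq_of_mem_fix hz hc',
        hA.comm z hz.1 (θ c * w * (θ c)⁻¹) (hA.stable c w hw), hA.comm z hz.1 w hw]
      group
    have h1 := card_le_of_fibres B Bw f hfib (Equiv.refl _)
    have h2 : m B ≤ Nat.card Bw * Nat.card T := by
      calc m B ≤ Nat.card (T ⧸ C₁.subgroupOf T) * Nat.card Bw * Nat.card C₁ :=
            Nat.mul_le_mul_right _ h1
        _ = _ := by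
            rw [card_eq_card_quotient_mul_card_subgroup (C₁.subgroupOf T),
              Nat.card_congr (subgroupOfEquivOfLe (le_sup_left : C₁ ≤ T)).toEquiv]
            ring
    have hTop : Bw ∈ Top :=
      ⟨hQw, inf_le_left.trans hBS', (hm.trans h2).trans (Nat.mul_le_mul_left _ (card_le_of_le hTle))⟩
    by_cases hwQ : Bw ≤ Q
    · exfalso
      have hBwQ : Bw = Q := le_antisymm hwQ hQw
      rw [hBwQ] at h2 hTle
      have hTV : V ≤ T := (eq_of_le_of_card_ge (hTle.trans (fix_le Q))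
        (Nat.le_of_mul_le_mul_left (hm.trans h2) Nat.card_pos)).ge
      refine exists_not_mem_sup hA hpV (S.isPGroup'.to_le hBS') (fun hVF => hBQ fun x hx => ?_)
        w hw hTV
      exact hkerS ⟨hBS' hx, mem_centralizer_iff.2 fun v hv => ((mem_fix.1 (hVF hv)).2 x hx).symm⟩
    · have hbw : b ∈ Bw := (hmin ⟨hTop, hwQ⟩ inf_le_left) hb
      exact mem_fix.2 ⟨hA.conj_sub hw, fun a ha =>
        (mem_centralizer_iff.1 ((hmin ⟨hTop, hwQ⟩ inf_le_left) ha).2 _ ⟨b, hb, rfl⟩).symm⟩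
  -- commutators of one minimal maximiser are fixed by all the others
  have hcross : ∀ B₁ ∈ Low, ∀ B₂ ∈ Low, ∀ w ∈ V, ∀ b ∈ B₂,
      θ b * w * (θ b)⁻¹ * w⁻¹ ∈ fix θ V B₁ := by
    intro B₁ h₁ B₂ h₂ w hw b hb
    by_cases he : B₁ ⊓ B₂ ≤ Q
    · obtain ⟨-, -, hfx⟩ := hpair B₁ h₁.1.1 B₂ h₂.1.1
      rw [show B₁ ⊓ B₂ = Q from le_antisymm he (le_inf h₁.1.1.1 h₂.1.1.1), hfixQ] at hfx
      haveI : IsMulCommutative V := ⟨⟨fun u v => Subtype.ext (hA.comm u u.2 v v.2)⟩⟩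
      have hw' : w ∈ ((fix θ V B₁ ⊔ fix θ V B₂ : Subgroup H) : Set H) := hfx ▸ hw
      rw [coe_mul_of_left_le_normalizer_right _ _ (fun u hu => mem_normalizer_fintype fun v hv => by
        rw [hA.comm u (fix_le _ hu) v (fix_le _ hv), mul_inv_cancel_right]; exact hv)] at hw'
      obtain ⟨f₁, hf₁, f₂, hf₂, rfl⟩ := hw'
      have e2 := conj_eq_of_mem_fix hf₂ hb
      have hconj : θ b * f₁ * (θ b)⁻¹ ∈ fix θ V B₁ := by
        refine mem_fix_of_conj (hA.stable b f₁ hf₁.1) fun a ha => ?_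
        have h := hA.core_fix (hA.stable b _ (hA.stable a f₁ hf₁.1))
          (hc.comm a (h₁.1.1.2.1 ha) b (h₂.1.1.2.1 hb))
        have e1 := conj_eq_of_mem_fix hf₁ ha
        simp only [map_mul, map_inv] at h
        conv_rhs => rw [← e1, ← h]
        group
      rw [show θ b * (f₁ * f₂) * (θ b)⁻¹ = (θ b * f₁ * (θ b)⁻¹) * (θ b * f₂ * (θ b)⁻¹) by group,
        e2, show θ b * f₁ * (θ b)⁻¹ * f₂ * (f₁ * f₂)⁻¹ = θ b * f₁ * (θ b)⁻¹ * f₁⁻¹ by group]
      exact mul_mem hconj (inv_mem hf₁)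
    · have hT := (hpair B₁ h₁.1.1 B₂ h₂.1.1).1
      have e₁ : B₁ ⊓ B₂ = B₁ := le_antisymm inf_le_left (h₁.2 ⟨hT, he⟩ inf_le_left)
      have e₂ : B₁ ⊓ B₂ = B₂ := le_antisymm inf_le_right (h₂.2 ⟨hT, he⟩ inf_le_right)
      rw [e₁.symm.trans e₂]
      exact hquad B₂ h₂ w hw b hb
  obtain ⟨L₀, hL₀⟩ : ∃ L₀, L₀ ∈ Low := by
    obtain ⟨L₀, -, hL₀⟩ := Finite.exists_le_minimal (p := fun B : Subgroup G => B ∈ Top ∧ ¬ B ≤ Q)
      (a := B₀) ⟨⟨hQB, hBS, hmax⟩, hne⟩
    exact ⟨L₀, hL₀⟩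
  -- the join of the minimal maximisers is `S`
  have hjoin : sSup Low = (S : Subgroup G) ∧ sSup Low ∈ Top := by
    have hTop : ∀ T : Finset (Subgroup G), (∀ B ∈ T, B ∈ Low) → T.sup id ⊔ Q ∈ Top := by
      intro T
      induction T using Finset.induction_on with
      | empty => intro _; simpa using hQTop
      | @insert B T _ ih =>
        intro h
        rw [Finset.sup_insert, id, sup_assoc]
        exact (hpair B (h B (Finset.mem_insert_self _ _)).1.1 _
          (ih fun C hC => h C (Finset.mem_insert_of_mem hC))).2.1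
    let T := (Set.toFinite Low).toFinset
    have hT : sSup Low = T.sup id ⊔ Q := by
      have : Q ≤ sSup Low := hL₀.1.1.1.trans (le_sSup hL₀)
      refine le_antisymm (sSup_le fun B hB => le_sup_of_le_left
        (Finset.le_sup (f := id) ((Set.toFinite Low).mem_toFinset.2 hB))) (sup_le ?_ this)
      exact Finset.sup_le fun B hB => le_sSup ((Set.toFinite Low).mem_toFinset.1 hB)
    have hmem : sSup Low ∈ Top := hT ▸ hTop T fun B hB => (Set.toFinite Low).mem_toFinset.1 hB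
    refine ⟨(hc.irr _ hmem.1 hmem.2.1 fun x hx b hb => ?_).resolve_left fun h =>
      hL₀.1.2 ((le_sSup hL₀).trans h.le), hmem⟩
    have hinv : ∀ y ∈ normalizer ((S : Subgroup G) : Set G), ∀ B ∈ Top,
        B.map (MulAut.conj y).toMonoidHom ∈ Top := by
      rintro y hy B ⟨h1, h2, h3⟩
      refine ⟨fun a ha => ⟨y⁻¹ * a * y, h1 (by simpa using hQn.conj_mem a ha y⁻¹), by
        simp [mul_assoc]⟩, ?_, h3.trans (Nat.mul_le_mul
          (le_of_eq (card_map_of_injective (MulAut.conj y).injective).symm) ?_)⟩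
      · rintro _ ⟨a, ha, rfl⟩
        simpa using (mem_normalizer_iff.1 hy a).1 (h2 ha)
      · refine Nat.card_le_card_of_injective (fun u : fix θ V B =>
          (⟨θ y * u * (θ y)⁻¹, mem_fix_of_conj (hA.stable _ _ u.2.1) ?_⟩ :
            fix θ V (B.map (MulAut.conj y).toMonoidHom))) ?_
        · rintro _ ⟨a, ha, rfl⟩
          have := conj_eq_of_mem_fix u.2 ha
          rw [show (MulAut.conj y).toMonoidHom a = y * a * y⁻¹ from rfl, map_mul, map_mul,
            map_inv θ y]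
          conv_rhs => rw [← this]
          group
        · intro u u' huu
          exact Subtype.ext (mul_left_cancel (mul_right_cancel (congrArg Subtype.val huu)))
    have hsub : sSup Low ≤ (sSup Low).comap (MulAut.conj x).toMonoidHom := by
      refine sSup_le fun B hB => map_le_iff_le_comap.1 (le_sSup ⟨⟨hinv x hx B hB.1.1, fun h => ?_⟩,
        fun C hC hle' => ?_⟩)
      · refine hB.1.2 fun a ha => ?_
        have := hQn.conj_mem _ (h ⟨a, ha, rfl⟩) x⁻¹
        simpa [mul_assoc] using this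
      · have hC' := hinv x⁻¹ (inv_mem hx) C hC.1
        have hCle : C.map (MulAut.conj x⁻¹).toMonoidHom ≤ B := by
          rintro _ ⟨a, ha, rfl⟩
          obtain ⟨b', hb', rfl⟩ := hle' ha
          simpa [mul_assoc] using hb'
        have hCQ : ¬ C.map (MulAut.conj x⁻¹).toMonoidHom ≤ Q := fun h => hC.2 fun a ha => by
          have := hQn.conj_mem _ (h ⟨a, ha, rfl⟩) x
          simpa [mul_assoc] using this
        rintro _ ⟨b', hb', rfl⟩
        obtain ⟨a, ha, he⟩ := hB.2 ⟨hC', hCQ⟩ hCle hb'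
        rw [← he]
        simpa [mul_assoc] using ha
    exact hsub hb
  obtain ⟨hS, hTopS⟩ := hjoin
  have hquadS : ∀ w ∈ V, ∀ a ∈ (S : Subgroup G), θ a * w * (θ a)⁻¹ * w⁻¹ ∈ fix θ V S := by
    have hlow : ∀ B ∈ Low, ∀ w ∈ V, ∀ b ∈ B, θ b * w * (θ b)⁻¹ * w⁻¹ ∈ fix θ V S := by
      intro B hB w hw b hb
      refine mem_fix_of_conj (hA.conj_sub hw) fun s hs => ?_
      have hle' : sSup Low ≤ (centralizer {θ b * w * (θ b)⁻¹ * w⁻¹}).comap θ := sSup_le fun C hC a ha =>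
        mem_centralizer_singleton_iff.2 ((mem_fix.1 (hcross C hC B hB w hw b hb)).2 a ha)
      rw [mem_centralizer_singleton_iff.1 (hle' (hS.symm ▸ hs)), mul_inv_cancel_right]
    let P : Subgroup G :=
      { carrier := {g | g ∈ (S : Subgroup G) ∧
          ∀ w ∈ V, θ g * w * (θ g)⁻¹ * w⁻¹ ∈ fix θ V (S : Subgroup G)}
        one_mem' := ⟨one_mem _, fun w _ => by simp⟩
        mul_mem' := fun {g h} hg hh => ⟨mul_mem hg.1 hh.1, fun w hw => by
          have e := conj_eq_of_mem_fix (hh.2 w hw) hg.1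
          rw [map_mul, show θ g * θ h * w * (θ g * θ h)⁻¹ * w⁻¹ =
            (θ g * (θ h * w * (θ h)⁻¹ * w⁻¹) * (θ g)⁻¹) * (θ g * w * (θ g)⁻¹ * w⁻¹) by group, e]
          exact mul_mem (hh.2 w hw) (hg.2 w hw)⟩
        inv_mem' := fun {g} hg => ⟨inv_mem hg.1, fun w hw => by
          have e := conj_eq_of_mem_fix (inv_mem (hg.2 w hw)) (inv_mem hg.1)
          rw [map_inv θ g] at e
          rw [map_inv, show (θ g)⁻¹ * w * (θ g)⁻¹⁻¹ * w⁻¹ =
            (θ g)⁻¹ * (θ g * w * (θ g)⁻¹ * w⁻¹)⁻¹ * (θ g)⁻¹⁻¹ by group, e]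
          exact inv_mem (hg.2 w hw)⟩ }
    have hP : sSup Low ≤ P := sSup_le fun B hB b hb =>
      ⟨hB.1.1.2.1 hb, fun w hw => hlow B hB w hw b hb⟩
    exact fun w hw a ha => (hP (hS.symm ▸ ha)).2 w hw
  have hmS : m (S : Subgroup G) = M :=
    le_antisymm (hle _ hc.le_S le_rfl) (hS ▸ hTopS.2.2)
  refine ⟨hmS, fun X hXS hXQ => ?_, hquadS⟩
  obtain ⟨h1, C₂, hC₂V, h3, h4⟩ := quadratic_facts hc hA hker hquadS
  obtain ⟨s, hsX, hsQ⟩ := SetLike.not_le_iff_exists.1 hXQ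
  have h5 := (card_mul_card_le (fix θ V X) C₂).trans (Nat.mul_le_mul
    (card_le_of_le (h4 X ⟨s, hXS hsX, hsQ, hsX⟩)) (card_le_of_le (sup_le (fix_le _) hC₂V)))
  rw [h3] at h5
  set C₁ := fix θ V (S : Subgroup G)
  set Z := fix θ V (⊤ : Subgroup G)
  have hpos : 0 < Nat.card ↥Q := Nat.card_pos
  have h6 : Nat.card Z * Nat.card V ≤ Nat.card C₁ * Nat.card C₁ := by
    refine Nat.le_of_mul_le_mul_left ?_ hpos
    calc Nat.card ↥Q * (Nat.card Z * Nat.card V) = Nat.card Z * M := by simp only [M]; ring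
      _ = Nat.card Z * m (S : Subgroup G) := by rw [hmS]
      _ = Nat.card (S : Subgroup G) * Nat.card Z * Nat.card C₁ := by simp only [m]; ring
      _ ≤ Nat.card C₁ * Nat.card ↥Q * Nat.card C₁ := Nat.mul_le_mul_right _ h1
      _ = _ := by ring
  exact (eq_of_le_of_card_ge (fix_anti hXS)
    (Nat.le_of_mul_le_mul_right (h5.trans h6) Nat.card_pos)).symm

theorem sharp (hc : Core p S) (hA : Action θ V p)
    (hker : (centralizer (V : Set H)).comap θ ⊔ S ≠ ⊤) {B₀ : Subgroup G}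
    (hQB : Cfsg.pCore p G ≤ B₀) (hBS : B₀ ≤ S) (hne : ¬ B₀ ≤ Cfsg.pCore p G)
    (hmax : Nat.card ↥(Cfsg.pCore p G) * Nat.card V ≤ Nat.card B₀ * Nat.card (fix θ V B₀)) :
    Nat.card (S : Subgroup G) * Nat.card (fix θ V (S : Subgroup G)) =
        Nat.card ↥(Cfsg.pCore p G) * Nat.card V ∧
      ∀ X : Subgroup G, X ≤ S → ¬ X ≤ Cfsg.pCore p G → fix θ V X = fix θ V (S : Subgroup G) :=
  ⟨(sharp' hc hA hker hQB hBS hne hmax).1, (sharp' hc hA hker hQB hBS hne hmax).2.1⟩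

end CfsgLib.PushL2
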