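import Cfsg.Agent.PushL2.Maximiser
import Cfsg.Agent.PushL2.Thompson
import Cfsg.Agent.PushL2.Ctx

/-!
First consequences of "no nontrivial characteristic subgroup of `S` is normal" over `PSL₂(q)`.
-/

set_option autoImplicit false
set_option linter.unusedSectionVars false
set_option linter.style.haveILetI false

namespace CfsgLib.PushL2

open Subgroup

variable {G : Type*} [Group G] [Finite G] {p : ℕ} [Fact p.Prime]

/-! ### Automorphisms of `S` as maps on `G` -/

section Ap

variable {S : Subgroup G} (α : ↥S ≃* ↥S)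

open Classical in
/-- An automorphism of a subgroup, continued by the identity. -/
noncomputable def ap (x : G) : G := if h : x ∈ S then (α ⟨x, h⟩ : G) else x

theorem ap_eq {x : G} (h : x ∈ S) : ap α x = (α ⟨x, h⟩ : G) := dif_pos h

theorem ap_mem {x : G} (h : x ∈ S) : ap α x ∈ S := by rw [ap_eq α h]; exact (α _).2

theorem ap_one : ap α 1 = 1 := by
  rw [ap_eq α (one_mem S)]
  exact congrArg Subtype.val (map_one α)

theorem ap_mul {x y : G} (hx : x ∈ S) (hy : y ∈ S) : ap α (x * y) = ap α x * ap α y := by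
  rw [ap_eq α (mul_mem hx hy), ap_eq α hx, ap_eq α hy, ← Subgroup.coe_mul, ← map_mul]
  rfl

theorem ap_inv {x : G} (hx : x ∈ S) : ap α x⁻¹ = (ap α x)⁻¹ := by
  rw [ap_eq α (inv_mem hx), ap_eq α hx, ← Subgroup.coe_inv, ← map_inv]
  rfl

theorem ap_pow {x : G} (hx : x ∈ S) (n : ℕ) : ap α (x ^ n) = ap α x ^ n := by
  induction n with
  | zero => simp [ap_one]
  | succ n ih => rw [pow_succ, ap_mul α (pow_mem hx n) hx, ih, pow_succ]

theorem ap_symm {x : G} (hx : x ∈ S) : ap α.symm (ap α x) = x := by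
  rw [ap_eq α hx, ap_eq α.symm (α _).2, Subtype.coe_eta, MulEquiv.symm_apply_apply]

theorem symm_ap {x : G} (hx : x ∈ S) : ap α (ap α.symm x) = x := by
  have := ap_symm α.symm hx
  rwa [MulEquiv.symm_symm] at this

theorem ap_comm {x y : G} (hx : x ∈ S) (hy : y ∈ S) (h : x * y = y * x) :
    ap α x * ap α y = ap α y * ap α x := by
  rw [← ap_mul α hx hy, h, ap_mul α hy hx]

/-- The image of a subgroup. -/
def img (T : Subgroup G) : Subgroup G := ((T.subgroupOf S).map α.toMonoidHom).map S.subtype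

theorem mem_img {T : Subgroup G} {y : G} : y ∈ img α T ↔ ∃ x ∈ T, x ∈ S ∧ ap α x = y := by
  constructor
  · rintro ⟨_, ⟨x, hx, rfl⟩, rfl⟩
    exact ⟨x, hx, x.2, ap_eq α x.2⟩
  · rintro ⟨x, hx, hxS, rfl⟩
    exact ⟨_, ⟨⟨x, hxS⟩, hx, rfl⟩, (ap_eq α hxS).symm⟩

theorem ap_mem_img {T : Subgroup G} {x : G} (hx : x ∈ T) (hxS : x ∈ S) : ap α x ∈ img α T :=
  (mem_img α).2 ⟨x, hx, hxS, rfl⟩

theorem img_le (T : Subgroup G) : img α T ≤ S := by
  intro y hy
  obtain ⟨x, -, hx, rfl⟩ := (mem_img α).1 hy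
  exact ap_mem α hx

theorem card_img {T : Subgroup G} (hT : T ≤ S) : Nat.card (img α T) = Nat.card T := by
  rw [img, card_map_of_injective S.subtype_injective, card_map_of_injective α.injective,
    Nat.card_congr (subgroupOfEquivOfLe hT).toEquiv]

theorem img_mono {T T' : Subgroup G} (h : T ≤ T') : img α T ≤ img α T' :=
  map_mono (map_mono (comap_mono h))

theorem img_symm {T : Subgroup G} (hT : T ≤ S) : img α.symm (img α T) = T := by
  ext y
  constructor
  · intro hy
    obtain ⟨x, hx, -, rfl⟩ := (mem_img _).1 hy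
    obtain ⟨z, hz, hzS, rfl⟩ := (mem_img _).1 hx
    rwa [ap_symm α hzS]
  · intro hy
    rw [← ap_symm α (hT hy)]
    exact ap_mem_img _ (ap_mem_img _ hy (hT hy)) (ap_mem α (hT hy))

end Ap

/-- `C_V(S)` for `V = Ω₁Z(O_p(G))`. -/
abbrev zs (S : Sylow p G) : Subgroup G := fix (MonoidHom.id G) (omega p G) (S : Subgroup G)

/-- `C_V(G)`. -/
abbrev z0 (p : ℕ) (G : Type*) [Group G] [Finite G] : Subgroup G :=
  fix (MonoidHom.id G) (omega p G) (⊤ : Subgroup G)

/-- A subgroup of `S` left invariant by all automorphisms of `S` and normal in `G` is trivial. -/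
def NoCharNormal (S : Sylow p G) : Prop :=
  ∀ T : Subgroup G, T ≤ (S : Subgroup G) →
    (∀ α : ↥(S : Subgroup G) ≃* ↥(S : Subgroup G), ∀ x ∈ T, ap α x ∈ T) → T.Normal → T = ⊥

theorem noCharNormal_of {S : Sylow p G}
    (hd : ∀ T : Subgroup ↥(S : Subgroup G), T ≠ ⊥ → T.Characteristic →
      ¬ (T.map (S : Subgroup G).subtype).Normal) : NoCharNormal S := by
  intro T hT hinv hn
  by_contra hne
  have e : (T.subgroupOf (S : Subgroup G)).map (S : Subgroup G).subtype = T := by
    rw [subgroupOf_map_subtype, inf_of_le_left hT]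
  refine hd (T.subgroupOf (S : Subgroup G)) (fun h => hne ?_) ?_ (e.symm ▸ hn)
  · rw [← e, h, Subgroup.map_bot]
  · refine characteristic_iff_le_comap.2 fun α x hx => ?_
    have := hinv α x hx
    rwa [ap_eq α x.2] at this

/-- The standing hypotheses on one group: `Z(S)` is not central and `J(S) ≰ O_p(G)`. -/
structure Std (p : ℕ) [Fact p.Prime] (S : Sylow p G) (q : ℕ) (M : Subgroup G) : Prop where
  core : Core p S
  ctx : Ctx p S q M
  hZ : ¬ centerIn (S : Subgroup G) ≤ center G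
  fixX : ∀ X : Subgroup G, X ≤ S → ¬ X ≤ Cfsg.pCore p G →
    fix (MonoidHom.id G) (omega p G) X = zs S
  quad : ∀ v ∈ omega p G, ∀ s ∈ (S : Subgroup G), s * v * s⁻¹ * v⁻¹ ∈ zs S
  card_zs : Nat.card (zs S) = q * Nat.card (z0 p G)
  card_V : Nat.card (omega p G) = q * Nat.card (zs S)
  inf_conj : ∀ h, h ∉ M → zs S ⊓ (zs S).map (MulAut.conj h).toMonoidHom = z0 p G
  sup_conj : ∀ h, h ∉ M → zs S ⊔ (zs S).map (MulAut.conj h).toMonoidHom = omega p G

/-- The standing hypotheses when no nontrivial characteristic subgroup of `S` is normal. -/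
structure NoChar (p : ℕ) [Fact p.Prime] (S : Sylow p G) (q : ℕ) (M : Subgroup G) : Prop
    extends Std p S q M where
  nochar : NoCharNormal S

theorem zs_le_V {S : Sylow p G} : zs S ≤ omega p G := fix_le _

theorem z0_le_zs {S : Sylow p G} : z0 p G ≤ zs S := fix_anti le_top

theorem z0_central {z : G} (hz : z ∈ z0 p G) (g : G) : g * z = z * g :=
  (mem_fix.1 hz).2 g (mem_top g)

theorem mem_zs {S : Sylow p G} (hc : Core p S) {x : G} :
    x ∈ zs S ↔ x ∈ (S : Subgroup G) ∧ x ^ p = 1 ∧ ∀ s ∈ (S : Subgroup G), s * x = x * s := by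
  constructor
  · exact fun h => ⟨hc.le_S (omega_le h.1), h.1.2, (mem_fix.1 h).2⟩
  · rintro ⟨hxS, hxp, hx⟩
    exact mem_fix.2 ⟨⟨centerIn_le_coreCenter S hc ⟨hxS, mem_centralizer_iff.2 hx⟩, hxp⟩, hx⟩

theorem zs_inv {S : Sylow p G} (hc : Core p S) (α : ↥(S : Subgroup G) ≃* ↥(S : Subgroup G))
    {x : G} (hx : x ∈ zs S) : ap α x ∈ zs S := by
  obtain ⟨hxS, hxp, hx⟩ := (mem_zs hc).1 hx
  refine (mem_zs hc).2 ⟨ap_mem α hxS, by rw [← ap_pow α hxS, hxp, ap_one], fun s hs => ?_⟩
  have := ap_comm α (ap_mem α.symm hs) hxS (hx _ (ap_mem α.symm hs))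
  rwa [symm_ap α hs] at this

theorem img_zs {S : Sylow p G} (hc : Core p S) (α : ↥(S : Subgroup G) ≃* ↥(S : Subgroup G)) :
    img α (zs S) = zs S := by
  refine le_antisymm (fun y hy => ?_) fun y hy => ?_
  · obtain ⟨x, hx, -, rfl⟩ := (mem_img α).1 hy
    exact zs_inv hc α hx
  · have hy' := zs_inv hc α.symm hy
    rw [← symm_ap α ((mem_zs hc).1 hy).1]
    exact ap_mem_img α hy' ((mem_zs hc).1 hy').1

theorem jOf_not_le {S : Sylow p G} (hc : Core p S) (hn : NoCharNormal S) :
    ¬ jOf (S : Subgroup G) ≤ Cfsg.pCore p G := by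
  intro hJ
  have hSne : (S : Subgroup G) ≠ ⊥ := fun h => hc.ne (h ▸ bot_le)
  have hbot : jOf (S : Subgroup G) = ⊥ := by
    refine hn _ (jOf_le _) (fun α x hx => ?_) ⟨fun x hx g => ?_⟩
    · have hle : img α (jOf (S : Subgroup G)) ≤ jOf (S : Subgroup G) := by
        refine map_le_iff_le_comap.2 (map_le_iff_le_comap.2 ?_)
        intro z hz
        have hle' : jOf (S : Subgroup G) ≤ ((jOf (S : Subgroup G)).comap
            ((S : Subgroup G).subtype.comp α.toMonoidHom)).map (S : Subgroup G).subtype := by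
          refine sSup_le fun A hA a ha => ⟨⟨a, hA.2.1 ha⟩, ?_, rfl⟩
          have hA' : img α A ∈ fa (S : Subgroup G) := by
            refine ⟨⟨⟨fun u v => Subtype.ext ?_⟩⟩, img_le α A, fun B hB hBS => ?_⟩
            · obtain ⟨u', hu', huS, hu⟩ := (mem_img α).1 u.2
              obtain ⟨v', hv', hvS, hv⟩ := (mem_img α).1 v.2
              show (u : G) * v = v * u
              rw [← hu, ← hv]
              exact ap_comm α huS hvS (fa_comm hA hu' hv')
            · rw [card_img α hA.2.1]; exact hA.2.2 B hB hBS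
          show ((α ⟨a, hA.2.1 ha⟩ : ↥(S : Subgroup G)) : G) ∈ jOf (S : Subgroup G)
          rw [← ap_eq α (hA.2.1 ha)]
          exact le_sSup hA' (ap_mem_img α ha (hA.2.1 ha))
        obtain ⟨w, hw, he⟩ := hle' hz
        rw [(S : Subgroup G).subtype_injective he] at hw
        exact hw
      exact hle (ap_mem_img α hx (jOf_le _ hx))
    · have hle : jOf (S : Subgroup G) ≤ (jOf (S : Subgroup G)).comap (MulAut.conj g).toMonoidHom :=
        sSup_le fun A hA => map_le_iff_le_comap.1 (le_sSup (fa_conj hA g fun a ha =>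
          hc.le_S (pCore_isNormal.conj_mem a (hJ (le_sSup hA ha)) g)))
      exact hle hx
  obtain ⟨A, hA⟩ := CfsgLib.ZJ.exists_fam CfsgLib.ZJ.admissible_abelian (S : Subgroup G)
  obtain ⟨s, hs, hsQ⟩ := SetLike.not_le_iff_exists.1 hc.ne
  haveI := Subgroup.isMulCommutative_closure (k := {s}) (by simp)
  have hle := hA.2.2 (closure {s}) inferInstance ((closure_le _).2 (Set.singleton_subset_iff.2 hs))
  rw [eq_bot_iff.2 ((le_sSup hA : A ≤ jOf (S : Subgroup G)).trans hbot.le), Subgroup.card_bot] at hle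
  have := (closure {s}).eq_bot_of_card_le hle
  exact hsQ ((Subgroup.closure_eq_bot_iff.1 this) rfl ▸ one_mem _)

/-- First consequences of `Z(S) ≰ Z(G)` and `J(S) ≰ O_p(G)`. -/
theorem std {S : Sylow p G} {q : ℕ} {M : Subgroup G} (hc : Core p S) (hx : Ctx p S q M)
    (hZ : ¬ centerIn (S : Subgroup G) ≤ center G)
    (hJ : ¬ jOf (S : Subgroup G) ≤ Cfsg.pCore p G) : Std p S q M := by
  obtain ⟨A, hA, hAQ⟩ : ∃ A ∈ fa (S : Subgroup G), ¬ A ≤ Cfsg.pCore p G := by
    by_contra hall
    push Not at hall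
    exact hJ (sSup_le hall)
  obtain ⟨-, -, heq⟩ := prime'_spec hc hZ hA
  have hker : (centralizer (omega p G : Set G)).comap (MonoidHom.id G) ⊔ S ≠ ⊤ := by
    simpa using centralizer_omega_sup_ne hc hZ
  have hmax : Nat.card ↥(Cfsg.pCore p G) * Nat.card (omega p G) ≤
      Nat.card ↥(A ⊔ Cfsg.pCore p G) *
        Nat.card (fix (MonoidHom.id G) (omega p G) (A ⊔ Cfsg.pCore p G)) := by
    have h2 := card_sup_mul_inf (Cfsg.pCore p G) A
    rw [sup_comm, inf_comm] at h2
    have h3 : Nat.card ↥(omega p G ⊓ A) ≤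
        Nat.card (fix (MonoidHom.id G) (omega p G) (A ⊔ Cfsg.pCore p G)) :=
      card_le_of_le (le_trans (fun v (hv : v ∈ omega p G ⊓ A) =>
        mem_fix.2 ⟨hv.1, fun b hb => fa_comm hA hb hv.2⟩) (fix_sup_core omega_action A))
    refine le_trans (le_of_eq ?_) (Nat.mul_le_mul_left _ h3)
    refine Nat.eq_of_mul_eq_mul_right (Nat.card_pos (α := ↥(A ⊓ Cfsg.pCore p G))) ?_
    rw [mul_right_comm (Nat.card ↥(A ⊔ _)), h2, mul_assoc (Nat.card ↥(Cfsg.pCore p G)) _
      (Nat.card ↥(omega p G ⊓ A)), heq]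
    ring
  obtain ⟨hS, hfix, hquad⟩ := sharp' hc omega_action hker le_sup_right (core_sup_le hc hA)
    (fun h => hAQ (le_sup_left.trans h)) hmax
  have hcV : Nat.card (omega p G) = q * Nat.card (zs S) := by
    refine Nat.eq_of_mul_eq_mul_left (Nat.card_pos (α := ↥(Cfsg.pCore p G))) ?_
    rw [← hS, hx.card_S]
    ring
  obtain ⟨hq1, -⟩ := quadratic_facts hc omega_action hker hquad
  obtain ⟨s, hs, hsQ⟩ := SetLike.not_le_iff_exists.1 hc.ne
  have hinf : ∀ h, h ∉ M → zs S ⊓ (zs S).map (MulAut.conj h).toMonoidHom = z0 p G := by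
    intro h hh
    refine le_antisymm ?_ fun z hz => ⟨z0_le_zs hz, ⟨z, z0_le_zs hz, ?_⟩⟩
    · rintro v ⟨hv, w, hw, rfl⟩
      refine mem_fix.2 ⟨hv.1, fun b _ => ?_⟩
      have htop : centralizer {(MulAut.conj h).toMonoidHom w} = ⊤ := by
        refine hx.gen h hh _ (fun t ht => mem_centralizer_singleton_iff.2 ?_)
          ⟨s, hs, hsQ, mem_centralizer_singleton_iff.2 ((mem_fix.1 hv).2 s hs)⟩
        have := (mem_fix.1 hw).2 t ht
        simp only [MonoidHom.id_apply] at this
        simp only [MulEquiv.coe_toMonoidHom, MulAut.conj_apply]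
        rw [show h * t * h⁻¹ * (h * w * h⁻¹) = h * (t * w) * h⁻¹ by group, this]
        group
      exact mem_centralizer_singleton_iff.1
        (show b ∈ centralizer {(MulAut.conj h).toMonoidHom w} by rw [htop]; exact mem_top b)
    · simp [z0_central hz h]
  obtain ⟨h₀, hh₀⟩ : ∃ h, h ∉ M := by
    by_contra hall
    push Not at hall
    exact hx.top (top_le_iff.1 fun g _ => hall g)
  have hle : ∀ h, zs S ⊔ (zs S).map (MulAut.conj h).toMonoidHom ≤ omega p G := fun h =>
    sup_le zs_le_V fun v hv => by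
      obtain ⟨w, hw, rfl⟩ := hv
      exact omega_normal.conj_mem w hw.1 h
  have hcard : ∀ h, h ∉ M → Nat.card (zs S) * Nat.card (zs S) ≤
      Nat.card (z0 p G) * Nat.card ↥(zs S ⊔ (zs S).map (MulAut.conj h).toMonoidHom) := fun h hh => by
    have := card_mul_card_le (zs S) ((zs S).map (MulAut.conj h).toMonoidHom)
    rwa [hinf h hh, card_map_of_injective (MulAut.conj h).injective] at this
  have hcz : Nat.card (zs S) = q * Nat.card (z0 p G) := by
    refine le_antisymm ?_ ?_
    · refine Nat.le_of_mul_le_mul_right ?_ (Nat.card_pos (α := ↥(zs S)))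
      calc Nat.card (zs S) * Nat.card (zs S)
          ≤ Nat.card (z0 p G) * Nat.card (omega p G) :=
            (hcard h₀ hh₀).trans (Nat.mul_le_mul_left _ (card_le_of_le (hle h₀)))
        _ = _ := by rw [hcV]; ring
    · refine Nat.le_of_mul_le_mul_right ?_ (Nat.card_pos (α := ↥(Cfsg.pCore p G)))
      calc q * Nat.card (z0 p G) * Nat.card ↥(Cfsg.pCore p G)
          = Nat.card (S : Subgroup G) * Nat.card (z0 p G) := by rw [hx.card_S]; ring
        _ ≤ _ := hq1
  refine ⟨hc, hx, hZ, hfix, fun v hv t ht => hquad v hv t ht, hcz, hcV, hinf, fun h hh => ?_⟩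
  refine eq_of_le_of_card_ge (hle h)
    (Nat.le_of_mul_le_mul_left (le_trans (le_of_eq ?_) (hcard h hh)) Nat.card_pos)
  calc Nat.card (z0 p G) * Nat.card (omega p G)
      = q * Nat.card (z0 p G) * Nat.card (zs S) := by rw [hcV]; ring
    _ = _ := by rw [← hcz]

/-- **First consequences.** -/
theorem noChar {S : Sylow p G} {q : ℕ} {M : Subgroup G} (hc : Core p S) (hx : Ctx p S q M)
    (hn : NoCharNormal S) : NoChar p S q M := by
  have hZ : ¬ centerIn (S : Subgroup G) ≤ center G := by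
    intro h
    have hbot : centerIn (S : Subgroup G) = ⊥ := by
      refine hn _ inf_le_left (fun α x hx' => ⟨ap_mem α hx'.1, mem_centralizer_iff.2 fun s hs => ?_⟩)
        (normal_of_le_center h)
      have := ap_comm α (ap_mem α.symm hs) hx'.1
        (mem_centralizer_iff.1 hx'.2 _ (ap_mem α.symm hs))
      rwa [symm_ap α hs] at this
    haveI : Nontrivial ↥(S : Subgroup G) :=
      (Subgroup.nontrivial_iff_ne_bot _).2 fun h => hc.ne (h ▸ bot_le)
    haveI := S.isPGroup'.center_nontrivial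
    obtain ⟨z, hz⟩ := exists_ne (1 : center ↥(S : Subgroup G))
    refine hz (Subtype.ext (Subtype.ext ?_))
    have hmem : ((z : ↥(S : Subgroup G)) : G) ∈ centerIn (S : Subgroup G) :=
      ⟨SetLike.coe_mem _, mem_centralizer_iff.2 fun s hs =>
        congrArg Subtype.val (mem_center_iff.1 z.2 ⟨s, hs⟩)⟩
    rw [hbot, mem_bot] at hmem
    simpa using hmem
  exact ⟨std hc hx hZ (jOf_not_le hc hn), hn⟩

variable {S : Sylow p G} {q : ℕ} {M : Subgroup G}

namespace Std

theorem not_mem_inv {h : G} (hh : h ∉ M) : h⁻¹ ∉ M := fun h' => hh (inv_inv h ▸ M.inv_mem h')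

theorem exists_not_mem (N : Std p S q M) : ∃ h, h ∉ M := by
  by_contra hall
  push Not at hall
  exact N.ctx.top (top_le_iff.1 fun g _ => hall g)

theorem commute_conj_mem (N : Std p S q M) {x : G} (hx : x ∈ (S : Subgroup G))
    (h : ∀ v ∈ omega p G, x * v = v * x) : x ∈ Cfsg.pCore p G :=
  inf_centralizer_omega_le N.core N.hZ ⟨hx, mem_centralizer_iff.2 fun v hv => (h v hv).symm⟩

/-- An element of `V` fixed by one element of `S` outside `O_p(G)` is fixed by `S`. -/
theorem mem_zs_of_commute (N : Std p S q M) {x v : G} (hx : x ∈ (S : Subgroup G))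
    (hxQ : x ∉ Cfsg.pCore p G) (hv : v ∈ omega p G) (h : x * v = v * x) : v ∈ zs S := by
  rw [← N.fixX (zpowers x) (zpowers_le.2 hx) fun hle => hxQ (hle (mem_zpowers x))]
  refine mem_fix.2 ⟨hv, ?_⟩
  rintro _ ⟨k, rfl⟩
  exact (show Commute x v from h).zpow_left k

theorem zs_ne_V (N : Std p S q M) : ¬ omega p G ≤ zs S := by
  intro h
  have := card_le_of_le h
  rw [N.card_V] at this
  have h1 := N.ctx.one_lt
  have h2 : 0 < Nat.card (zs S) := Nat.card_pos
  nlinarith

end Std

namespace NoChar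

/-- A subgroup of `S` invariant under automorphisms and normalised by the `p'`-elements is trivial. -/
theorem eq_bot (N : NoChar p S q M) {T : Subgroup G} (hT : T ≤ (S : Subgroup G))
    (hinv : ∀ α : ↥(S : Subgroup G) ≃* ↥(S : Subgroup G), ∀ x ∈ T, ap α x ∈ T)
    (hcop : ∀ g : G, (orderOf g).Coprime p → ∀ x ∈ T, g * x * g⁻¹ ∈ T) : T = ⊥ := by
  refine N.nochar T hT hinv (normalizer_eq_top_iff.1 (eq_top_of_coprime S (fun s hs => ?_)
    fun g hg => mem_normalizer_fintype (hcop g hg)))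
  refine mem_normalizer_fintype fun x hx => ?_
  have := hinv (MulAut.conj ⟨s, hs⟩) x hx
  rw [ap_eq _ (hT hx)] at this
  simpa using this

end NoChar

end CfsgLib.PushL2
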