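import Cfsg.Agent.PushL2.PairMain
import Cfsg.Agent.PushL2.Cases

/-!
Pairs of characteristic subgroups of a `p`-group serving every group over it with quotient
`PSL₂(q)`, and what `S` is when there is none.
-/

set_option autoImplicit false
set_option linter.unusedSectionVars false
set_option linter.unusedVariables false
set_option linter.style.haveILetI false
set_option maxHeartbeats 400000

universe u

namespace CfsgLib.PushL2.Pair

open Subgroup
open scoped commutatorElement Pointwise
open CfsgLib.LocalB.CD (C CL Large m le_C_iff C_antitone C_sup le_CC)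

section Equiv

variable {A B : Type*} [Group A] [Group B] (e : A ≃* B)

theorem C_map_equiv (X : Subgroup A) : C (X.map e.toMonoidHom) = (C X).map e.toMonoidHom := by
  ext y
  obtain ⟨x, rfl⟩ := e.surjective y
  rw [show e x = e.toMonoidHom x from rfl, mem_map_iff_mem e.injective, mem_centralizer_iff,
    mem_centralizer_iff]
  constructor
  · intro h a ha
    exact e.injective (by simpa using h _ (mem_map_of_mem e.toMonoidHom ha))
  · rintro h _ ⟨a, ha, rfl⟩
    simp only [MulEquiv.coe_toMonoidHom, ← map_mul, h a ha]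

theorem m_map_equiv (X : Subgroup A) : m (X.map e.toMonoidHom) = m X := by
  unfold LocalB.CD.m
  rw [C_map_equiv, card_map_of_injective e.injective, card_map_of_injective e.injective]

theorem large_map_equiv {X : Subgroup A} (h : Large X) : Large (X.map e.toMonoidHom) := by
  intro Y
  obtain ⟨Y, rfl⟩ : ∃ Z : Subgroup A, Z.map e.toMonoidHom = Y :=
    ⟨Y.comap e.toMonoidHom, map_comap_eq_self_of_surjective e.surjective Y⟩
  rw [m_map_equiv, m_map_equiv]
  exact h Y

theorem cl_map_equiv {X : Subgroup A} (h : CL X) : CL (X.map e.toMonoidHom) :=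
  ⟨large_map_equiv e h.1, (C_map_equiv e X).le.trans (map_mono h.2)⟩

variable [Finite A] [Finite B]

theorem minimal_map_equiv {R : Subgroup A} (hR : Cfsg.IsMinimalCentrallyLarge R) :
    Cfsg.IsMinimalCentrallyLarge (R.map e.toMonoidHom) := by
  refine ⟨LocalB.CD.isCentrallyLarge_iff.2 (cl_map_equiv e (LocalB.CD.isCentrallyLarge_iff.1 hR.1)),
    fun T hT hTc => ?_⟩
  obtain ⟨T, rfl⟩ : ∃ Z : Subgroup A, Z.map e.toMonoidHom = T :=
    ⟨T.comap e.toMonoidHom, map_comap_eq_self_of_surjective e.surjective T⟩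
  have h1 : CL T := by
    have := cl_map_equiv e.symm (LocalB.CD.isCentrallyLarge_iff.1 hTc)
    rwa [map_map, show e.symm.toMonoidHom.comp e.toMonoidHom = MonoidHom.id A from
      MonoidHom.ext fun x => e.symm_apply_apply x, Subgroup.map_id] at this
  rw [hR.2 T ((map_le_map_iff_of_injective e.injective).1 hT)
    (LocalB.CD.isCentrallyLarge_iff.2 h1)]

theorem omegaCenter_map_equiv (p : ℕ) (R : Subgroup A) :
    Cfsg.omegaOneCenter p (R.map e.toMonoidHom) = (Cfsg.omegaOneCenter p R).map e.toMonoidHom := by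
  ext y
  obtain ⟨x, rfl⟩ := e.surjective y
  rw [mem_omegaOneCenter, C_map_equiv e R, show e x = e.toMonoidHom x from rfl,
    mem_map_iff_mem e.injective, mem_omegaOneCenter, ← Subgroup.map_inf _ _ _ e.injective,
    mem_map_iff_mem e.injective, ← map_pow, map_eq_one_iff e.toMonoidHom e.injective]

theorem maxMinimal_map_equiv {p : ℕ} {R : Subgroup A} (hR : MaxMinimal p R) :
    MaxMinimal p (R.map e.toMonoidHom) := by
  refine ⟨minimal_map_equiv e hR.1, fun R' hR' => ?_⟩
  have h := hR.2 _ (minimal_map_equiv e.symm hR')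
  rwa [omegaCenter_map_equiv, card_map_of_injective e.symm.injective,
    ← card_map_of_injective (f := e.toMonoidHom) (K := Cfsg.omegaOneCenter p R) e.injective,
    ← omegaCenter_map_equiv] at h

theorem minimalJoin_map :
    (Cfsg.minimalCentrallyLargeJoin A).map e.toMonoidHom = Cfsg.minimalCentrallyLargeJoin B := by
  refine le_antisymm (map_le_iff_le_comap.2 (sSup_le fun R hR =>
    map_le_iff_le_comap.1 (le_sSup (minimal_map_equiv e hR)))) (sSup_le fun R hR y hy => ?_)
  exact ⟨e.symm y, (le_sSup (minimal_map_equiv e.symm hR) :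
    _ ≤ Cfsg.minimalCentrallyLargeJoin A) (mem_map_of_mem e.symm.toMonoidHom hy), e.apply_symm_apply y⟩

theorem phiJoin_map {p : ℕ} [Fact p.Prime] (hA : IsPGroup p A) (hB : IsPGroup p B) :
    (Cfsg.frattiniOfMinimalCLJoin p A).map e.toMonoidHom = Cfsg.frattiniOfMinimalCLJoin p B := by
  rw [phiJoin_eq hA, phiJoin_eq hB, Subgroup.map_iSup]
  refine le_antisymm (iSup_le fun R => ?_) (iSup_le fun R => ?_)
  · rw [map_phi]
    exact le_iSup (fun R : {R : Subgroup B // MaxMinimal p R} => phi p R.1)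
      ⟨_, maxMinimal_map_equiv e R.2⟩
  · refine le_trans (le_of_eq ?_) (le_iSup (fun R : {R : Subgroup A // MaxMinimal p R} =>
      (phi p R.1).map e.toMonoidHom) ⟨_, maxMinimal_map_equiv e.symm R.2⟩)
    rw [map_phi, map_map, show e.toMonoidHom.comp e.symm.toMonoidHom = MonoidHom.id B from
      MonoidHom.ext fun x => e.apply_symm_apply x, Subgroup.map_id]

end Equiv

variable {p : ℕ} [Fact p.Prime] {S : Type u} [Group S] [Finite S]

/-- `S` is a Sylow subgroup of `G` through `τ`, over a quotient `PSL₂(q)`. -/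
def Fits (p : ℕ) [Fact p.Prime] {G : Type u} [Group G] [Finite G] (τ : S →* G) : Prop :=
  Function.Injective τ ∧ ∃ (P : Sylow p G) (q : ℕ) (M : Subgroup G) (F : Type) (_ : Field F)
    (_ : Finite F), τ.range = (P : Subgroup G) ∧ Core p P ∧ Ctx p P q M ∧ Nat.card F = q

theorem fits_of {G : Type u} [Group G] [Finite G] (τ : S →* G) (hτ : Function.Injective τ)
    (P : Sylow p G) (hP : τ.range = (P : Subgroup G))
    (hE₁ : centralizer (Cfsg.pCore p G : Set G) ≤ Cfsg.pCore p G)
    (hE₂ : ∃! M : Subgroup G, IsCoatom M ∧ (P : Subgroup G) ≤ M)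
    (hE₃ : ∃ (K : Subgroup G) (_ : K.Normal) (F : Type) (_ : Field F) (_ : Fintype F) (n : ℕ),
      Fintype.card F = p ^ n ∧
        Nonempty (G ⧸ K ≃* Matrix.ProjectiveSpecialLinearGroup (Fin 2) F)) : Fits p τ := by
  obtain ⟨K, hK, F, hF, hFf, n, hcard, ⟨e⟩⟩ := hE₃
  have hn : 1 ≤ n := by
    rcases n with _ | n
    · exact absurd hcard (by simpa using (Fintype.one_lt_card (α := F)).ne')
    · omega
  obtain ⟨M, hc, hx⟩ := exists_ctx P hE₁ hE₂ K n hn (Nat.card_eq_fintype_card.trans hcard) e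
  exact ⟨hτ, P, _, M, F, hF, inferInstance, hP, hc, hx, rfl⟩

/-- One of the two images is normal in every group over `S`. -/
def Serves (p : ℕ) [Fact p.Prime] (S₁ S₂ : Subgroup S) : Prop :=
  ∀ (G : Type u) [Group G] [Finite G] (τ : S →* G), Fits p τ →
    (S₁.map τ).Normal ∨ (S₂.map τ).Normal

/-- A pair of nontrivial characteristic subgroups serving every group over `S`. -/
structure Works (p : ℕ) [Fact p.Prime] (S₁ S₂ : Subgroup S) : Prop where
  ne₁ : S₁ ≠ ⊥
  ne₂ : S₂ ≠ ⊥
  char₁ : S₁.Characteristic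
  char₂ : S₂.Characteristic
  le₁ : S₁ ≤ center S
  le₂ : S₂ ≤ C (Fusion.centerThompsonA S)
  charIn : (S₂.subgroupOf (C (Fusion.centerThompsonA S))).Characteristic
  serves : Serves p S₁ S₂

section Transport

variable {G : Type u} [Group G] [Finite G] {τ : S →* G} {P : Sylow p G}

/-- `S` as the Sylow subgroup. -/
noncomputable def eqv (hτ : Function.Injective τ) (hP : τ.range = (P : Subgroup G)) :
    S ≃* ↥(P : Subgroup G) :=
  (MonoidHom.ofInjective hτ).trans (MulEquiv.subgroupCongr hP)

theorem map_eqv (hτ : Function.Injective τ) (hP : τ.range = (P : Subgroup G)) (X : Subgroup S) :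
    (X.map (eqv hτ hP).toMonoidHom).map (P : Subgroup G).subtype = X.map τ := by
  rw [map_map]
  rfl

theorem map_center_le (hP : τ.range = (P : Subgroup G)) :
    (center S).map τ ≤ centerIn (P : Subgroup G) := by
  rintro _ ⟨z, hz, rfl⟩
  refine ⟨hP ▸ ⟨z, rfl⟩, mem_centralizer_iff.2 fun y hy => ?_⟩
  rw [← hP] at hy
  obtain ⟨s, rfl⟩ := hy
  rw [← map_mul, ← map_mul, mem_center_iff.1 hz s]

theorem map_zj (hτ : Function.Injective τ) (hP : τ.range = (P : Subgroup G)) :
    Cfsg.centerThompsonAOf (P : Subgroup G) = (Fusion.centerThompsonA S).map τ := by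
  rw [← hP, Fusion.centerThompsonAOf_range τ hτ]

theorem map_C_zj (hτ : Function.Injective τ) (hP : τ.range = (P : Subgroup G)) :
    (C (Fusion.centerThompsonA S)).map τ =
      (P : Subgroup G) ⊓ centralizer (Cfsg.centerThompsonAOf (P : Subgroup G) : Set G) := by
  rw [map_zj hτ hP]
  refine le_antisymm (fun y hy => ?_) fun y hy => ?_
  · obtain ⟨c, hc, rfl⟩ := hy
    refine ⟨hP ▸ ⟨c, rfl⟩, mem_centralizer_iff.2 ?_⟩
    rintro _ ⟨v, hv, rfl⟩
    rw [← map_mul, ← map_mul, mem_centralizer_iff.1 hc v hv]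
  · obtain ⟨hyP, hyc⟩ := hy
    rw [← hP] at hyP
    obtain ⟨c, rfl⟩ := hyP
    exact mem_map_of_mem _ (mem_centralizer_iff.2 fun v hv => hτ (by
      rw [map_mul, map_mul]
      exact mem_centralizer_iff.1 hyc _ (mem_map_of_mem τ hv)))

end Transport

/-- It is enough to treat the groups with `Z(S)` not central. -/
theorem serves_of {S₁ S₂ : Subgroup S} (h₁ : S₁ ≤ center S)
    (h : ∀ (G : Type u) [Group G] [Finite G] (τ : S →* G) (P : Sylow p G) (q : ℕ) (M : Subgroup G)
      (F : Type) [Field F] [Finite F], Function.Injective τ → τ.range = (P : Subgroup G) →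
      Core p P → Ctx p P q M → Nat.card F = q → ¬ centerIn (P : Subgroup G) ≤ center G →
      (S₁.map τ).Normal ∨ (S₂.map τ).Normal) : Serves p S₁ S₂ := by
  intro G _ _ τ hf
  obtain ⟨hτ, P, q, M, F, hF, hFf, hP, hc, hx, hq⟩ := hf
  by_cases hZ : centerIn (P : Subgroup G) ≤ center G
  · exact Or.inl (normal_of_le_center ((map_mono h₁).trans ((map_center_le hP).trans hZ)))
  · exact h G τ P q M F hτ hP hc hx hq hZ

theorem maxCentralProduct_eq {X R₀ : Subgroup S} (hR₀ : CL R₀) (hle : R₀ ≤ X) :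
    Cfsg.maxCentralProduct ↥X = Cfsg.maxCentralProduct S := by
  have hR := LocalB.CD.isCentrallyLarge_iff.2 hR₀
  have htr : ∀ R : Subgroup ↥X, Nat.card R * Nat.card (center R) =
      Nat.card (R.map X.subtype) * Nat.card (center (R.map X.subtype : Subgroup S)) := fun R => by
    have e := R.equivMapOfInjective X.subtype X.subtype_injective
    rw [Nat.card_congr e.toEquiv, Nat.card_congr (Subgroup.centerCongr e).toEquiv]
  have hmaxS : ∀ R : Subgroup S, Nat.card R * Nat.card (center R) ≤ Cfsg.maxCentralProduct S :=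
    fun R => le_csSup ⟨Nat.card S * Nat.card S, by
      rintro _ ⟨K, rfl⟩
      exact Nat.mul_le_mul (card_le_card_group K)
        ((card_le_card_group _).trans (card_le_card_group K))⟩ ⟨R, rfl⟩
  refine IsGreatest.csSup_eq ⟨⟨R₀.subgroupOf X, ?_⟩, ?_⟩
  · rw [htr, subgroupOf_map_subtype, inf_of_le_left hle]
    exact hR
  · rintro _ ⟨R, rfl⟩
    rw [htr]
    exact hmaxS _

theorem charIn_of_top {T : Subgroup S} [T.Characteristic] {K : Subgroup S} (hK : K = ⊤) :
    (T.subgroupOf K).Characteristic := by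
  subst hK
  refine characteristic_iff_le_comap.2 fun φ x hx => ?_
  exact (characteristic_iff_le_comap.1 (inferInstance : T.Characteristic)
    ((Subgroup.topEquiv.symm.trans φ).trans Subgroup.topEquiv)) hx

theorem C_zj_eq_top (h : Fusion.centerThompsonA S ≤ center S) :
    C (Fusion.centerThompsonA S) = ⊤ :=
  top_le_iff.1 fun s _ => mem_centralizer_iff.2 fun v hv => (mem_center_iff.1 (h hv) s).symm

theorem centerThompsonA_characteristic : (Fusion.centerThompsonA S).Characteristic :=
  characteristic_iff_map_eq.2 fun e => Fusion.centerThompsonA_map e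

theorem cl_ne_bot [Nontrivial S] {T : Subgroup S} (hT : CL T) : T ≠ ⊥ := by
  rintro rfl
  obtain ⟨x, hx⟩ := exists_ne (1 : S)
  exact hx (mem_bot.1 (hT.2 (mem_centralizer_iff.2 fun y hy => by
    rw [SetLike.mem_coe, mem_bot] at hy; subst hy; simp)))

theorem minimalJoin_characteristic : (Cfsg.minimalCentrallyLargeJoin S).Characteristic :=
  characteristic_iff_map_eq.2 fun e => minimalJoin_map e

theorem phiJoin_characteristic (hS : IsPGroup p S) :
    (Cfsg.frattiniOfMinimalCLJoin p S).Characteristic :=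
  characteristic_iff_map_eq.2 fun e => phiJoin_map e hS hS

/-- `[Z(J(S)), S] ≠ 1`. -/
theorem works_zj [Nontrivial S] (hS : IsPGroup p S)
    (h : ¬ Fusion.centerThompsonA S ≤ center S) :
    Works p (⁅Fusion.centerThompsonA S, (⊤ : Subgroup S)⁆ ⊓ center S)
      (C (Fusion.centerThompsonA S)) := by
  haveI := centerThompsonA_characteristic (S := S)
  have hne : ⁅Fusion.centerThompsonA S, (⊤ : Subgroup S)⁆ ≠ ⊥ := fun hb => h (by
    rw [commutator_eq_bot_iff_le_centralizer, coe_top, centralizer_univ] at hb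
    exact hb)
  refine ⟨exists_central hS hne, fun hb => ?_, inferInstance, inferInstance, inf_le_right, le_rfl,
    by rw [subgroupOf_self]; infer_instance, serves_of inf_le_right ?_⟩
  · haveI := hS.center_nontrivial
    refine (Subgroup.nontrivial_iff_ne_bot (center S)).1 inferInstance (eq_bot_iff.2 ?_)
    rw [← hb]
    exact fun z hz => mem_centralizer_iff.2 fun y _ => mem_center_iff.1 hz y
  intro G _ _ τ P q M F _ _ hτ hP hc hx hq hZ
  by_cases hJ : jOf (P : Subgroup G) ≤ Cfsg.pCore p G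
  · right
    rw [map_C_zj hτ hP]
    exact inf_centralizer_normal hc hZ hJ
  · left
    refine normal_of_le_center (le_trans ?_ (PushL2.commutator_le_center hc hZ hJ))
    refine le_inf ((map_mono inf_le_left).trans ?_) ((map_mono inf_le_right).trans (map_center_le hP))
    rw [map_commutator, map_zj hτ hP]
    exact commutator_mono le_rfl ((map_mono le_top).trans (by rw [← hP, MonoidHom.range_eq_map]))

/-- `Z(S)` is not elementary abelian. -/
theorem works_powers [Nontrivial S] (hS : IsPGroup p S)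
    (hzj : Fusion.centerThompsonA S ≤ center S) (h : ¬ ∀ z ∈ center S, z ^ p = 1) :
    Works p (Cfsg.powerClosure p 1 (center S)) ⊤ := by
  have hle : Cfsg.powerClosure p 1 (center S) ≤ center S := (closure_le _).2 (by
    rintro _ ⟨x, hx, rfl⟩
    exact pow_mem hx _)
  have hchar : (Cfsg.powerClosure p 1 (center S)).Characteristic := by
    refine characteristic_iff_map_le.2 fun α => ?_
    rw [Cfsg.powerClosure, MonoidHom.map_closure]
    refine closure_mono ?_
    rintro _ ⟨_, ⟨x, hx, rfl⟩, rfl⟩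
    exact ⟨α x, (characteristic_iff_le_comap.1 centerCharacteristic α) hx,
      map_pow α.toMonoidHom x _⟩
  refine ⟨fun hb => h fun z hz => ?_, top_ne_bot, hchar, inferInstance, hle,
    (C_zj_eq_top hzj).ge, charIn_of_top (C_zj_eq_top hzj), serves_of hle ?_⟩
  · rw [← mem_bot, ← hb]
    exact subset_closure ⟨z, hz, (by rw [pow_one])⟩
  intro G _ _ τ P q M F _ _ hτ hP hc hx hq hZ
  by_cases hJ : jOf (P : Subgroup G) ≤ Cfsg.pCore p G
  · right
    rw [← C_zj_eq_top hzj, map_C_zj hτ hP]
    exact inf_centralizer_normal hc hZ hJ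
  · left
    refine normal_of_le_center (le_trans ?_ (powers_le_center hc hZ hJ))
    rw [Cfsg.powerClosure, MonoidHom.map_closure]
    refine closure_mono ?_
    rintro _ ⟨_, ⟨x, hx, rfl⟩, rfl⟩
    exact ⟨τ x, map_center_le hP (mem_map_of_mem τ hx), map_pow τ x _⟩

/-- The minimal centrally large subgroups are nonabelian. -/
theorem works_derived [Nontrivial S] (hS : IsPGroup p S)
    (hzj : Fusion.centerThompsonA S ≤ center S) {R₀ : Subgroup S}
    (hR₀ : Cfsg.IsMinimalCentrallyLarge R₀) (h : ⁅R₀, R₀⁆ ≠ ⊥) :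
    Works p (⁅R₀, R₀⁆ ⊓ center S) (Cfsg.minimalCentrallyLargeJoin S) := by
  haveI := commutator_characteristic hR₀
  haveI := minimalJoin_characteristic (S := S)
  refine ⟨exists_central hS h, cl_ne_bot LocalB.CD.cl_minimal_join, inferInstance, inferInstance,
    inf_le_right, le_top.trans (C_zj_eq_top hzj).ge, charIn_of_top (C_zj_eq_top hzj),
    serves_of inf_le_right ?_⟩
  intro G _ _ τ P q M F _ _ hτ hP hc hx hq hZ
  rcases derived_or_join hc hZ (minimal_map_equiv (eqv hτ hP) hR₀) with h1 | h1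
  · left
    refine normal_of_le_center (le_trans (le_inf ?_ ?_) h1)
    · exact (map_mono inf_le_right).trans (map_center_le hP)
    · rw [← map_commutator, map_eqv]
      exact map_mono inf_le_left
  · right
    rwa [← minimalJoin_map (eqv hτ hP), map_eqv] at h1

/-- `S_Φ ≠ 1`. -/
theorem works_phi [Nontrivial S] (hS : IsPGroup p S)
    (hzj : Fusion.centerThompsonA S ≤ center S) (h : Cfsg.frattiniOfMinimalCLJoin p S ≠ ⊥) :
    Works p (center S) (Cfsg.frattiniOfMinimalCLJoin p S) := by
  haveI := phiJoin_characteristic (p := p) hS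
  haveI := hS.center_nontrivial
  refine ⟨(Subgroup.nontrivial_iff_ne_bot _).1 inferInstance, h, inferInstance, inferInstance,
    le_rfl, le_top.trans (C_zj_eq_top hzj).ge, charIn_of_top (C_zj_eq_top hzj), serves_of le_rfl ?_⟩
  intro G _ _ τ P q M F _ _ hτ hP hc hx hq hZ
  right
  have := phiJoin_normal hc hZ
  rwa [← phiJoin_map (eqv hτ hP) hS P.isPGroup', map_eqv] at this

/-- What `S` is when no pair with a centrally large member works. -/
structure Exceptional (p : ℕ) [Fact p.Prime] (S : Type u) [Group S] : Prop where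
  base : Base p S
  top : Cfsg.thompsonSubgroupA S = ⊤
  nonabelian : ¬ IsMulCommutative S
  s0_bot : s0 p S = ⊥
  pairs : ∀ A ∈ Cfsg.maxAbelianSubgroups S, ∀ B ∈ Cfsg.maxAbelianSubgroups S, ∀ Q : Subgroup S,
    Nat.card ↥A ^ 2 = Nat.card S * Nat.card ↥(center S) ∧
    Nat.card ↥Q * Nat.card ↥(center ↥Q) ≤ Nat.card S * Nat.card ↥(center S) ∧
    ((A ⊔ B : Subgroup S) : Set S) = (A : Set S) * (B : Set S) ∧
    A ⊔ B = centralizer ((A ⊓ B : Subgroup S) : Set S)

/-- **A pair with a centrally large member, or `S` is exceptional.** -/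
theorem works_or_exceptional [Nontrivial S] (hS : IsPGroup p S) :
    (∃ S₁ S₂ : Subgroup S, Works p S₁ S₂ ∧
      Cfsg.maxCentralProduct ↥S₂ = Cfsg.maxCentralProduct ↥(C (Fusion.centerThompsonA S))) ∨
    Exceptional p S := by
  by_cases hzj : Fusion.centerThompsonA S ≤ center S
  swap
  · exact Or.inl ⟨_, _, works_zj hS hzj, rfl⟩
  have hCt := C_zj_eq_top hzj
  have heq : ∀ T : Subgroup S, CL T →
      Cfsg.maxCentralProduct ↥T = Cfsg.maxCentralProduct ↥(C (Fusion.centerThompsonA S)) := by
    intro T hT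
    rw [hCt, maxCentralProduct_eq hT le_rfl, maxCentralProduct_eq hT le_top]
  by_cases hel : ∀ z ∈ center S, z ^ p = 1
  swap
  · exact Or.inl ⟨_, _, works_powers hS hzj hel, by rw [hCt]⟩
  obtain ⟨R₀, hR₀⟩ := exists_minimal (P := S)
  by_cases hD : ⁅R₀, R₀⁆ = ⊥
  swap
  · exact Or.inl ⟨_, _, works_derived hS hzj hR₀ hD, heq _ LocalB.CD.cl_minimal_join⟩
  have hab : IsMulCommutative R₀ :=
    LocalB.CD.comm_of_le_C (commutator_eq_bot_iff_le_centralizer.1 hD)
  have hmin := LocalB.CD.minimal_iff_maxAbelian hR₀ hab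
  have hJeq : Cfsg.minimalCentrallyLargeJoin S = Cfsg.thompsonSubgroupA S := by
    unfold Cfsg.minimalCentrallyLargeJoin Cfsg.thompsonSubgroupA
    exact congrArg sSup (Set.ext hmin)
  have hJ : CL (Cfsg.thompsonSubgroupA S) := hJeq ▸ LocalB.CD.cl_minimal_join
  have hCJ : C (Cfsg.thompsonSubgroupA S) = C (⊤ : Subgroup S) := by
    refine le_antisymm ?_ (C_antitone le_top)
    have h : C (Cfsg.thompsonSubgroupA S) ≤ center S := (le_inf hJ.2 le_rfl).trans hzj
    exact h.trans fun z hz => mem_centralizer_iff.2 fun y _ => mem_center_iff.1 hz y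
  have hCC : C (C (⊤ : Subgroup S)) = ⊤ := top_le_iff.1 (le_CC _)
  have htop : Cfsg.thompsonSubgroupA S = ⊤ := by rw [← hJ.1.centralizer.2, hCJ, hCC]
  have B : Base p S := ⟨hS, hzj, hel, htop ▸ hJ.1⟩
  have hpairs : ∀ A ∈ Cfsg.maxAbelianSubgroups S, ∀ B' ∈ Cfsg.maxAbelianSubgroups S,
      ∀ Q : Subgroup S, Nat.card ↥A ^ 2 = Nat.card S * Nat.card ↥(center S) ∧
      Nat.card ↥Q * Nat.card ↥(center ↥Q) ≤ Nat.card S * Nat.card ↥(center S) ∧
      ((A ⊔ B' : Subgroup S) : Set S) = (A : Set S) * (B' : Set S) ∧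
      A ⊔ B' = centralizer ((A ⊓ B' : Subgroup S) : Set S) := by
    have hmtop : m (⊤ : Subgroup S) = Nat.card S * Nat.card ↥(center S) := by
      unfold LocalB.CD.m
      rw [card_top, C, coe_top, centralizer_univ]
    have hlarge : ∀ A ∈ Cfsg.maxAbelianSubgroups S, Large A := fun A hA =>
      (LocalB.CD.isCentrallyLarge_iff.1 ((hmin A).2 hA).1).1
    intro A hA B' hB' Q
    refine ⟨?_, ?_, (LocalB.CD.large_pair (hlarge A hA) (hlarge B' hB')).2.2.1, ?_⟩
    · rw [← hmtop, ← le_antisymm (B.large A) (hlarge A hA ⊤)]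
      unfold LocalB.CD.m
      rw [LocalB.CD.C_eq_self hA, sq]
    · refine le_trans ?_ (hmtop ▸ B.large Q)
      unfold LocalB.CD.m
      rw [LocalB.CD.card_center]
      exact Nat.mul_le_mul_left _ (card_le_of_le inf_le_right)
    · show A ⊔ B' = C (A ⊓ B')
      rw [(hlarge A hA).C_inf (hlarge B' hB'), LocalB.CD.C_eq_self hA, LocalB.CD.C_eq_self hB']
  have htriv : ∀ (S₁ S₂ : Subgroup S), (∀ i : Mem p S, (S₁.map i.τ).Normal ∨ (S₂.map i.τ).Normal) →
      S₁ ≤ center S → Serves p S₁ S₂ := fun S₁ S₂ h h₁ => serves_of h₁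
    fun G _ _ τ P q M F _ _ hτ hP hc hx hq hZ => h
      { G := G, τ := τ, inj := hτ, P := P, range_eq := hP, q := q, M := M, core := hc, ctx := hx,
        hZ := hZ, F := F, cardF := hq }
  by_cases hna : IsMulCommutative S
  · refine Or.inl ⟨center S, ⊤, ?_, by rw [hCt]⟩
    haveI := hS.center_nontrivial
    exact ⟨(Subgroup.nontrivial_iff_ne_bot _).1 inferInstance, top_ne_bot, inferInstance,
      inferInstance, le_rfl, hCt.ge, charIn_of_top hCt, htriv _ _ (fun i => absurd
        (fun s _ => mem_center_iff.2 fun t => hna.is_comm.comm t s) (i.not_V_le_center B)) le_rfl⟩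
  by_cases hs0 : s0 p S = ⊥
  · exact Or.inr ⟨B, htop, hna, hs0, hpairs⟩
  obtain ⟨S₁, S₂, h₁, hc₁, hle, hc₂, hcl, hserve⟩ := exists_pair_of_base B hs0
  haveI := hc₂
  exact Or.inl ⟨S₁, S₂, ⟨h₁, cl_ne_bot hcl, hc₁, hc₂, hle, le_top.trans hCt.ge,
    charIn_of_top hCt, htriv S₁ S₂ hserve hle⟩, heq S₂ hcl⟩

namespace Exceptional

theorem center_elem (E : Exceptional p S) : Cfsg.IsElementaryAbelian p (center S) :=
  ⟨⟨⟨fun a b => Subtype.ext (mem_center_iff.1 b.2 a)⟩⟩, E.base.elem⟩

theorem phiPhi_bot (E : Exceptional p S) :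
    (frattini ↥(frattini S)).map (frattini S).subtype = ⊥ := by
  have h := E.s0_bot
  unfold s0 at h
  rcases eq_or_ne p 2 with h2 | h2
  · rw [if_pos h2, sup_eq_bot_iff] at h
    exact h.2
  rw [if_neg h2] at h
  rcases eq_or_ne p 3 with h3 | h3
  · rw [if_pos h3, sup_eq_bot_iff] at h
    exact h.2
  rw [if_neg h3, sup_eq_bot_iff] at h
  -- `Φ(S)` is central and `S` has exponent `p`
  refine eq_bot_iff.2 ?_
  rw [map_frattini (E.base.isP.to_subgroup _)]
  refine (closure_le _).2 ?_
  rintro x (⟨a, ha, b, hb, rfl⟩ | ⟨a, ha, rfl⟩)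
  · rw [← h.1]
    exact commutator_mem_commutator ha (mem_top b)
  · rw [← h.2]
    exact subset_closure ⟨a, mem_top a, by rw [pow_one]⟩

theorem frattini_elem (E : Exceptional p S) : Cfsg.IsElementaryAbelian p (frattini S) := by
  have h : phi p (frattini S) = ⊥ := by
    rw [← map_frattini (E.base.isP.to_subgroup _), E.phiPhi_bot]
  refine ⟨⟨⟨fun a b => Subtype.ext (commutatorElement_eq_one_iff_mul_comm.1 ?_)⟩⟩, fun a ha => ?_⟩
  · rw [← mem_bot, ← h]; exact comm_mem_phi a.2 b.2
  · rw [← mem_bot, ← h]; exact pow_mem_phi ha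

theorem le_center_two (E : Exceptional p S) (hp : p = 2) : frattini S ≤ center S := by
  have h := E.s0_bot
  unfold s0 at h
  rw [if_pos hp, sup_eq_bot_iff, commutator_eq_bot_iff_le_centralizer, coe_top,
    centralizer_univ] at h
  exact h.1

theorem le_upper_three (E : Exceptional p S) (hp : p = 3) :
    frattini S ≤ Subgroup.upperCentralSeries S 2 := by
  have h := E.s0_bot
  unfold s0 at h
  rw [if_neg (by omega), if_pos hp, sup_eq_bot_iff, commutator_eq_bot_iff_le_centralizer, coe_top,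
    centralizer_univ] at h
  intro x hx
  refine Subgroup.mem_upperCentralSeries_succ_iff.2 fun y => ?_
  rw [Subgroup.upperCentralSeries_one]
  exact h.1 (commutator_mem_commutator hx (mem_top y))

theorem big (E : Exceptional p S) (hp : 3 < p) :
    frattini S ≤ center S ∧ Monoid.exponent S = p := by
  have h := E.s0_bot
  unfold s0 at h
  rw [if_neg (by omega), if_neg (by omega), sup_eq_bot_iff, commutator_eq_bot_iff_le_centralizer,
    coe_top, centralizer_univ] at h
  refine ⟨h.1, ?_⟩
  have hpow : ∀ x : S, x ^ p = 1 := fun x => by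
    rw [← mem_bot, ← h.2]
    exact subset_closure ⟨x, mem_top x, by rw [pow_one]⟩
  rcases (Nat.dvd_prime (Fact.out : p.Prime)).1 (Monoid.exponent_dvd_of_forall_pow_eq_one hpow)
    with h1 | h1
  · haveI := Monoid.exp_eq_one_iff.1 h1
    exact absurd ⟨⟨fun a b => Subsingleton.elim _ _⟩⟩ E.nonabelian
  · exact h1

end Exceptional

end CfsgLib.PushL2.Pair
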