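import Cfsg.Agent.PushL2.PairMem

/-!
Chains of conjugations through several groups over one Sylow subgroup, as partial isomorphisms of
`S`; a shortest chain moving one `V` outside the centraliser of another has length at most one,
once every value is reached by a nondegenerate step.
-/

set_option autoImplicit false
set_option linter.unusedSectionVars false
set_option linter.unusedVariables false
set_option linter.style.haveILetI false

universe u

namespace CfsgLib.PushL2.Pair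

open Subgroup
open CfsgLib.LocalB.CD (C Large m le_C_iff C_antitone)

variable {p : ℕ} [Fact p.Prime] {S : Type u} [Group S]

/-- A member together with an element of it. -/
abbrev Link (p : ℕ) [Fact p.Prime] (S : Type u) [Group S] : Type (u + 1) := Σ i : Mem p S, i.G

/-- Conjugation by `g` on `O_p(G)`, as a relation on `S`. -/
def step (i : Mem p S) (g : i.G) : Subgroup (S × S) where
  carrier := {w | w.1 ∈ i.Q ∧ g * i.τ w.1 * g⁻¹ = i.τ w.2}
  one_mem' := ⟨one_mem _, by simp⟩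
  mul_mem' := fun {a b} ha hb => ⟨mul_mem ha.1 hb.1, by
    rw [Prod.fst_mul, Prod.snd_mul, map_mul, map_mul, ← ha.2, ← hb.2]; group⟩
  inv_mem' := fun {a} ha => ⟨inv_mem ha.1, by
    rw [Prod.fst_inv, Prod.snd_inv, map_inv, map_inv, ← ha.2]; group⟩

theorem mem_step {i : Mem p S} {g : i.G} {x y : S} :
    (x, y) ∈ step i g ↔ x ∈ i.Q ∧ g * i.τ x * g⁻¹ = i.τ y := Iff.rfl

theorem step_right {i : Mem p S} {g : i.G} {x y : S} (h : (x, y) ∈ step i g) : y ∈ i.Q := by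
  show i.τ y ∈ Cfsg.pCore p i.G
  rw [← h.2]
  exact pCore_isNormal.conj_mem _ h.1 g

theorem exists_step (i : Mem p S) (g : i.G) {x : S} (hx : x ∈ i.Q) :
    ∃ y, (x, y) ∈ step i g := by
  obtain ⟨y, -, hy⟩ := i.exists_τ_core (pCore_isNormal.conj_mem _ hx g)
  exact ⟨y, hx, hy.symm⟩

theorem step_symm {i : Mem p S} {g : i.G} {x y : S} (h : (x, y) ∈ step i g) :
    (y, x) ∈ step i g⁻¹ := ⟨step_right h, by rw [← h.2]; group⟩

/-- Composition of relations. -/
def comp (R T : Subgroup (S × S)) : Subgroup (S × S) where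
  carrier := {w | ∃ z, (w.1, z) ∈ T ∧ (z, w.2) ∈ R}
  one_mem' := ⟨1, T.one_mem, R.one_mem⟩
  mul_mem' := fun {_ _} ⟨z, h1, h2⟩ ⟨z', h1', h2'⟩ => ⟨z * z', T.mul_mem h1 h1', R.mul_mem h2 h2'⟩
  inv_mem' := fun {_} ⟨z, h1, h2⟩ => ⟨z⁻¹, T.inv_mem h1, R.inv_mem h2⟩

/-- The relation of a chain; its last link acts first. -/
def Rel : List (Link p S) → Subgroup (S × S)
  | [] => (MonoidHom.id S).range.map ((MonoidHom.id S).prod (MonoidHom.id S))
  | z :: L => comp (step z.1 z.2) (Rel L)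

theorem rel_nil {x y : S} : (x, y) ∈ Rel ([] : List (Link p S)) ↔ x = y := by
  constructor
  · rintro ⟨w, -, hw⟩
    obtain ⟨rfl, rfl⟩ := Prod.ext_iff.1 hw
    rfl
  · rintro rfl
    exact ⟨x, ⟨x, rfl⟩, rfl⟩

theorem rel_cons {z : Link p S} {L : List (Link p S)} {x y : S} :
    (x, y) ∈ Rel (z :: L) ↔ ∃ w, (x, w) ∈ Rel L ∧ (w, y) ∈ step z.1 z.2 := Iff.rfl

theorem rel_append {L₁ L₂ : List (Link p S)} {x y : S} :
    (x, y) ∈ Rel (L₁ ++ L₂) ↔ ∃ w, (x, w) ∈ Rel L₂ ∧ (w, y) ∈ Rel L₁ := by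
  induction L₁ generalizing y with
  | nil => simp [rel_nil]
  | cons z L₁ ih =>
    simp only [List.cons_append, rel_cons, ih]
    constructor
    · rintro ⟨w, ⟨w', h1, h2⟩, h3⟩; exact ⟨w', h1, w, h2, h3⟩
    · rintro ⟨w', h1, w, h2, h3⟩; exact ⟨w, ⟨w', h1, h2⟩, h3⟩

theorem rel_single {z : Link p S} {x y : S} : (x, y) ∈ Rel [z] ↔ (x, y) ∈ step z.1 z.2 := by
  simp [rel_cons, rel_nil]

/-- The inverse chain. -/
def rev (L : List (Link p S)) : List (Link p S) :=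
  (L.map fun z => (⟨z.1, z.2⁻¹⟩ : Link p S)).reverse

theorem rev_rev (L : List (Link p S)) : rev (rev L) = L := by
  simp [rev, List.map_reverse, Function.comp_def]

theorem rev_cons (z : Link p S) (L : List (Link p S)) :
    rev (z :: L) = rev L ++ [⟨z.1, z.2⁻¹⟩] := by simp [rev]

theorem rev_append_single (z : Link p S) (L : List (Link p S)) :
    rev (L ++ [z]) = ⟨z.1, z.2⁻¹⟩ :: rev L := by simp [rev]

theorem length_rev (L : List (Link p S)) : (rev L).length = L.length := by simp [rev]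

theorem rel_rev {L : List (Link p S)} {x y : S} (h : (x, y) ∈ Rel L) : (y, x) ∈ Rel (rev L) := by
  induction L generalizing y with
  | nil => exact rel_nil.2 (rel_nil.1 h).symm
  | cons z L ih =>
    obtain ⟨w, h1, h2⟩ := rel_cons.1 h
    rw [rev_cons, rel_append]
    exact ⟨w, rel_single.2 (step_symm h2), ih h1⟩

theorem rel_of_rev {L : List (Link p S)} {x y : S} (h : (x, y) ∈ Rel (rev L)) : (y, x) ∈ Rel L := by
  have := rel_rev h
  rwa [rev_rev] at this

theorem rel_one {L : List (Link p S)} {y : S} (h : ((1 : S), y) ∈ Rel L) : y = 1 := by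
  induction L generalizing y with
  | nil => exact (rel_nil.1 h).symm
  | cons z L ih =>
    obtain ⟨w, h1, h2⟩ := rel_cons.1 h
    obtain rfl := ih h1
    have := h2.2
    simp only [map_one, mul_one, mul_inv_cancel] at this
    exact z.1.inj (by rw [map_one, ← this])

theorem rel_unique {L : List (Link p S)} {x y y' : S} (h : (x, y) ∈ Rel L) (h' : (x, y') ∈ Rel L) :
    y = y' := by
  have h1 := (Rel L).mul_mem ((Rel L).inv_mem h) h'
  simp only [Prod.inv_mk, Prod.mk_mul_mk, inv_mul_cancel] at h1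
  exact inv_mul_eq_one.1 (rel_one h1)

theorem rel_commute {L : List (Link p S)} {x y x' y' : S} (h : (x, y) ∈ Rel L)
    (h' : (x', y') ∈ Rel L) : Commute x x' ↔ Commute y y' := by
  have h1 := (Rel L).mul_mem h h'
  have h2 := (Rel L).mul_mem h' h
  simp only [Prod.mk_mul_mk] at h1 h2
  constructor
  · intro hc
    rw [hc.eq] at h1
    exact rel_unique h1 h2
  · intro hc
    rw [hc.eq] at h1
    exact rel_unique (rel_rev h1) (rel_rev h2)

/-- A set of values of `V` that commute pairwise. -/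
structure Fam (p : ℕ) [Fact p.Prime] (𝒲 : Set (Subgroup S)) : Prop where
  val : ∀ X ∈ 𝒲, ∃ i : Mem p S, i.V = X
  comm : ∀ X ∈ 𝒲, ∀ Y ∈ 𝒲, X ≤ C Y

/-- All links of `L` have their value in `𝒲`. -/
def InFam (𝒲 : Set (Subgroup S)) (L : List (Link p S)) : Prop := ∀ z ∈ L, z.1.V ∈ 𝒲

theorem inFam_rev {𝒲 : Set (Subgroup S)} {L : List (Link p S)} (h : InFam 𝒲 L) :
    InFam 𝒲 (rev L) := by
  intro z hz
  simp only [rev, List.mem_reverse, List.mem_map] at hz
  obtain ⟨w, hw, rfl⟩ := hz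
  exact h w hw

/-- Chains shorter than `k` carry every value into the centraliser of every value. -/
def Good (p : ℕ) [Fact p.Prime] (𝒲 : Set (Subgroup S)) (k : ℕ) : Prop :=
  ∀ L : List (Link p S), InFam 𝒲 L → L.length < k → ∀ X ∈ 𝒲, ∀ x ∈ X,
    ∃ y, (x, y) ∈ Rel L ∧ ∀ Y ∈ 𝒲, y ∈ C Y

/-- `L` carries an element of `Y` to one not centralising `X`. -/
structure Crit (𝒲 : Set (Subgroup S)) (X : Subgroup S) (L : List (Link p S)) (Y : Subgroup S) :
    Prop where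
  head : X ∈ 𝒲
  last : Y ∈ 𝒲
  fam : InFam 𝒲 L
  bad : ∃ x ∈ Y, ∃ y, (x, y) ∈ Rel L ∧ y ∉ C X

variable [Finite S] {𝒲 : Set (Subgroup S)} {k : ℕ}

theorem Good.image (hg : Good p 𝒲 k) {L : List (Link p S)} (hL : InFam 𝒲 L)
    (hlen : L.length < k) {X : Subgroup S} (hX : X ∈ 𝒲) {x y : S} (hx : x ∈ X)
    (h : (x, y) ∈ Rel L) {Y : Subgroup S} (hY : Y ∈ 𝒲) : y ∈ C Y := by
  obtain ⟨y', h', hy'⟩ := hg L hL hlen X hX x hx
  rw [rel_unique h h']
  exact hy' Y hY

theorem Good.dom (B : Base p S) (hg : Good p 𝒲 k) {L : List (Link p S)} (hL : InFam 𝒲 L)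
    (hlen : L.length ≤ k) {X : Subgroup S} (hX : X ∈ 𝒲) {x : S} (hx : x ∈ X) :
    ∃ y, (x, y) ∈ Rel L := by
  cases L with
  | nil => exact ⟨x, rel_nil.2 rfl⟩
  | cons z L =>
    obtain ⟨w, hw, hwC⟩ := hg L (fun t ht => hL t (List.mem_cons_of_mem _ ht))
      (by simpa using hlen) X hX x hx
    have hwQ : w ∈ z.1.Q := z.1.C_V B ▸ hwC _ (hL z List.mem_cons_self)
    obtain ⟨y, hy⟩ := exists_step z.1 z.2 hwQ
    exact ⟨y, rel_cons.2 ⟨w, hw, hy⟩⟩

theorem Crit.sym (B : Base p S) (hg : Good p 𝒲 k) {X Y : Subgroup S} {L : List (Link p S)}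
    (hc : Crit 𝒲 X L Y) (hlen : L.length ≤ k) : Crit 𝒲 Y (rev L) X := by
  obtain ⟨x, hx, y, hxy, hy⟩ := hc.bad
  refine ⟨hc.last, hc.head, inFam_rev hc.fam, ?_⟩
  by_contra hall
  push Not at hall
  refine hy (mem_centralizer_iff.2 fun v hv => ?_)
  obtain ⟨v', hv'⟩ := hg.dom B (inFam_rev hc.fam) ((length_rev L).le.trans hlen) hc.head hv
  have h1 : Commute x v' := mem_centralizer_iff.1 (hall v hv v' hv') x hx
  exact ((rel_commute hxy (rel_of_rev hv')).1 h1).symm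

/-- The first step of a critical chain is nondegenerate. -/
theorem Crit.first (B : Base p S) (hW : Fam p 𝒲) (hg : Good p 𝒲 k) {X Y : Subgroup S}
    {i : Mem p S} {g : i.G} {L : List (Link p S)} (hc : Crit 𝒲 X (⟨i, g⟩ :: L) Y)
    (hlen : L.length < k) : Edge X i := by
  intro hdeg
  obtain ⟨x, hx, y, hxy, hy⟩ := hc.bad
  obtain ⟨w, hxw, hwy⟩ := rel_cons.1 hxy
  have hL : InFam 𝒲 L := fun t ht => hc.fam t (List.mem_cons_of_mem _ ht)
  refine hy (mem_centralizer_iff.2 fun v hv => i.inj ?_)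
  obtain ⟨d, hd, hde⟩ := i.exists_τ_omega (hdeg g⁻¹ v hv)
  have hcd : Commute (i.τ w) (g⁻¹ * i.τ v * g) := by
    have e : g⁻¹ * i.τ v * g = i.τ (d * v) := by rw [map_mul, hde]; group
    rw [e]
    refine (show Commute w (d * v) from ?_).map i.τ
    refine Commute.mul_right ?_ ?_
    · exact (mem_centralizer_iff.1
        (hg.image hL hlen hc.last hx hxw (hc.fam ⟨i, g⟩ List.mem_cons_self)) d hd).symm
    · exact (mem_centralizer_iff.1 (hg.image hL hlen hc.last hx hxw hc.head) v hv).symm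
  have h2 := (hcd.map (MulAut.conj g).toMonoidHom).symm
  simp only [MulEquiv.coe_toMonoidHom, MulAut.conj_apply] at h2
  rw [show g * (g⁻¹ * i.τ v * g) * g⁻¹ = i.τ v by group, hwy.2] at h2
  rw [map_mul, map_mul]
  exact h2.eq

theorem card_quotient_Q (a : Mem p S) : Nat.card (S ⧸ a.Q) = a.q := by
  refine Nat.eq_of_mul_eq_mul_right (Nat.card_pos (α := a.Q)) ?_
  rw [← card_eq_card_quotient_mul_card_subgroup, a.card_Q]

theorem Crit.fibres (B : Base p S) (hg : Good p 𝒲 k) {X Y : Subgroup S} {L : List (Link p S)}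
    (hc : Crit 𝒲 X L Y) (hlen : L.length ≤ k) {a b : Mem p S} (ha : a.V = X) (hb : b.V = Y) :
    ∃ f : ↥Y → S, (∀ x : ↥Y, ((x : S), f x) ∈ Rel L) ∧
      Nat.card Y ≤ Nat.card (Set.range fun x : ↥Y => (f x : S ⧸ a.Q)) * Nat.card (center S) := by
  obtain ⟨v, hv, v', hvv', hv'⟩ := (hc.sym B hg hlen).bad
  choose f hf using fun x : ↥Y => hg.dom B hc.fam hlen hc.last x.2
  refine ⟨f, hf, card_le_of_fibres Y (center S)
    (fun x => (⟨_, x, rfl⟩ : Set.range fun x : ↥Y => (f x : S ⧸ a.Q))) (fun x₁ x₂ h => ?_)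
    (Equiv.refl _)⟩
  have h1 : (f x₁)⁻¹ * f x₂ ∈ a.Q := QuotientGroup.eq.1 (congrArg Subtype.val h :)
  have h2 : ((x₁ : S)⁻¹ * x₂, (f x₁)⁻¹ * f x₂) ∈ Rel L :=
    (Rel L).mul_mem ((Rel L).inv_mem (hf x₁)) (hf x₂)
  rw [← a.C_V B, ha] at h1
  have h3 := (rel_commute h2 (rel_of_rev hvv')).2 (mem_centralizer_iff.1 h1 v hv).symm
  rw [← hb] at hv'
  refine b.key_commute B (fun hq => hv' (b.C_V B ▸ hq)) ?_ h3.symm
  rw [hb]
  exact mul_mem (inv_mem x₁.2) x₂.2

theorem Crit.q_le (B : Base p S) (hg : Good p 𝒲 k) {X Y : Subgroup S} {L : List (Link p S)}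
    (hc : Crit 𝒲 X L Y) (hlen : L.length ≤ k) {a b : Mem p S} (ha : a.V = X) (hb : b.V = Y) :
    b.q ≤ a.q := by
  obtain ⟨f, -, hf⟩ := hc.fibres B hg hlen ha hb
  rw [show Nat.card Y = Nat.card b.V by rw [hb], b.card_V B] at hf
  exact (Nat.le_of_mul_le_mul_right hf Nat.card_pos).trans
    ((Finite.card_subtype_le _).trans (card_quotient_Q a).le)

/-- The far end of a critical chain covers `S` modulo the near `O_p(G)`. -/
theorem Crit.cover (B : Base p S) (hW : Fam p 𝒲) (hg : Good p 𝒲 k) {X Y : Subgroup S}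
    {L : List (Link p S)} (hc : Crit 𝒲 X L Y) (hlen : L.length ≤ k) {a : Mem p S} (ha : a.V = X)
    (s : S) : ∃ x ∈ Y, ∃ y, (x, y) ∈ Rel L ∧ y⁻¹ * s ∈ a.Q := by
  obtain ⟨b, hb⟩ := hW.val Y hc.last
  have hle := (hc.sym B hg hlen).q_le B hg ((length_rev L).le.trans hlen) hb ha
  obtain ⟨f, hf, hcard⟩ := hc.fibres B hg hlen ha hb
  rw [show Nat.card Y = Nat.card b.V by rw [hb], b.card_V B] at hcard
  have hle' : a.q ≤ Nat.card (Set.range fun x : ↥Y => (f x : S ⧸ a.Q)) :=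
    hle.trans (Nat.le_of_mul_le_mul_right hcard Nat.card_pos)
  by_contra hall
  push Not at hall
  have hlt : Nat.card (Set.range fun x : ↥Y => (f x : S ⧸ a.Q)) < Nat.card (S ⧸ a.Q) := by
    refine Finite.card_subtype_lt (x := (s : S ⧸ a.Q)) ?_
    rintro ⟨x, hx⟩
    exact hall x x.2 (f x) (hf x) (QuotientGroup.eq.1 hx)
  rw [card_quotient_Q] at hlt
  omega

/-- **Extension of a critical chain at its near end.** -/
theorem Crit.ext (B : Base p S) (hW : Fam p 𝒲) (hg : Good p 𝒲 k) {X c Y : Subgroup S}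
    {z : Link p S} {L : List (Link p S)} (hc : Crit 𝒲 X (L ++ [z]) Y) (hlen : L.length + 1 = k)
    {A : Mem p S} (hA : A.V = X) (hcW : c ∈ 𝒲) (he : Edge c A) {h : A.G} (hh : h ∉ A.M) :
    Crit 𝒲 c (⟨A, h⁻¹⟩ :: L) z.1.V := by
  have hzW : z.1.V ∈ 𝒲 := hc.fam z (by simp)
  have hLW : InFam 𝒲 L := fun t ht => hc.fam t (List.mem_append_left _ ht)
  have hAW : A.V ∈ 𝒲 := hA ▸ hc.head
  refine ⟨hcW, hzW, List.forall_mem_cons.2 ⟨hAW, hLW⟩, ?_⟩
  by_contra hall
  push Not at hall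
  obtain ⟨b, hb⟩ := hW.val Y hc.last
  obtain ⟨i, hi⟩ := hW.val c hcW
  obtain ⟨x, hx, y, hxy, hy⟩ := hc.bad
  have hyQ : y ∉ A.Q := fun hq => hy (hA ▸ A.C_V B ▸ hq)
  have hcore : ∀ w ∈ c, A.τ (y) * (h * A.τ w * h⁻¹) * (A.τ y)⁻¹ * (h * A.τ w * h⁻¹)⁻¹ ∈
      omega p A.G := by
    intro w hw
    have hwQ : w ∈ A.Q := A.C_V B ▸ hW.comm c hcW _ hAW hw
    obtain ⟨u, hwu⟩ := exists_step A h hwQ
    have hlen' : (rev L ++ [(⟨A, h⟩ : Link p S)]).length ≤ k := by simp [length_rev, hlen]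
    obtain ⟨u', hu'⟩ := hg.dom B (L := rev L ++ [⟨A, h⟩]) (fun t ht => by
      rcases List.mem_append.1 ht with ht | ht
      · exact inFam_rev hLW t ht
      · rw [List.mem_singleton.1 ht]; exact hAW) hlen' hcW hw
    obtain ⟨u₁, h1, h2⟩ := rel_append.1 hu'
    obtain rfl := rel_unique h1 (rel_single.2 hwu)
    have hu'Q : u' ∈ z.1.Q := by
      rw [← z.1.C_V B]
      refine mem_centralizer_iff.2 fun x' hx' => ?_
      obtain ⟨w', hw', hw'C⟩ := hg L hLW (by omega) _ hzW x' hx'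
      have hw'Q : w' ∈ A.Q := A.C_V B ▸ hw'C _ hAW
      obtain ⟨y', hwy⟩ := exists_step A h⁻¹ hw'Q
      have h3 : Commute y' w :=
        (mem_centralizer_iff.1 (hall x' hx' y' (rel_cons.2 ⟨w', hw', hwy⟩)) w hw).symm
      have h4 : (y', w') ∈ step A h := by simpa using step_symm hwy
      have h5 := (rel_commute (rel_single (z := (⟨A, h⟩ : Link p S)).2 h4) h1).1 h3
      exact (rel_commute hw' (rel_of_rev h2)).2 h5
    obtain ⟨u'', hu''⟩ := exists_step z.1 z.2⁻¹ hu'Q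
    have hLu : (u'', u₁) ∈ Rel (L ++ [z]) :=
      rel_append.2 ⟨u', rel_single.2 (by simpa using step_symm hu''), rel_of_rev h2⟩
    obtain ⟨v, hv, v', hvv', hvb⟩ := (hc.sym B hg (by simp [hlen])).cover B hW hg
      (by simp [length_rev, hlen]) hb u''
    rw [← b.C_V B, hb] at hvb
    have hd : (v'⁻¹ * u'', v⁻¹ * u₁) ∈ Rel (L ++ [z]) :=
      (Rel (L ++ [z])).mul_mem ((Rel (L ++ [z])).inv_mem (rel_of_rev hvv')) hLu
    have hcy : Commute y (v⁻¹ * u₁) :=
      (rel_commute hxy hd).1 (mem_centralizer_iff.1 hvb x hx)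
    have e : y * u₁ * y⁻¹ * u₁⁻¹ = y * v * y⁻¹ * v⁻¹ := by
      calc y * u₁ * y⁻¹ * u₁⁻¹ = y * v * ((v⁻¹ * u₁) * y⁻¹) * u₁⁻¹ := by group
        _ = y * v * (y⁻¹ * (v⁻¹ * u₁)) * u₁⁻¹ := by rw [hcy.inv_left.eq]
        _ = _ := by group
    rw [hwu.2, ← map_inv, ← map_inv, ← map_mul, ← map_mul, ← map_mul, e]
    exact A.center_le_V B (A.quad B (hA ▸ hv) y)
  set U := (c.map A.τ).map (MulAut.conj h).toMonoidHom with hU
  have htop : kerOf U (omega p A.G) = ⊤ := by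
    refine A.ctx.gen h hh _ (fun s hs => mem_kerOf.2 ?_)
      ⟨A.τ y, A.τ_mem y, hyQ, mem_kerOf.2 ?_⟩
    · rintro _ ⟨_, ⟨w, hw, rfl⟩, rfl⟩
      obtain ⟨s, rfl⟩ := A.exists_τ hs
      have h1 := A.center_le_V B (i.quad B (hi ▸ hw) s)
      have h2 := omega_normal.conj_mem _ (show A.τ (s * w * s⁻¹ * w⁻¹) ∈ omega p A.G from h1) h
      simp only [map_mul, map_inv] at h2
      simp only [MulEquiv.coe_toMonoidHom, MulAut.conj_apply]
      convert h2 using 1
      group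
    · rintro _ ⟨_, ⟨w, hw, rfl⟩, rfl⟩
      exact hcore w hw
  refine he fun g w hw => ?_
  have h1 := mem_kerOf.1 (htop ▸ mem_top (h * g * h⁻¹)) _
    (mem_map_of_mem _ (mem_map_of_mem A.τ hw))
  simp only [MulEquiv.coe_toMonoidHom, MulAut.conj_apply] at h1
  have h2 := omega_normal.conj_mem _ h1 h⁻¹
  convert h2 using 1
  group

/-- Extension at the far end. -/
theorem Crit.rext (B : Base p S) (hW : Fam p 𝒲) (hg : Good p 𝒲 k) {X n Y : Subgroup S}
    {z : Link p S} {L : List (Link p S)} (hc : Crit 𝒲 X (z :: L) Y) (hlen : L.length + 1 = k)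
    {A : Mem p S} (hA : A.V = Y) (hnW : n ∈ 𝒲) (he : Edge n A) {h : A.G} (hh : h ∉ A.M) :
    Crit 𝒲 z.1.V (L ++ [⟨A, h⟩]) n := by
  have h1 := hc.sym B hg (by simp [hlen])
  rw [rev_cons] at h1
  have h2 := (h1.ext B hW hg (by simp [length_rev, hlen]) hA hnW he hh).sym B hg
    (by simp [length_rev, hlen])
  rw [rev_cons, rev_rev, inv_inv] at h2
  exact h2

/-- Every value is reached by a nondegenerate step from a value. -/
def Fed (p : ℕ) [Fact p.Prime] (𝒲 : Set (Subgroup S)) : Prop :=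
  ∀ X ∈ 𝒲, ∃ a : Mem p S, a.V = X ∧ ∃ Y ∈ 𝒲, Edge Y a

/-- A critical chain yields two values with nondegenerate steps both ways, and one of them at
its end. -/
theorem exists_mutual (B : Base p S) (hW : Fam p 𝒲) (hg : Good p 𝒲 k) (hk : 1 ≤ k)
    (hin : Fed p 𝒲) {X Y : Subgroup S} {L : List (Link p S)} (hc : Crit 𝒲 X L Y)
    (hlen : L.length = k) :
    ∃ a c : Mem p S, a.V ∈ 𝒲 ∧ c.V ∈ 𝒲 ∧ Edge c.V a ∧ Edge a.V c ∧
      ∃ (L' : List (Link p S)) (Y' : Subgroup S), L'.length = k ∧ Crit 𝒲 a.V L' Y' := by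
  choose mem hmem nxt hnxt hedge using hin
  let f : ↥𝒲 → ↥𝒲 := fun X => ⟨nxt X.1 X.2, hnxt X.1 X.2⟩
  let X₀ : ↥𝒲 := ⟨X, hc.head⟩
  let a : ℕ → Mem p S := fun n => mem (f^[n] X₀).1 (f^[n] X₀).2
  have ha : ∀ n, (a n).V = (f^[n] X₀).1 := fun n => hmem _ _
  have haW : ∀ n, (a n).V ∈ 𝒲 := fun n => (ha n).symm ▸ (f^[n] X₀).2
  have hae : ∀ n, Edge (a (n + 1)).V (a n) := fun n => by
    rw [ha, Function.iterate_succ_apply']
    exact hedge _ _
  have key : ∀ n, ∃ (L' : List (Link p S)) (Y' : Subgroup S), L'.length = k ∧ Crit 𝒲 (a n).V L' Y' ∧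
      (∀ i, i < n → i < k → (L'.map Sigma.fst)[i]? = some (a (n - 1 - i))) ∧
      (k < n → Y' = (a (n - 1 - k)).V) := by
    intro n
    induction n with
    | zero => exact ⟨L, Y, hlen, (ha 0).symm ▸ hc, by simp, by simp⟩
    | succ n ih =>
      obtain ⟨L', Y', hl, hcr, hidx, -⟩ := ih
      obtain ⟨h, hh⟩ := (a n).exists_not_mem_M
      rcases List.eq_nil_or_concat L' with rfl | ⟨L₀, z, rfl⟩
      · simp at hl; omega
      simp only [List.concat_eq_append] at *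
      have hl' : L₀.length + 1 = k := by simpa using hl
      refine ⟨⟨a n, h⁻¹⟩ :: L₀, z.1.V, by simpa using hl',
        hcr.ext B hW hg hl' rfl (haW _) (hae n) hh, fun i hi hik => ?_, fun hkn => ?_⟩
      · cases i with
        | zero => simp
        | succ i =>
          have h1 := hidx i (by omega) (by omega)
          rw [List.map_append, List.getElem?_append_left (by simp; omega)] at h1
          rw [List.map_cons, List.getElem?_cons_succ, h1, show n + 1 - 1 - (i + 1) = n - 1 - i by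
            omega]
      · have h1 := hidx (k - 1) (by omega) (by omega)
        rw [List.map_append, List.getElem?_append_right (by simp; omega)] at h1
        simp only [List.length_map, List.map_cons, List.map_nil,
          show k - 1 - L₀.length = 0 by omega, List.getElem?_cons_zero, Option.some.injEq] at h1
        rw [h1, show n - 1 - (k - 1) = n + 1 - 1 - k by omega]
  obtain ⟨L', Y', hl, hcr, hidx, hY⟩ := key (k + 1)
  obtain rfl : Y' = (a 0).V := by simpa using hY (by omega)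
  rcases List.eq_nil_or_concat L' with rfl | ⟨L₀, z, rfl⟩
  · simp at hl; omega
  simp only [List.concat_eq_append] at *
  have hl' : L₀.length + 1 = k := by simpa using hl
  have hz : z.1 = a 1 := by
    have h1 := hidx (k - 1) (by omega) (by omega)
    rw [List.map_append, List.getElem?_append_right (by simp; omega)] at h1
    simp only [List.length_map, List.map_cons, List.map_nil,
      show k - 1 - L₀.length = 0 by omega, List.getElem?_cons_zero, Option.some.injEq] at h1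
    rw [h1, show k + 1 - 1 - (k - 1) = 1 by omega]
  have hs := hcr.sym B hg (by simp [hl'])
  refine ⟨a 0, a 1, haW 0, haW 1, hae 0, hz ▸ ?_, _, _, by simp [length_rev, hl'], hs⟩
  rw [rev_append_single] at hs
  exact hs.first B hW hg (by simp [length_rev]; omega)

/-- **No critical chain is longer than one step.** -/
theorem not_crit (B : Base p S) (hW : Fam p 𝒲) (hg : Good p 𝒲 k) (hk : 2 ≤ k)
    (hin : Fed p 𝒲) {X Y : Subgroup S} {L : List (Link p S)} (hc : Crit 𝒲 X L Y)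
    (hlen : L.length = k) : False := by
  obtain ⟨a, c, haW, hcW, hca, hac, L', Y', hl', hc'⟩ :=
    exists_mutual B hW hg (by omega) hin hc hlen
  obtain ⟨h₁, hh₁⟩ := a.exists_not_mem_M
  obtain ⟨h₂, hh₂⟩ := c.exists_not_mem_M
  -- a chain starting with `c, a`
  rcases List.eq_nil_or_concat L' with rfl | ⟨L₀, z₀, rfl⟩
  · simp at hl'; omega
  simp only [List.concat_eq_append] at *
  have hl₀ : L₀.length + 1 = k := by simpa using hl'
  have hc1 := hc'.ext B hW hg hl₀ rfl hcW hca hh₁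
  rcases List.eq_nil_or_concat L₀ with rfl | ⟨L₃, z₁, rfl⟩
  · simp at hl₀; omega
  simp only [List.concat_eq_append] at *
  have hl₃ : L₃.length + 2 = k := by simp at hl₀; omega
  rw [← List.cons_append] at hc1
  have hc2 := hc1.ext B hW hg (by simp; omega) rfl haW hac hh₂
  obtain ⟨x, hx, y, hxy, hy⟩ := hc2.bad
  have hyQ : y ∉ a.Q := fun hq => hy (a.C_V B ▸ hq)
  obtain ⟨v, hv, hvZ⟩ := SetLike.not_le_iff_exists.1 (a.not_V_le_center B)
  set w := y * v * y⁻¹ * v⁻¹ with hw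
  refine hvZ (a.key B hyQ hv ?_)
  have hwZ : w ∈ center S := a.quad B hv y
  obtain ⟨v', hv'⟩ := hg.dom B (inFam_rev hc2.fam) (by simp [length_rev]; omega) haW hv
  set w' := x * v' * x⁻¹ * v'⁻¹ with hw'
  have hrel : (w', w) ∈ Rel (⟨c, h₂⁻¹⟩ :: ⟨a, h₁⁻¹⟩ :: L₃) := by
    have h1 := rel_of_rev hv'
    exact mul_mem (mul_mem (mul_mem hxy h1) (inv_mem hxy)) (inv_mem h1)
  have hw'Z : w' ∈ center S := by
    have h := (center S).inv_mem (z₁.1.quad B hx v')
    rwa [show (v' * x * v'⁻¹ * x⁻¹)⁻¹ = w' by rw [hw']; group] at h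
  obtain ⟨w₁, hr₁, hs₁⟩ := rel_cons.1 hrel
  obtain ⟨w₂, hr₂, hs₂⟩ := rel_cons.1 hr₁
  -- two extensions at the far end
  obtain ⟨A, hA, n, hn, hnA⟩ := hin _ hc2.last
  obtain ⟨h₃, hh₃⟩ := A.exists_not_mem_M
  have hd1 := hc2.rext B hW hg (by simp; omega) hA hn hnA hh₃
  rw [List.cons_append] at hd1
  obtain ⟨A', hA', n', hn', hnA'⟩ := hin _ hn
  obtain ⟨h₄, hh₄⟩ := A'.exists_not_mem_M
  have hd2 := hd1.rext B hW hg (by simp; omega) hA' hn' hnA' hh₄
  rw [List.append_assoc] at hd2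
  -- `w₁` and `w₂` are central in `S`
  have hw₁Z : w₁ ∈ center S := by
    obtain ⟨x₁, -, y₁, hxy₁, hy₁⟩ := hd1.bad
    rw [show ((⟨a, h₁⁻¹⟩ : Link p S) :: (L₃ ++ [⟨A, h₃⟩])) =
      ((⟨a, h₁⁻¹⟩ :: L₃) ++ [⟨A, h₃⟩]) from rfl, rel_append] at hxy₁
    obtain ⟨t, -, ht⟩ := hxy₁
    have hw₁V : w₁ ∈ c.V := by
      obtain ⟨d, hd, hde⟩ := c.exists_τ_omega
        (omega_normal.conj_mem _ (c.center_le_V B hwZ) h₂⁻¹⁻¹)
      have := (step_symm hs₁).2
      rw [hde.symm] at this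
      exact (show d = w₁ from c.inj this) ▸ hd
    exact c.key_commute B (fun hq => hy₁ (c.C_V B ▸ hq)) hw₁V
      ((rel_commute ht hr₁).1 (mem_center_iff.1 hw'Z t))
  have hz0c : c.τ w ∈ z0 p c.G := by
    rw [← (c.std B).inf_conj h₂⁻¹ (Std.not_mem_inv hh₂)]
    exact ⟨(c.mem_zs_iff B).2 hwZ, c.τ w₁, (c.mem_zs_iff B).2 hw₁Z, hs₁.2⟩
  have hw₁w : w₁ = w := c.inj (by
    rw [← hs₁.2] at hz0c
    have h := z0_central hz0c h₂
    calc c.τ w₁ = h₂ * (h₂⁻¹ * c.τ w₁ * h₂⁻¹⁻¹) * h₂⁻¹ := by group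
      _ = (h₂⁻¹ * c.τ w₁ * h₂⁻¹⁻¹) * h₂ * h₂⁻¹ := by rw [h]
      _ = _ := by rw [mul_inv_cancel_right, hs₁.2])
  have hw₂Z : w₂ ∈ center S := by
    obtain ⟨x₂, -, y₂, hxy₂, hy₂⟩ := hd2.bad
    obtain ⟨t, -, ht⟩ := rel_append.1 hxy₂
    have hw₂V : w₂ ∈ a.V := by
      obtain ⟨d, hd, hde⟩ := a.exists_τ_omega
        (omega_normal.conj_mem _ (show a.τ w₁ ∈ omega p a.G from
          hw₁w ▸ a.center_le_V B hwZ) h₁⁻¹⁻¹)
      have := (step_symm hs₂).2
      rw [hde.symm] at this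
      exact (show d = w₂ from a.inj this) ▸ hd
    exact a.key_commute B (fun hq => hy₂ (a.C_V B ▸ hq)) hw₂V
      ((rel_commute ht hr₂).1 (mem_center_iff.1 hw'Z t))
  show a.τ w ∈ z0 p a.G
  rw [← (a.std B).inf_conj h₁⁻¹ (Std.not_mem_inv hh₁)]
  exact ⟨(a.mem_zs_iff B).2 hwZ, a.τ w₂, (a.mem_zs_iff B).2 hw₂Z, hw₁w ▸ hs₂.2⟩

/-- If there is no critical single step and every value is fed, or none is, no chain is critical. -/
theorem good_all (B : Base p S) (hW : Fam p 𝒲)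
    (h1 : ∀ X z Y, ¬ Crit (p := p) 𝒲 X [z] Y)
    (hin : Fed p 𝒲 ∨ ∀ X ∈ 𝒲, ∀ i : Mem p S, i.V ∈ 𝒲 → ¬ Edge X i) :
    ∀ k, Good p 𝒲 k := by
  intro k
  induction k with
  | zero => intro L _ h; exact absurd h (Nat.not_lt_zero _)
  | succ k hg =>
    intro L hL hlen X hX x hx
    rcases Nat.lt_or_eq_of_le (Nat.lt_succ_iff.1 hlen) with h | h
    · exact hg L hL h X hX x hx
    obtain ⟨y, hy⟩ := hg.dom B hL h.le hX hx
    refine ⟨y, hy, fun Y hY => ?_⟩
    by_contra hyY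
    have hc : Crit 𝒲 Y L X := ⟨hY, hX, hL, x, hx, y, hy, hyY⟩
    match L, h with
    | [], _ => exact hyY (rel_nil.1 hy ▸ hW.comm X hX Y hY hx)
    | [z], _ => exact h1 _ _ _ hc
    | z :: z' :: L', h =>
      rcases hin with hin | hin
      · exact not_crit B hW hg (by simp at h; omega) hin hc h
      · exact hin Y hY z.1 (hL z List.mem_cons_self) (hc.first B hW hg (by simp at h ⊢; omega))

end CfsgLib.PushL2.Pair
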