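import Cfsg.Agent.PushL2.PairMid

/-!
The values of `V` that commute with every value; a group whose `V` is none of them, or is the head
of a critical chain of length one, fixes the central part of `S₀`.
-/

set_option autoImplicit false
set_option linter.unusedSectionVars false
set_option linter.unusedVariables false
set_option linter.style.haveILetI false
set_option maxHeartbeats 400000

universe u

namespace CfsgLib.PushL2.Pair

open Subgroup
open CfsgLib.LocalB.CD (C le_C_iff)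

variable {p : ℕ} [Fact p.Prime] {S : Type u} [Group S]

/-- The values of `V` commuting with all values of `V`. -/
def W1 (p : ℕ) [Fact p.Prime] (S : Type u) [Group S] : Set (Subgroup S) :=
  {X | (∃ i : Mem p S, i.V = X) ∧ ∀ j : Mem p S, X ≤ C j.V}

theorem fam_W1 : Fam p (W1 p S) :=
  ⟨fun _ hX => hX.1, fun X hX Y hY => by obtain ⟨j, rfl⟩ := hY.1; exact hX.2 j⟩

theorem good_one : Good p (W1 p S) 1 := by
  intro L _ hlen X hX x hx
  obtain rfl : L = [] := List.eq_nil_of_length_eq_zero (by omega)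
  exact ⟨x, rel_nil.2 rfl, fun Y hY => fam_W1.comm X hX Y hY hx⟩

/-- The heads of the critical chains of length one. -/
def Endp (p : ℕ) [Fact p.Prime] (S : Type u) [Group S] : Set (Subgroup S) :=
  {X | ∃ (z : Link p S) (Y : Subgroup S), Crit (W1 p S) X [z] Y}

/-- A `p'`-element shifting `x` by an element it fixes modulo `N` fixes `x` modulo `N`. -/
theorem shift_mod {G : Type*} [Group G] [Finite G] {N : Subgroup G} [N.Normal] {g x : G}
    (hg : (orderOf g).Coprime p) (hc : g * x * g⁻¹ * x⁻¹ ∈ Cfsg.pCore p G)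
    (hgc : g * (g * x * g⁻¹ * x⁻¹) * g⁻¹ * (g * x * g⁻¹ * x⁻¹)⁻¹ ∈ N) :
    g * x * g⁻¹ * x⁻¹ ∈ N := by
  set θ := QuotientGroup.mk' N with hθ
  obtain ⟨k, hk⟩ := CfsgLib.Solvable.isPGroup_pCore (G := G) p ⟨_, hc⟩
  refine (QuotientGroup.eq_one_iff _).1 ?_
  show θ (g * x * g⁻¹ * x⁻¹) = 1
  refine eq_one_of_shift (g := θ g) (x := θ x) ?_ (commute_mk.2 hgc).eq
    (Nat.Coprime.coprime_dvd_left (orderOf_map_dvd θ g) hg) (k := k) ?_
  · simp only [map_mul, map_inv]; group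
  · rw [← map_pow, show (g * x * g⁻¹ * x⁻¹) ^ p ^ k = 1 from congrArg Subtype.val hk, map_one]

variable [Finite S]

/-- Two values not commuting: one covers `S` modulo the other's core, which is trivial over `V`. -/
theorem apart_cover (B : Base p S) {j l : Mem p S} (hne : ¬ j.V ≤ C l.V) (s : S) :
    ∃ v ∈ l.V, v⁻¹ * s ∈ j.Q := by
  have hcard : ∀ a b : Mem p S, ¬ a.V ≤ C b.V →
      b.q ≤ Nat.card (Set.range fun v : ↥b.V => ((v : S) : S ⧸ a.Q)) := by
    intro a b hab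
    obtain ⟨y, hy, hyb⟩ := SetLike.not_le_iff_exists.1 hab
    rw [b.C_V B] at hyb
    have h := card_le_of_fibres b.V (center S)
      (fun v => (⟨_, v, rfl⟩ : Set.range fun v : ↥b.V => ((v : S) : S ⧸ a.Q))) (fun u v huv => by
        have h1 : (u : S)⁻¹ * v ∈ a.Q := QuotientGroup.eq.1 (congrArg Subtype.val huv :)
        rw [← a.C_V B] at h1
        exact b.key_commute B hyb (mul_mem (inv_mem u.2) v.2) (mem_centralizer_iff.1 h1 y hy))
      (Equiv.refl _)
    rw [b.card_V B] at h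
    exact Nat.le_of_mul_le_mul_right h Nat.card_pos
  have h1 : j.q ≤ l.q := ((hcard l j fun h => hne (le_C_iff.1 h)).trans
    ((Finite.card_subtype_le _).trans (card_quotient_Q l).le))
  have h2 := h1.trans (hcard j l hne)
  by_contra hall
  push Not at hall
  have hlt : Nat.card (Set.range fun v : ↥l.V => ((v : S) : S ⧸ j.Q)) < Nat.card (S ⧸ j.Q) := by
    refine Finite.card_subtype_lt (x := (s : S ⧸ j.Q)) ?_
    rintro ⟨v, hv⟩
    exact hall v v.2 (QuotientGroup.eq.1 hv)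
  rw [card_quotient_Q] at hlt
  exact absurd (lt_of_le_of_lt h2 hlt) (lt_irrefl _)

theorem apart_triv (B : Base p S) {j l : Mem p S} (hne : ¬ j.V ≤ C l.V) :
    Triv p (Cfsg.pCore p j.G) (omega p j.G) := by
  haveI := omega_normal (p := p) (G := j.G)
  haveI := pCore_isNormal (p := p) (G := j.G)
  obtain ⟨v, hv, hvQ⟩ := SetLike.not_le_iff_exists.1 fun h : l.V ≤ C j.V => hne (le_C_iff.1 h)
  rw [j.C_V B] at hvQ
  intro g hg
  refine mem_kerOf.1 (coprime_mem j.core (kerOf (Cfsg.pCore p j.G) (omega p j.G)) (j.τ_mem v)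
    (mem_kerOf.2 fun r hr => ?_) hvQ hg)
  obtain ⟨r, -, rfl⟩ := j.exists_τ_core hr
  have h := inv_mem (l.quad B hv r)
  rw [show (r * v * r⁻¹ * v⁻¹)⁻¹ = v * r * v⁻¹ * r⁻¹ by group] at h
  rw [← map_inv, ← map_inv, ← map_mul, ← map_mul, ← map_mul]
  exact j.center_le_V B h

/-- A group whose `V` fails to commute with some value fixes the central part of `S₀`. -/
theorem apart_central (B : Base p S) {j : Mem p S} (hj : j.V ∉ W1 p S) {z : S} (hz : z ∈ s0 p S)
    (hzc : z ∈ center S) : j.τ z ∈ z0 p j.G := by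
  obtain ⟨l, hl⟩ : ∃ l : Mem p S, ¬ j.V ≤ C l.V := by
    by_contra hall
    push Not at hall
    exact hj ⟨⟨j, rfl⟩, hall⟩
  exact j.central_of_cover B (apart_triv B hl) (l.V : Set S) (fun v hv => l.pow_V hv)
    (fun v hv w hw => (mem_centralizer_iff.1 (l.V_comm B hv) w hw).symm) (apart_cover B hl) hz hzc

/-- And shifts the values commuting with all into its fixed points only. -/
theorem apart_comm (B : Base p S) {j : Mem p S} (hj : j.V ∉ W1 p S) {X : Subgroup S}
    (hX : X ∈ W1 p S) {x : S} (hx : x ∈ X) (s : S) :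
    j.τ (s * x * s⁻¹ * x⁻¹) ∈ z0 p j.G := by
  obtain ⟨l, hl⟩ : ∃ l : Mem p S, ¬ j.V ≤ C l.V := by
    by_contra hall
    push Not at hall
    exact hj ⟨⟨j, rfl⟩, hall⟩
  haveI := omega_normal (p := p) (G := j.G)
  obtain ⟨c, rfl⟩ := hX.1
  have hXQ : c.V ≤ j.Q := j.C_V B ▸ hX.2 j
  have hdeg : Deg c.V j := by
    have htop : kerOf (c.V.map j.τ) (omega p j.G) = ⊤ := by
      refine eq_top_of_coprime j.P (fun t ht => mem_kerOf.2 ?_) fun g hg => mem_kerOf.2 ?_
      · rintro _ ⟨w, hw, rfl⟩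
        obtain ⟨t, rfl⟩ := j.exists_τ ht
        rw [← map_inv, ← map_inv, ← map_mul, ← map_mul, ← map_mul]
        exact j.center_le_V B (c.quad B hw t)
      · rintro _ ⟨w, hw, rfl⟩
        exact apart_triv B hl g hg _ (hXQ hw)
    exact fun g w hw => mem_kerOf.1 (htop ▸ mem_top g) _ (mem_map_of_mem j.τ hw)
  exact hdeg.comm_z0 B (fun h => hj (h ▸ hX)) hx s

/-- The degenerate end: `p'`-elements are trivial on `O_p(G)/V`. -/
theorem endp_triv (B : Base p S) {a e : Mem p S} (hd : Deg e.V a) (hcomm : e.V ≤ C a.V)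
    {b : Mem p S} {g₀ : e.G} {x y : S} (hx : x ∈ b.V) (hxy : (x, y) ∈ step e g₀) (hy : y ∉ a.Q) :
    Triv p (Cfsg.pCore p a.G) (omega p a.G) := by
  haveI := omega_normal (p := p) (G := a.G)
  haveI := pCore_isNormal (p := p) (G := a.G)
  set V := omega p a.G with hV
  set Q := Cfsg.pCore p a.G with hQ
  set W := V ⊔ e.V.map a.τ with hW
  haveI hWn : W.Normal := by
    refine ⟨fun w hw g => ?_⟩
    have hle : W ≤ W.comap (MulAut.conj g).toMonoidHom := sup_le
      (fun v hv => mem_sup_left ((omega_normal (p := p) (G := a.G)).conj_mem v hv g)) (by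
        rintro _ ⟨v, hv, rfl⟩
        show g * a.τ v * g⁻¹ ∈ W
        have := mul_mem (mem_sup_left (hd g v hv) : _ ∈ W)
          (mem_sup_right (mem_map_of_mem a.τ hv) : a.τ v ∈ W)
        rwa [inv_mul_cancel_right] at this)
    exact hle hw
  have hWQ : W ≤ Q := sup_le omega_le ((map_mono (hcomm.trans (a.C_V B).le)).trans (map_comap_le _ _))
  set R := Q ⊓ centralizer (W : Set a.G) with hR
  haveI : R.Normal := by rw [hR]; infer_instance
  have hyK : a.τ y ∈ kerOf R W := by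
    refine mem_kerOf.2 fun r hr => ?_
    obtain ⟨r, hra, rfl⟩ := a.exists_τ_core hr.1
    have hre : r ∈ e.Q := by
      rw [← e.C_V B]
      exact mem_centralizer_iff.2 fun v hv => a.inj (by
        rw [map_mul, map_mul]
        exact mem_centralizer_iff.1 hr.2 _ (mem_sup_right (mem_map_of_mem a.τ hv)))
    obtain ⟨r', hrr⟩ := exists_step e g₀⁻¹ hre
    have h1 : (r', r) ∈ step e g₀ := by simpa using step_symm hrr
    have h2 : (x * r' * x⁻¹ * r'⁻¹, y * r * y⁻¹ * r⁻¹) ∈ step e g₀ :=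
      mul_mem (mul_mem (mul_mem hxy h1) (inv_mem hxy)) (inv_mem h1)
    have h3 := inv_mem (b.quad B hx r')
    rw [show (r' * x * r'⁻¹ * x⁻¹)⁻¹ = x * r' * x⁻¹ * r'⁻¹ by group] at h3
    have h4 : y * r * y⁻¹ * r⁻¹ ∈ e.V := by
      show e.τ _ ∈ omega p e.G
      rw [← h2.2]
      exact omega_normal.conj_mem _ (e.center_le_V B h3) g₀
    rw [← map_inv, ← map_inv, ← map_mul, ← map_mul, ← map_mul]
    exact mem_sup_right (mem_map_of_mem a.τ h4)
  intro g hg r hr
  have hgW : ∀ w ∈ W, g * w * g⁻¹ * w⁻¹ ∈ V := by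
    have hle : W ≤ (centralizer {(QuotientGroup.mk' V g)}).comap (QuotientGroup.mk' V) := sup_le
      (fun v hv => by
        rw [mem_comap, show QuotientGroup.mk' V v = 1 from (QuotientGroup.eq_one_iff v).2 hv]
        exact one_mem _) (by
        rintro _ ⟨v, hv, rfl⟩
        exact mem_centralizer_singleton_iff.2 (commute_mk.2 (hd g v hv)).eq.symm)
    exact fun w hw => commute_mk.1
      (show Commute _ _ from (mem_centralizer_singleton_iff.1 (hle hw)).symm)
  have hgR : ∀ c ∈ R, g * c * g⁻¹ * c⁻¹ ∈ V := fun c hc =>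
    shift_mod hg (Q.mul_mem (pCore_isNormal.conj_mem c hc.1 g) (Q.inv_mem hc.1))
      (hgW _ (mem_kerOf.1 (coprime_mem a.core (kerOf R W) (a.τ_mem y) hyK hy hg) c hc))
  refine shift_mod hg (Q.mul_mem (pCore_isNormal.conj_mem r hr g) (Q.inv_mem hr)) (hgR _ ?_)
  refine ⟨Q.mul_mem (pCore_isNormal.conj_mem r hr g) (Q.inv_mem hr), ?_⟩
  have hWle : W ≤ centralizer {g * r * g⁻¹ * r⁻¹} := sup_le (fun v hv =>
      mem_centralizer_singleton_iff.2 (omega_commute hv
        (Q.mul_mem (pCore_isNormal.conj_mem r hr g) (Q.inv_mem hr)))) (by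
    rintro _ ⟨v, hv, rfl⟩
    refine mem_centralizer_singleton_iff.2 ?_
    obtain ⟨r, hr', rfl⟩ := a.exists_τ_core hr
    have hz := hd.core_z0 B hv hr'
    set d := a.τ (r * v * r⁻¹ * v⁻¹) with hdd
    have hdc : ∀ t : a.G, t * d = d * t := z0_central hz
    have e1 : a.τ r * a.τ v * (a.τ r)⁻¹ = d * a.τ v := by
      rw [hdd]; simp only [map_mul, map_inv]; group
    set ω := g * a.τ v * g⁻¹ * (a.τ v)⁻¹ with hω
    set r₁ := g * a.τ r * g⁻¹ with hr₁
    have c1 : Commute r₁ ω :=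
      ((omega_commute (hd g v hv) (pCore_isNormal.conj_mem _ hr g))).symm
    have e2 : r₁ * (ω * a.τ v) * r₁⁻¹ = d * (ω * a.τ v) := by
      rw [hω, hr₁, show g * a.τ r * g⁻¹ * (g * a.τ v * g⁻¹ * (a.τ v)⁻¹ * a.τ v) *
        (g * a.τ r * g⁻¹)⁻¹ = g * (a.τ r * a.τ v * (a.τ r)⁻¹) * g⁻¹ by group, e1,
        ← mul_assoc g d, hdc g]
      group
    have e3 : r₁ * a.τ v * r₁⁻¹ = d * a.τ v := by
      rw [← mul_assoc r₁ ω, c1.eq, mul_assoc ω, mul_assoc ω, ← mul_assoc d ω,
        (hdc ω).symm, mul_assoc ω d] at e2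
      exact mul_left_cancel e2
    have e4 : (a.τ r)⁻¹ * a.τ v * a.τ r = d⁻¹ * a.τ v := by
      calc (a.τ r)⁻¹ * a.τ v * a.τ r
          = (a.τ r)⁻¹ * (d⁻¹ * (a.τ r * a.τ v * (a.τ r)⁻¹)) * a.τ r := by
            rw [e1, inv_mul_cancel_left]
        _ = d⁻¹ * a.τ v := by
            rw [← mul_assoc (a.τ r)⁻¹ d⁻¹, ← mul_inv_rev, ← hdc, mul_inv_rev]; group
    have h5 : (r₁ * (a.τ r)⁻¹) * a.τ v * (r₁ * (a.τ r)⁻¹)⁻¹ = a.τ v := by
      rw [show r₁ * (a.τ r)⁻¹ * a.τ v * (r₁ * (a.τ r)⁻¹)⁻¹ =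
        r₁ * ((a.τ r)⁻¹ * a.τ v * a.τ r) * r₁⁻¹ by group, e4, ← mul_assoc r₁,
        show r₁ * d⁻¹ = d⁻¹ * r₁ from ((show Commute r₁ d from hdc r₁).inv_right).eq,
        mul_assoc d⁻¹, mul_assoc d⁻¹, e3, inv_mul_cancel_left]
    exact (mul_inv_eq_iff_eq_mul.1 h5).symm)
  exact mem_centralizer_iff.2 fun w hw => (mem_centralizer_singleton_iff.1 (hWle hw))

/-- **The head of a critical chain of length one fixes the central part of `S₀`.** -/
theorem endp_central (B : Base p S) {a : Mem p S} (ha : a.V ∈ Endp p S) {z : S} (hz : z ∈ s0 p S)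
    (hzc : z ∈ center S) : a.τ z ∈ z0 p a.G := by
  obtain ⟨⟨e, g⟩, Y, hc⟩ := ha
  have hg := good_one (p := p) (S := S)
  have heW : e.V ∈ W1 p S := hc.fam _ (List.mem_cons_self)
  by_cases hd : Deg e.V a
  · have hstep : ∀ {x y : S}, (x, y) ∈ Rel [(⟨e, g⟩ : Link p S)] → (x, y) ∈ step e g :=
      fun h => (rel_single (z := (⟨e, g⟩ : Link p S))).1 h
    obtain ⟨x, hx, y, hxy, hy⟩ := hc.bad
    obtain ⟨b, rfl⟩ := hc.last.1
    rw [a.C_V B] at hy
    refine a.central_of_cover B (endp_triv B hd (heW.2 a) hx (hstep hxy) hy)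
      {y | ∃ x ∈ b.V, (x, y) ∈ step e g} ?_ ?_ ?_ hz hzc
    · rintro y ⟨x, hx, hxy⟩
      exact e.inj (by rw [map_pow, map_one, ← hxy.2, conj_pow, ← map_pow, b.pow_V hx, map_one,
        mul_one, mul_inv_cancel])
    · rintro y ⟨x, hx, hxy⟩ y' ⟨x', hx', hxy'⟩
      exact (rel_commute (rel_single (z := (⟨e, g⟩ : Link p S)).2 hxy)
        (rel_single (z := (⟨e, g⟩ : Link p S)).2 hxy')).1
        (mem_centralizer_iff.1 (b.V_comm B hx) x' hx').symm
    · intro s
      obtain ⟨x, hx, y, hxy, hy⟩ := hc.cover B fam_W1 hg (by simp) rfl s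
      exact ⟨y, ⟨x, hx, hstep hxy⟩, hy⟩
  -- steps both ways
  have hXe : Edge a.V e := hc.first B fam_W1 hg (by simp)
  have hext : ∀ h : a.G, h ∉ a.M → Crit (W1 p S) e.V [⟨a, h⟩] e.V := fun h hh => by
    have := hc.ext (L := []) B fam_W1 hg (by simp) (A := a) rfl heW hd (Std.not_mem_inv hh)
    rwa [inv_inv] at this
  have hbad : Bad e.V a := by
    intro h hh
    obtain ⟨w, hw, w', hww', hnot⟩ := (hext h hh).bad
    simp only [mem_centralizer_iff, SetLike.mem_coe, not_forall] at hnot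
    obtain ⟨v, hv, hne⟩ := hnot
    exact ⟨v, hv, w, hw, w', (rel_single (z := (⟨a, h⟩ : Link p S))).1 hww', hne⟩
  obtain ⟨h₀, hh₀⟩ := a.exists_not_mem_M
  have hbad' : Bad a.V e := by
    intro h hh
    have h1 := (hext h₀ hh₀).ext (L := []) B fam_W1 hg (by simp) (A := e) rfl hc.head hXe
      (Std.not_mem_inv hh)
    rw [inv_inv] at h1
    obtain ⟨w, hw, w', hww', hnot⟩ := h1.bad
    simp only [mem_centralizer_iff, SetLike.mem_coe, not_forall] at hnot
    obtain ⟨v, hv, hne⟩ := hnot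
    exact ⟨v, hv, w, hw, w', (rel_single (z := (⟨e, h⟩ : Link p S))).1 hww', hne⟩
  exact (Duo.symm ⟨hc.head.2 e, hbad', hbad⟩).central B hz hzc

end CfsgLib.PushL2.Pair
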