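import Cfsg.Agent.PushL2.Two
import Cfsg.Agent.Solvable.CoprimeAct
import Mathlib.GroupTheory.SchurZassenhaus

/-!
When the elements of order prime to `p` act trivially on `O_p(G)/Ω₁Z(O_p(G))`: an element of order
`p` of `S` moves `O_p(G)` into `C_V(S)` times their fixed points.
-/

set_option autoImplicit false
set_option linter.unusedSectionVars false
set_option linter.style.haveILetI false

namespace CfsgLib.PushL2

open Subgroup Matrix
open scoped commutatorElement

variable {G : Type*} [Group G] [Finite G] {p : ℕ} [Fact p.Prime]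

/-- The subgroup generated by the elements of order prime to `p`. -/
def copGen (p : ℕ) (G : Type*) [Group G] : Subgroup G := closure {g : G | (orderOf g).Coprime p}

instance copGen_normal : (copGen p G).Normal := by
  refine ⟨fun x hx g => ?_⟩
  have hle : copGen p G ≤ (copGen p G).comap (MulAut.conj g).toMonoidHom :=
    (closure_le _).2 fun y hy => subset_closure (by
      show (orderOf ((MulAut.conj g) y)).Coprime p
      rw [MulEquiv.orderOf_eq]
      exact hy)
  exact hle hx

theorem mem_copGen {g : G} (hg : (orderOf g).Coprime p) : g ∈ copGen p G := subset_closure hg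

/-- The elements of `O_p(G)` fixed by the elements of order prime to `p`. -/
def fixCore (p : ℕ) (G : Type*) [Group G] : Subgroup G :=
  Cfsg.pCore p G ⊓ centralizer (copGen p G : Set G)

instance fixCore_normal : (fixCore p G).Normal := by
  haveI := pCore_isNormal (p := p) (G := G)
  unfold fixCore
  infer_instance

theorem mem_fixCore {x : G} (hxQ : x ∈ Cfsg.pCore p G)
    (h : ∀ g : G, (orderOf g).Coprime p → g * x = x * g) : x ∈ fixCore p G := by
  refine ⟨hxQ, ?_⟩
  have hle : copGen p G ≤ centralizer {x} :=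
    (closure_le _).2 fun g hg => mem_centralizer_singleton_iff.2 (h g hg)
  exact mem_centralizer_iff.2 fun g hg => mem_centralizer_singleton_iff.1 (hle hg)

namespace Std

variable {S : Sylow p G} {q : ℕ} {M : Subgroup G}

/-- `X ⊓ V ≤ C_V(G)` for a normal `X` not containing `C_V(S)`. -/
theorem inf_omega_le (N : Std p S q M) {X : Subgroup G} [X.Normal]
    (hX : zs S ⊓ X ≤ z0 p G) : omega p G ⊓ X ≤ z0 p G := by
  haveI := omega_normal (p := p) (G := G)
  obtain ⟨-, -, -, hmin⟩ := N.linesV.isChiefFactor N.ctx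
  rcases hmin ((omega p G ⊓ X) ⊔ z0 p G) inferInstance le_sup_right
    (sup_le inf_le_left (z0_le_zs (S := S) |>.trans zs_le_V)) with h | h
  · exact le_sup_left.trans h.le
  · exfalso
    have h1 : zs S ≤ (zs S ⊓ X) ⊔ z0 p G := by
      intro z hz
      obtain ⟨x, hx, c, hc, rfl⟩ := mem_sup_of_normal_right.1 (h.ge (zs_le_V hz))
      refine mul_mem_sup ⟨?_, hx.2⟩ hc
      have := mul_mem hz (inv_mem (z0_le_zs (S := S) hc))
      rwa [mul_inv_cancel_right] at this
    have h2 := card_le_of_le (h1.trans (sup_le hX le_rfl))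
    rw [N.card_zs] at h2
    have h3 := N.ctx.one_lt
    have h4 : 0 < Nat.card (z0 p G) := Nat.card_pos
    nlinarith

theorem zs_inf_fixCore (N : Std p S q M) : zs S ⊓ fixCore p G ≤ z0 p G := by
  rintro z ⟨hz, hzX⟩
  refine mem_fix.2 ⟨hz.1, fun g _ => ?_⟩
  have htop : centralizer ({z} : Set G) = ⊤ :=
    eq_top_of_coprime S (fun s hs => mem_centralizer_singleton_iff.2 ((mem_fix.1 hz).2 s hs))
      fun h hh => mem_centralizer_singleton_iff.2 (mem_centralizer_iff.1 hzX.2 h (mem_copGen hh))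
  exact mem_centralizer_singleton_iff.1 (htop ▸ mem_top g)

theorem omega_inf_fixCore (N : Std p S q M) : omega p G ⊓ fixCore p G ≤ z0 p G :=
  N.inf_omega_le N.zs_inf_fixCore

theorem z0_le_fixCore : z0 p G ≤ fixCore p G := fun _ hz =>
  mem_fixCore (omega_le hz.1) fun g _ => z0_central hz g

theorem copGen_le_kerOf [(omega p G).Normal] (hT : Triv p (Cfsg.pCore p G) (omega p G)) :
    copGen p G ≤ kerOf (Cfsg.pCore p G) (omega p G) :=
  (closure_le _).2 fun g hg => mem_kerOf.2 (hT g hg)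

theorem commutator_mem_fixCore (hT : Triv p (Cfsg.pCore p G) (omega p G)) {r r' : G}
    (hr : r ∈ Cfsg.pCore p G) (hr' : r' ∈ Cfsg.pCore p G) :
    r * r' * r⁻¹ * r'⁻¹ ∈ fixCore p G :=
  mem_fixCore (mul_mem (mul_mem (mul_mem hr hr') (inv_mem hr)) (inv_mem hr')) fun g hg =>
    fix_commutator hr hr' (hT g hg r hr) (hT g hg r' hr')

theorem pow_mem_fixCore (hT : Triv p (Cfsg.pCore p G) (omega p G)) {r : G}
    (hr : r ∈ Cfsg.pCore p G) : r ^ p ∈ fixCore p G :=
  mem_fixCore (pow_mem hr p) fun g hg => fix_pow hr (hT g hg r hr)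

theorem kerOf_omega_le (N : Std p S q M) (hT : Triv p (Cfsg.pCore p G) (omega p G)) :
    kerOf (omega p G) (z0 p G) ≤ Cfsg.pCore p G := by
  haveI := omega_normal (p := p) (G := G)
  refine le_pCore_of_coprime fun g hg hgp => eq_one_of_coprime N.core hgp fun r hr => ?_
  have hfixV : ∀ v ∈ omega p G, g * v = v * g := fun v hv =>
    commute_of_shift' hgp rfl (omega_le (mem_kerOf.1 hg v hv).1)
      (z0_central (mem_kerOf.1 hg v hv) g)
  exact commute_of_shift' hgp rfl (omega_le (hT g hgp r hr)) (hfixV _ (hT g hgp r hr))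

/-- When the subgroup generated by the `p'`-elements meets `S` only inside `O_p(G)`, then `O_p(G)`
is `V` times their fixed points. -/
theorem core_le_of_small (N : Std p S q M) (hT : Triv p (Cfsg.pCore p G) (omega p G))
    (hsmall : (S : Subgroup G) ⊓ copGen p G ≤ Cfsg.pCore p G) :
    Cfsg.pCore p G ≤ omega p G ⊔ fixCore p G := by
  haveI := omega_normal (p := p) (G := G)
  haveI := pCore_isNormal (p := p) (G := G)
  set L := copGen p G with hLdef
  set Q := Cfsg.pCore p G
  obtain ⟨PL, hPL⟩ := exists_sylow_inf L S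
  have hPLeq : (PL : Subgroup L) = Q.subgroupOf L := by
    refine hPL.trans (le_antisymm (fun x hx => hsmall ⟨hx, x.2⟩) fun x hx => N.core.le_S hx)
  haveI : (Q.subgroupOf L).Normal := normal_subgroupOf
  obtain ⟨H, hH⟩ := Subgroup.exists_right_complement'_of_coprime (N := Q.subgroupOf L)
    (by rw [← hPLeq]; exact PL.card_coprime_index)
  intro r hr
  set A := H.map L.subtype with hA
  have hAcop : ∀ a ∈ A, (orderOf a).Coprime p := by
    rintro _ ⟨a, ha, rfl⟩
    rw [orderOf_injective L.subtype L.subtype_injective]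
    have h1 : Nat.card H = (Q.subgroupOf L).index := hH.symm.index_eq_card.symm
    refine (((Fact.out : p.Prime).coprime_iff_not_dvd).2 ?_).symm
    refine fun hd => (PL.not_dvd_index) ?_
    rw [hPLeq, ← h1]
    exact hd.trans ((Subgroup.orderOf_dvd_natCard _ ha))
  have hcop : (Nat.card A).Coprime (Nat.card Q) := by
    obtain ⟨e, he⟩ := N.core.isP.exists_card_eq
    rw [he]
    refine Nat.Coprime.pow_right e (((Fact.out : p.Prime).coprime_iff_not_dvd).2 fun hd => ?_).symm
    obtain ⟨a, ha⟩ := exists_prime_orderOf_dvd_card' p hd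
    have h2 := hAcop a a.2
    rw [Subgroup.orderOf_coe, ha] at h2
    exact (Fact.out : p.Prime).ne_one ((Nat.coprime_self p).1 h2)
  haveI : Group.IsSolvable ↥(omega p G) := by
    haveI := (N.core.isP.to_le omega_le).isNilpotent
    infer_instance
  obtain ⟨c, hc, hrc⟩ := CfsgLib.CoprimeAct.exists_centralizing_mem_coset (A := A) (K := Q) (N := omega p G)
    (fun a _ => by rw [normalizer_eq_top]; exact mem_top a) hcop omega_le
    (fun a _ => by rw [normalizer_eq_top]; exact mem_top a) (Or.inr inferInstance) hr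
    (fun a ha => by
      have h1 := hT a (hAcop a ha) r hr
      have h2 := omega_normal.conj_mem _ h1 r⁻¹
      simpa [mul_assoc] using h2)
  have hcX : c ∈ fixCore p G := by
    refine mem_fixCore hc.1 fun g hg => ?_
    obtain ⟨⟨⟨l, hlQ⟩, ⟨a, ha⟩⟩, he⟩ :=
      hH.existsUnique ⟨g, mem_copGen hg⟩ |>.exists
    have hg' : g = (l : G) * (a : G) := (congrArg Subtype.val he).symm
    have hac : (a : G) * c = c * (a : G) :=
      mem_centralizer_iff.1 hc.2 _ (mem_map_of_mem L.subtype ha)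
    have h1 : g * c * g⁻¹ * c⁻¹ = (l : G) * c * (l : G)⁻¹ * c⁻¹ := by
      rw [hg', show (l : G) * a * c * ((l : G) * a)⁻¹ * c⁻¹ =
        (l : G) * ((a : G) * c) * (a : G)⁻¹ * (l : G)⁻¹ * c⁻¹ by group, hac]
      group
    refine commute_of_shift' hg rfl ?_ ?_
    · exact omega_le (hT g hg c hc.1)
    · refine z0_central (N.omega_inf_fixCore ⟨hT g hg c hc.1, ?_⟩) g
      rw [h1]
      exact commutator_mem_fixCore hT hlQ hc.1
  have := mul_mem (mem_sup_right hcX : c ∈ omega p G ⊔ fixCore p G)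
    (mem_sup_left (inv_mem hrc))
  rwa [show c * (r⁻¹ * c)⁻¹ = r by group] at this

/-- An element of order `p` of `S` moves `O_p(G)` into `C_V(S)` times the fixed points of the
`p'`-elements, when these are trivial on `O_p(G)/V`. -/
theorem move (N : Std p S q M) (F : Type*) [Field F] [Finite F] (hF : Nat.card F = q)
    (hT : Triv p (Cfsg.pCore p G) (omega p G)) {y : G} (hy : y ∈ (S : Subgroup G))
    (hyp : y ^ p = 1) {r : G} (hr : r ∈ Cfsg.pCore p G) :
    y * r * y⁻¹ * r⁻¹ ∈ zs S ⊔ fixCore p G := by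
  haveI := omega_normal (p := p) (G := G)
  haveI := pCore_isNormal (p := p) (G := G)
  haveI := fixCore_normal (p := p) (G := G)
  haveI := copGen_normal (p := p) (G := G)
  set Q := Cfsg.pCore p G with hQdef
  set V := omega p G with hVdef
  set X := fixCore p G with hXdef
  set L := copGen p G with hLdef
  by_cases hyQ : y ∈ Q
  · exact mem_sup_right (commutator_mem_fixCore hT hyQ hr)
  rcases N.core.irr (((S : Subgroup G) ⊓ L) ⊔ Q) le_sup_right (sup_le inf_le_left N.core.le_S)
    (fun g hg b hb => by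
      have hle : ((S : Subgroup G) ⊓ L) ⊔ Q ≤
          (((S : Subgroup G) ⊓ L) ⊔ Q).comap (MulAut.conj g).toMonoidHom := sup_le
        (fun x hx => mem_sup_left ⟨(mem_normalizer_iff.1 hg x).1 hx.1,
          (inferInstance : L.Normal).conj_mem x hx.2 g⟩)
        fun x hx => mem_sup_right (pCore_isNormal.conj_mem x hx g)
      exact hle hb) with hB | hB
  · -- `Q = V X`
    obtain ⟨v, hv, x, hx, rfl⟩ := mem_sup_of_normal_right.1
      (N.core_le_of_small hT (le_sup_left.trans hB.le) hr)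
    rw [show y * (v * x) * y⁻¹ * (v * x)⁻¹ =
      (y * v * y⁻¹ * v⁻¹) * (v * (y * x * y⁻¹ * x⁻¹) * v⁻¹) by group]
    exact mul_mem_sup (N.quad v hv y hy) ((inferInstance : X.Normal).conj_mem _
      (mul_mem ((inferInstance : X.Normal).conj_mem x hx y) (inv_mem hx)) v)
  -- `y` is a `p'`-generated element times an element of `O_p(G)`
  set w := y * r * y⁻¹ * r⁻¹ with hw
  obtain ⟨l, hl, r₀, hr₀, hyl⟩ := mem_sup_of_normal_right.1 (hB.ge hy)
  have hwVX : w ∈ V ⊔ X := by
    have h1 := mem_kerOf.1 (copGen_le_kerOf hT hl.2) r hr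
    have h2 := (inferInstance : X.Normal).conj_mem _ (commutator_mem_fixCore hT hr₀ hr) l
    have := mul_mem (mem_sup_right h2 : _ ∈ V ⊔ X) (mem_sup_left h1)
    rwa [show l * (r₀ * r * r₀⁻¹ * r⁻¹) * l⁻¹ * (l * r * l⁻¹ * r⁻¹) =
      (l * r₀) * r * (l * r₀)⁻¹ * r⁻¹ by group, hyl] at this
  obtain ⟨v, hv, x, hx, hvx⟩ := mem_sup_of_normal_right.1 hwVX
  suffices hvz : v ∈ zs S by
    rw [← hvx]
    exact mul_mem_sup hvz hx
  set π := QuotientGroup.mk' X with hπ
  have hπX : ∀ {a}, a ∈ X → π a = 1 := fun ha => (QuotientGroup.eq_one_iff _).2 ha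
  have hπw : π w = π v := by rw [← hvx, map_mul, hπX hx, mul_one]
  have hp := (Fact.out : p.Prime)
  rcases eq_or_ne p 2 with hp2 | hp2
  · have hv2 : v⁻¹ = v := inv_eq_of_mul_eq_one_left (by rw [← sq, ← hp2]; exact hv.2)
    have hy2 : y⁻¹ = y := inv_eq_of_mul_eq_one_left (by rw [← sq, ← hp2]; exact hyp)
    have e : y * w * y⁻¹ = w⁻¹ := by
      rw [hw]
      calc y * (y * r * y⁻¹ * r⁻¹) * y⁻¹ = (y * y) * r * y⁻¹ * r⁻¹ * y⁻¹ := by group
        _ = r * y * r⁻¹ * y⁻¹ := by rw [show y * y = 1 by rw [← sq, ← hp2]; exact hyp, hy2, one_mul]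
        _ = _ := by group
    refine N.linesV.key N.ctx hy hyQ hv ?_
    refine N.zs_inf_fixCore ⟨N.quad v hv y hy, (QuotientGroup.eq_one_iff _).1 ?_⟩
    show π (y * v * y⁻¹ * v⁻¹) = 1
    have h1 : π (y * v * y⁻¹) = π v⁻¹ := by
      calc π (y * v * y⁻¹) = π y * π v * (π y)⁻¹ := by rw [map_mul, map_mul, map_inv]
        _ = π y * π w * (π y)⁻¹ := by rw [hπw]
        _ = π (y * w * y⁻¹) := by rw [map_mul π (y * w), map_mul π y, map_inv π y]
        _ = _ := by rw [e, map_inv, map_inv, hπw]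
    rw [map_mul, h1, hv2, ← map_mul, ← sq, ← hp2, hv.2, map_one]
  · -- an element inverting `V/C_V(G)`
    obtain ⟨φ⟩ := N.linesV.natural N.ctx N.core F hF
    obtain ⟨ng, hng⟩ : ∃ ng : Matrix.SpecialLinearGroup (Fin 2) F,
        (ng : Matrix (Fin 2) (Fin 2) F) = -1 := ⟨⟨-1, by simp [Matrix.det_neg]⟩, rfl⟩
    obtain ⟨h, hh⟩ := φ.surj ng
    obtain ⟨e, m, hm, hem⟩ :=
      Nat.exists_eq_pow_mul_and_not_dvd (orderOf_pos h).ne' p hp.ne_one
    set g := h ^ p ^ e with hgdef
    have hgp : (orderOf g).Coprime p := by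
      rw [hgdef, orderOf_pow, hem, Nat.gcd_eq_right (dvd_mul_right _ _),
        Nat.mul_div_cancel_left m (pow_pos hp.pos e)]
      exact (hp.coprime_iff_not_dvd.2 hm).symm
    have hgρ : (φ.ρ g : Matrix (Fin 2) (Fin 2) F) = -1 := by
      rw [hgdef, map_pow, hh, Matrix.SpecialLinearGroup.coe_pow, hng]
      exact Odd.neg_one_pow ((hp.odd_of_ne_two hp2).pow)
    set d := g * y * g⁻¹ * y⁻¹ with hd
    have hdQ : d ∈ Q := N.kerOf_omega_le hT (by
      rw [← φ.ker, MonoidHom.mem_ker]
      simp only [hd, map_mul, map_inv]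
      exact Nat2.eq_one_of_neg hgρ)
    set v₀ := g * r * g⁻¹ * r⁻¹ with hv₀
    have hv₀V : v₀ ∈ V := hT g hgp r hr
    have hab : ∀ {a b}, a ∈ Q → b ∈ Q → Commute (π a) (π b) := fun ha hb =>
      commute_mk.2 (commutator_mem_fixCore hT ha hb)
    have hwQ : w ∈ Q := mul_mem (pCore_isNormal.conj_mem r hr y) (inv_mem hr)
    have h1 : π (g * v * g⁻¹) = π (y * v₀ * y⁻¹ * v₀⁻¹) * π v := by
      have hgx : g * x * g⁻¹ = x := by
        rw [mem_centralizer_iff.1 hx.2 g (mem_copGen hgp), mul_inv_cancel_right]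
      have hgw : π (g * w * g⁻¹) = π (g * v * g⁻¹) := by
        rw [← hvx, show g * (v * x) * g⁻¹ = (g * v * g⁻¹) * (g * x * g⁻¹) by group, hgx, map_mul,
          hπX hx, mul_one]
      rw [← hgw, ← hπw]
      have e1 : g * w * g⁻¹ = (d * y) * (v₀ * r) * (d * y)⁻¹ * (v₀ * r)⁻¹ := by
        rw [hd, hv₀, hw]; group
      rw [e1]
      set z := y * v₀ * y⁻¹ * v₀⁻¹ with hz
      have hzQ : z ∈ Q := mul_mem (pCore_isNormal.conj_mem _ (omega_le hv₀V) y)
        (inv_mem (omega_le hv₀V))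
      have e2 : (d * y) * (v₀ * r) * (d * y)⁻¹ * (v₀ * r)⁻¹ =
          d * (z * v₀ * w * r) * d⁻¹ * (v₀ * r)⁻¹ := by rw [hz, hw]; group
      rw [e2]
      simp only [map_mul, map_inv]
      have c1 : Commute (π d) (π z * π v₀ * π w * π r) :=
        (((hab hdQ hzQ).mul_right (hab hdQ (omega_le hv₀V))).mul_right (hab hdQ hwQ)).mul_right
          (hab hdQ hr)
      rw [c1.eq, mul_inv_cancel_right, mul_assoc (π z) (π v₀) (π w),
        (hab (omega_le hv₀V) hwQ).eq]
      group
    set z := y * v₀ * y⁻¹ * v₀⁻¹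
    have hzzs : z ∈ zs S := N.quad v₀ hv₀V y hy
    have hgv : g * v * g⁻¹ * v ∈ z0 p G := (φ.eq_zero _
      (V.mul_mem (omega_normal.conj_mem v hv g) hv)).1 (by
        rw [φ.map_mul _ (omega_normal.conj_mem v hv g) _ hv, φ.equiv g v hv, hgρ,
          neg_mulVec, one_mulVec, neg_add_cancel])
    have h2 : z⁻¹ * (g * v * g⁻¹) * v⁻¹ ∈ X := (QuotientGroup.eq_one_iff _).1 (by
      show π _ = 1
      rw [map_mul, map_mul, h1, map_inv, map_inv]; group)
    have h3 : z⁻¹ * (g * v * g⁻¹) * v⁻¹ ∈ zs S := z0_le_zs (N.omega_inf_fixCore ⟨V.mul_mem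
      (V.mul_mem (V.inv_mem (zs_le_V hzzs)) (omega_normal.conj_mem v hv g)) (V.inv_mem hv), h2⟩)
    have h4 : v * v ∈ zs S := by
      have := (zs S).mul_mem ((zs S).inv_mem ((zs S).mul_mem hzzs h3)) (z0_le_zs hgv)
      rwa [show (z * (z⁻¹ * (g * v * g⁻¹) * v⁻¹))⁻¹ * (g * v * g⁻¹ * v) = v * v by group] at this
    obtain ⟨j, hj⟩ := hp.odd_of_ne_two hp2
    have h5 := (zs S).pow_mem h4 (j + 1)
    rwa [← sq, ← pow_mul, show 2 * (j + 1) = p + 1 by omega, pow_succ, hv.2, one_mul] at h5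

end Std

end CfsgLib.PushL2
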