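import Cfsg.Agent.PushL2.PairEnds

/-!
One pair of characteristic subgroups of `S` serving all groups over `S` in the situation studied.
-/

set_option autoImplicit false
set_option linter.unusedSectionVars false
set_option linter.unusedVariables false
set_option linter.style.haveILetI false
set_option maxHeartbeats 400000

universe u

namespace CfsgLib.PushL2.Pair

open Subgroup
open scoped commutatorElement
open CfsgLib.LocalB.CD (C CL Large m le_C_iff C_antitone C_sup le_CC)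

variable {p : ℕ} [Fact p.Prime] {S : Type u} [Group S]

theorem comap_symm (α : S ≃* S) (X : Subgroup S) :
    (X.comap α.toMonoidHom).comap α.symm.toMonoidHom = X := by
  ext x; simp

theorem symm_comap (α : S ≃* S) (X : Subgroup S) :
    (X.comap α.symm.toMonoidHom).comap α.toMonoidHom = X := by
  ext x; simp

theorem comap_mem_W1 (α : S ≃* S) {X : Subgroup S} (hX : X ∈ W1 p S) :
    X.comap α.toMonoidHom ∈ W1 p S := by
  obtain ⟨⟨i, rfl⟩, hall⟩ := hX
  refine ⟨⟨i.twist α, rfl⟩, fun j x hx => mem_centralizer_iff.2 fun v hv => α.injective ?_⟩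
  rw [map_mul, map_mul]
  refine mem_centralizer_iff.1 (hall (j.twist α.symm) hx) _ ?_
  show α.symm (α v) ∈ j.V
  rwa [α.symm_apply_apply]

theorem step_twist {i : Mem p S} {g : i.G} (α : S ≃* S) {x y : S} :
    (x, y) ∈ step (i.twist α) g ↔ (α x, α y) ∈ step i g := Iff.rfl

theorem comap_mem_endp (α : S ≃* S) {X : Subgroup S} (hX : X ∈ Endp p S) :
    X.comap α.toMonoidHom ∈ Endp p S := by
  obtain ⟨⟨e, g⟩, Y, hc⟩ := hX
  refine ⟨⟨e.twist α, g⟩, Y.comap α.toMonoidHom, comap_mem_W1 α hc.head, comap_mem_W1 α hc.last,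
    fun t ht => ?_, ?_⟩
  · rw [List.mem_singleton.1 ht]
    exact comap_mem_W1 α (hc.fam ⟨e, g⟩ List.mem_cons_self)
  · obtain ⟨x, hx, y, hxy, hy⟩ := hc.bad
    refine ⟨α.symm x, by simpa using hx, α.symm y,
      (rel_single (z := (⟨e.twist α, g⟩ : Link p S))).2 (step_twist α |>.2 ?_), fun h => hy ?_⟩
    · rw [α.apply_symm_apply, α.apply_symm_apply]
      exact (rel_single (z := (⟨e, g⟩ : Link p S))).1 hxy
    · refine mem_centralizer_iff.2 fun v hv => α.symm.injective ?_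
      rw [map_mul, map_mul]
      exact mem_centralizer_iff.1 h _ (by simpa using hv)

/-- A set of values stable under the automorphisms of `S` and under nondegenerate steps. -/
structure Closed (p : ℕ) [Fact p.Prime] (𝒱 : Set (Subgroup S)) : Prop where
  sub : 𝒱 ⊆ W1 p S
  ends : ∀ X ∈ 𝒱, X ∉ Endp p S
  aut : ∀ (α : S ≃* S), ∀ X ∈ 𝒱, X.comap α.toMonoidHom ∈ 𝒱
  fwd : ∀ X ∈ 𝒱, ∀ i : Mem p S, i.V ∈ W1 p S → Edge X i → i.V ∈ 𝒱

variable [Finite S]

theorem closed_rest (B : Base p S) : Closed p (W1 p S \ Endp p S) := by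
  refine ⟨fun _ h => h.1, fun _ h => h.2, fun α X h => ⟨comap_mem_W1 α h.1, fun hE => h.2 ?_⟩,
    fun X h i hi he => ⟨hi, fun hE => h.2 ?_⟩⟩
  · have := comap_mem_endp α.symm hE
    rwa [comap_symm] at this
  · obtain ⟨z, Y, hc⟩ := hE
    obtain ⟨h₀, hh₀⟩ := i.exists_not_mem_M
    exact ⟨_, _, hc.ext (L := []) B fam_W1 good_one (by simp) rfl h.1 he hh₀⟩

theorem large_sSup (s : Set (Subgroup S)) (hs : s.Nonempty) (h : ∀ H ∈ s, Large H) :
    Large (sSup s) := by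
  obtain ⟨H0, hH0⟩ := hs
  obtain ⟨M, ⟨hM, hMs⟩, hmax⟩ := Set.Finite.exists_maximal
    (s := {M : Subgroup S | Large M ∧ M ≤ sSup s}) (Set.toFinite _) ⟨H0, h _ hH0, le_sSup hH0⟩
  have : sSup s = M := le_antisymm
    (sSup_le fun K hK =>
      le_sup_right.trans (hmax (y := M ⊔ K) ⟨hM.sup (h K hK), sup_le hMs (le_sSup hK)⟩ le_sup_left))
    hMs
  exact this ▸ hM

theorem card_comap_equiv (α : S ≃* S) (X : Subgroup S) :
    Nat.card (X.comap α.toMonoidHom) = Nat.card X :=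
  Nat.card_congr (α.toEquiv.subtypeEquiv fun _ => Iff.rfl)

theorem large_comap (α : S ≃* S) {X : Subgroup S} (hX : Large X) :
    Large (X.comap α.toMonoidHom) := by
  refine hX.congr ?_
  unfold LocalB.CD.m
  rw [card_comap_equiv α X, ← card_comap_equiv α (C X)]
  refine Nat.mul_le_mul_left _ (card_le_of_le fun x hx => mem_centralizer_iff.2 fun v hv =>
    α.injective ?_)
  rw [map_mul, map_mul]
  exact mem_centralizer_iff.1 hx _ hv

theorem chain_inv {𝒱 : Set (Subgroup S)} (hV : Closed p 𝒱) (α : S ≃* S) (L : List (Link p S))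
    (hL : InFam 𝒱 L) {x y : S} (h : (α x, α y) ∈ Rel L) :
    ∃ L' : List (Link p S), InFam 𝒱 L' ∧ (x, y) ∈ Rel L' := by
  induction L generalizing y with
  | nil => exact ⟨[], fun _ h => absurd h (List.not_mem_nil), rel_nil.2 (α.injective (rel_nil.1 h))⟩
  | cons z L ih =>
    obtain ⟨w, hw, hwy⟩ := rel_cons.1 h
    rw [← α.apply_symm_apply w] at hw hwy
    obtain ⟨L', hL', hxw⟩ := ih (fun t ht => hL t (List.mem_cons_of_mem _ ht)) hw
    obtain ⟨i, g⟩ := z
    refine ⟨⟨i.twist α, g⟩ :: L', List.forall_mem_cons.2 ⟨?_, hL'⟩, rel_cons.2 ⟨_, hxw, hwy⟩⟩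
    exact hV.aut α _ (hL ⟨i, g⟩ List.mem_cons_self)

/-- The subgroup generated by all images of the values under chains. -/
def T0 (p : ℕ) [Fact p.Prime] (𝒱 : Set (Subgroup S)) : Subgroup S :=
  closure {y | ∃ X ∈ 𝒱, ∃ x ∈ X, ∃ L : List (Link p S), InFam 𝒱 L ∧ (x, y) ∈ Rel L}

theorem le_T0 {𝒱 : Set (Subgroup S)} {X : Subgroup S} (hX : X ∈ 𝒱) : X ≤ T0 p 𝒱 := fun x hx =>
  subset_closure ⟨X, hX, x, hx, [], fun _ h => absurd h List.not_mem_nil, rel_nil.2 rfl⟩

theorem T0_comap_le {𝒱 : Set (Subgroup S)} (hV : Closed p 𝒱) (α : S ≃* S) :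
    (T0 p 𝒱).comap α.toMonoidHom ≤ T0 p 𝒱 := by
  have hle : T0 p 𝒱 ≤ (T0 p 𝒱).comap α.symm.toMonoidHom := (closure_le _).2 (by
    rintro y ⟨X, hX, x, hx, L, hL, hxy⟩
    rw [← α.apply_symm_apply x, ← α.apply_symm_apply y] at hxy
    obtain ⟨L', hL', h'⟩ := chain_inv hV α L hL hxy
    exact subset_closure ⟨_, hV.aut α X hX, α.symm x, by simpa using hx, L', hL', h'⟩)
  intro x hx
  have := hle hx
  simpa using this

/-- A subgroup large among those in `T0` and stable there under conjugation is normal in each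
group of the family. -/
theorem image_le {𝒱 : Set (Subgroup S)} (B : Base p S) (hall : ∀ Y ∈ 𝒱, T0 p 𝒱 ≤ C Y)
    {T : Subgroup S} (hT : Large T) (hT0 : T ≤ T0 p 𝒱) (hmax : ∀ U, Large U → U ≤ T0 p 𝒱 → U ≤ T)
    {i : Mem p S} (hi : i.V ∈ 𝒱) (hiT : i.V ≤ T) : (T.map i.τ).Normal := by
  refine ⟨fun w hw g => ?_⟩
  obtain ⟨x, hx, rfl⟩ := hw
  set T' := ((T.map i.τ).map (MulAut.conj g).toMonoidHom).comap i.τ with hT'
  have hTQ : T0 p 𝒱 ≤ i.Q := i.C_V B ▸ hall _ hi
  have hmap : ∀ U : Subgroup S, U ≤ i.Q →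
      (((U.map i.τ).map (MulAut.conj g).toMonoidHom).comap i.τ).map i.τ =
        (U.map i.τ).map (MulAut.conj g).toMonoidHom := fun U hU => by
    refine le_antisymm (map_comap_le _ _) fun y hy => ?_
    obtain ⟨_, ⟨u, hu, rfl⟩, rfl⟩ := hy
    obtain ⟨s, hs⟩ := exists_step i g (hU hu)
    exact ⟨s, mem_comap.2 ⟨_, mem_map_of_mem i.τ hu, hs.2⟩, hs.2.symm⟩
  have hcard : ∀ U : Subgroup S, U ≤ i.Q →
      Nat.card (((U.map i.τ).map (MulAut.conj g).toMonoidHom).comap i.τ) = Nat.card U :=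
    fun U hU => by
      rw [← card_map_of_injective (K := ((U.map i.τ).map (MulAut.conj g).toMonoidHom).comap i.τ) i.inj,
        hmap U hU, card_map_of_injective (MulAut.conj g).injective, card_map_of_injective i.inj]
  have hCQ : C T ≤ i.Q := i.C_V B ▸ C_antitone hiT
  have hle : T' ≤ T0 p 𝒱 := by
    intro y hy
    obtain ⟨_, ⟨u, hu, rfl⟩, he⟩ := hy
    have hstep : (u, y) ∈ step i g := ⟨hTQ (hT0 hu), he⟩
    have hgen : ∀ v ∈ T0 p 𝒱, ∃ v', (v, v') ∈ step i g ∧ v' ∈ T0 p 𝒱 := by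
      intro v hv
      induction hv using Subgroup.closure_induction with
      | mem v hv =>
        obtain ⟨X, hX, a, ha, L, hL, haL⟩ := hv
        obtain ⟨v', hv'⟩ := exists_step i g
          (hTQ (subset_closure ⟨X, hX, a, ha, L, hL, haL⟩))
        exact ⟨v', hv', subset_closure ⟨X, hX, a, ha, ⟨i, g⟩ :: L,
          List.forall_mem_cons.2 ⟨hi, hL⟩, rel_cons.2 ⟨v, haL, hv'⟩⟩⟩
      | one => exact ⟨1, (step i g).one_mem, one_mem _⟩
      | mul a b _ _ ha hb =>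
        obtain ⟨a', ha', ha''⟩ := ha
        obtain ⟨b', hb', hb''⟩ := hb
        exact ⟨a' * b', (step i g).mul_mem ha' hb', mul_mem ha'' hb''⟩
      | inv a _ ha =>
        obtain ⟨a', ha', ha''⟩ := ha
        exact ⟨a'⁻¹, (step i g).inv_mem ha', inv_mem ha''⟩
    obtain ⟨v', hv', hv''⟩ := hgen u (hT0 hu)
    rwa [rel_unique ((rel_single (z := (⟨i, g⟩ : Link p S))).2 hstep)
      ((rel_single (z := (⟨i, g⟩ : Link p S))).2 hv')]
  have hL' : Large T' := by
    refine hT.congr ?_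
    unfold LocalB.CD.m
    rw [hcard T (hT0.trans hTQ), ← hcard (C T) hCQ]
    refine Nat.mul_le_mul_left _ (card_le_of_le fun c hc => mem_centralizer_iff.2 fun v hv => i.inj ?_)
    obtain ⟨_, ⟨c', hc', rfl⟩, hce⟩ := hc
    obtain ⟨_, ⟨v', hv', rfl⟩, hve⟩ := hv
    rw [map_mul, map_mul, ← hce, ← hve, ← map_mul, ← map_mul (MulAut.conj g).toMonoidHom,
      ← map_mul, ← map_mul, mem_centralizer_iff.1 hc' v' hv']
  obtain ⟨y, hy⟩ := exists_step i g (hTQ (hT0 hx))
  exact ⟨y, hmax T' hL' hle (mem_comap.2 ⟨_, mem_map_of_mem i.τ hx, hy.2⟩), hy.2.symm⟩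

theorem C_map_normal (B : Base p S) {T : Subgroup S} {i : Mem p S} (hiT : i.V ≤ T)
    (hn : (T.map i.τ).Normal) : ((C T).map i.τ).Normal := by
  have hCQ : C T ≤ i.Q := i.C_V B ▸ C_antitone hiT
  have e : (C T).map i.τ = Cfsg.pCore p i.G ⊓ centralizer (T.map i.τ : Set i.G) := by
    refine le_antisymm (fun y hy => ?_) fun y hy => ?_
    · obtain ⟨c, hc, rfl⟩ := hy
      refine ⟨hCQ hc, mem_centralizer_iff.2 ?_⟩
      rintro _ ⟨v, hv, rfl⟩
      rw [← map_mul, ← map_mul, mem_centralizer_iff.1 hc v hv]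
    · obtain ⟨c, -, rfl⟩ := i.exists_τ_core hy.1
      exact mem_map_of_mem _ (mem_centralizer_iff.2 fun v hv => i.inj (by
        rw [map_mul, map_mul]
        exact mem_centralizer_iff.1 hy.2 _ (mem_map_of_mem i.τ hv)))
  haveI := pCore_isNormal (p := p) (G := i.G)
  haveI := hn
  rw [e]
  infer_instance

/-- **One pair for all groups over `S`.** -/
theorem exists_pair_of_base (B : Base p S) (hs0 : s0 p S ≠ ⊥) :
    ∃ S₁ S₂ : Subgroup S, S₁ ≠ ⊥ ∧ S₁.Characteristic ∧ S₁ ≤ center S ∧ S₂.Characteristic ∧ CL S₂ ∧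
      ∀ i : Mem p S, (S₁.map i.τ).Normal ∨ (S₂.map i.τ).Normal := by
  classical
  by_cases hne : (W1 p S \ Endp p S).Nonempty
  swap
  · haveI := s0_characteristic (p := p) (S := S)
    refine ⟨s0 p S ⊓ center S, ⊤, exists_central B.isP hs0, inferInstance, inf_le_right,
      inferInstance, ⟨B.large, le_top⟩, fun i => Or.inl (normal_of_le_center ?_)⟩
    rintro _ ⟨z, ⟨hz, hzc⟩, rfl⟩
    refine mem_center_iff.2 fun g => z0_central (show i.τ z ∈ z0 p i.G from ?_) g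
    by_cases hi : i.V ∈ W1 p S
    · exact endp_central B (by_contra fun hE => hne ⟨_, hi, hE⟩) hz hzc
    · exact apart_central B hi hz hzc
  obtain ⟨𝒱, ⟨hV, hV0, -⟩, hmin⟩ := Set.Finite.exists_minimal
    (s := {U : Set (Subgroup S) | Closed p U ∧ U.Nonempty ∧ U ⊆ W1 p S \ Endp p S}) (Set.toFinite _)
    ⟨_, closed_rest B, hne, le_rfl⟩
  have hfam : Fam p 𝒱 :=
    ⟨fun X hX => (hV.sub hX).1, fun X hX Y hY => fam_W1.comm X (hV.sub hX) Y (hV.sub hY)⟩
  have h1 : ∀ X z Y, ¬ Crit (p := p) 𝒱 X [z] Y := fun X z Y hc => hV.ends X hc.head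
    ⟨z, Y, hV.sub hc.head, hV.sub hc.last, fun t ht => hV.sub (hc.fam t ht), hc.bad⟩
  have hfed : Fed p 𝒱 ∨ ∀ X ∈ 𝒱, ∀ i : Mem p S, i.V ∈ 𝒱 → ¬ Edge X i := by
    refine or_iff_not_imp_left.2 fun hnf => ?_
    simp only [Fed, not_forall, not_exists, not_and] at hnf
    obtain ⟨x₀, hx₀, hno⟩ := hnf
    set O : Set (Subgroup S) := {X | ∃ α : S ≃* S, x₀.comap α.toMonoidHom = X} with hO
    have hnoO : ∀ X ∈ O, ∀ a : Mem p S, a.V = X → ∀ Y ∈ 𝒱, ¬ Edge Y a := by
      rintro _ ⟨α, rfl⟩ a ha Y hY he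
      refine hno (a.twist α.symm) (by rw [Mem.twist_V, ha, comap_symm]) (Y.comap α.symm.toMonoidHom)
        (hV.aut α.symm Y hY) fun hd => he ?_
      exact (a.twist_deg α.symm).1 hd
    have hsub : 𝒱 ⊆ O := by
      by_contra hns
      obtain ⟨X, hX, hXO⟩ := Set.not_subset.1 hns
      have hcl : Closed p (𝒱 \ O) := by
        refine ⟨fun Y hY => hV.sub hY.1, fun Y hY => hV.ends Y hY.1, fun α Y hY =>
          ⟨hV.aut α Y hY.1, ?_⟩, fun Y hY i hi he =>
            ⟨hV.fwd Y hY.1 i hi he, fun hiO => hnoO _ hiO i rfl Y hY.1 he⟩⟩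
        rintro ⟨β, hβ⟩
        refine hY.2 ⟨α.symm.trans β, ?_⟩
        rw [← comap_symm α Y, ← hβ]
        rfl
      have := hmin (y := 𝒱 \ O) ⟨hcl, ⟨X, hX, hXO⟩, fun Y hY =>
        ⟨hV.sub hY.1, hV.ends Y hY.1⟩⟩ Set.sdiff_subset hx₀
      exact this.2 ⟨MulEquiv.refl S, by ext; simp⟩
    exact fun X hX i hi => hnoO _ (hsub hi) i rfl X hX
  have hgood := good_all B hfam h1 hfed
  have hall : ∀ Y ∈ 𝒱, T0 p 𝒱 ≤ C Y := fun Y hY => (closure_le _).2 (by
    rintro y ⟨X, hX, x, hx, L, hL, hxy⟩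
    exact (hgood (L.length + 1)).image hL (Nat.lt_succ_self _) hX hx hxy hY)
  set T := sSup {U : Subgroup S | Large U ∧ U ≤ T0 p 𝒱} with hT
  have hval : ∀ X ∈ 𝒱, Large X ∧ X ≤ T0 p 𝒱 := fun X hX => by
    obtain ⟨i, rfl⟩ := hfam.val X hX
    exact ⟨i.large_V B, le_T0 hX⟩
  have hTL : Large T := by
    obtain ⟨X, hX⟩ := hV0
    exact large_sSup _ ⟨X, hval X hX⟩ fun U hU => hU.1
  have hT0 : T ≤ T0 p 𝒱 := sSup_le fun U hU => hU.2
  have hmax : ∀ U, Large U → U ≤ T0 p 𝒱 → U ≤ T := fun U h h' => le_sSup ⟨h, h'⟩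
  haveI hTc : T.Characteristic := characteristic_iff_comap_le.2 fun α =>
    hmax _ (large_comap α hTL) ((comap_mono hT0).trans (T0_comap_le hV α))
  haveI hUc : (sSup 𝒱).Characteristic := characteristic_iff_le_comap.2 fun α => sSup_le fun X hX =>
    fun x hx => by
      have := (le_sSup (hV.aut α.symm X hX) : _ ≤ sSup 𝒱) (show α x ∈ X.comap α.symm.toMonoidHom by
        simpa using hx)
      exact this
  refine ⟨⁅sSup 𝒱, (⊤ : Subgroup S)⁆, T ⊔ C T, ?_, inferInstance, ?_, inferInstance,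
    ⟨hTL.sup hTL.centralizer.1, by rw [C_sup]; exact inf_le_left.trans le_sup_right⟩, fun j => ?_⟩
  · intro hbot
    obtain ⟨X, hX⟩ := hV0
    obtain ⟨i, rfl⟩ := hfam.val X hX
    obtain ⟨v, hv, s, hs⟩ := i.exists_R_not_z0 B
    have h2 : ⁅v, s⁆ = 1 := by
      rw [← mem_bot, ← hbot]
      exact commutator_mem_commutator (le_sSup hX hv) (mem_top s)
    exact hs (by
      rw [show s * v * s⁻¹ * v⁻¹ = ⁅v, s⁆⁻¹ by rw [commutatorElement_def]; group, h2, inv_one,
        map_one]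
      exact one_mem _)
  · refine commutator_le.2 fun u hu s _ => ?_
    have hle : sSup 𝒱 ≤ Subgroup.upperCentralSeriesStep (center S) := sSup_le fun X hX x hx t => by
      obtain ⟨i, rfl⟩ := hfam.val X hX
      have := inv_mem (i.quad B hx t)
      rwa [show (t * x * t⁻¹ * x⁻¹)⁻¹ = x * t * x⁻¹ * t⁻¹ by group] at this
    exact hle hu s
  by_cases hj : j.V ∈ 𝒱
  · right
    have hjT : j.V ≤ T := hmax _ (j.large_V B) (le_T0 hj)
    have hn := image_le B hall hTL hT0 hmax hj hjT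
    haveI := hn
    haveI := C_map_normal B hjT hn
    rw [Subgroup.map_sup]
    infer_instance
  · left
    refine normal_of_le_center ?_
    rintro _ ⟨w, hw, rfl⟩
    refine mem_center_iff.2 fun g => z0_central (?_ : w ∈ (z0 p j.G).comap j.τ) g
    haveI : ((z0 p j.G).comap j.τ).Normal := (PushL2.z0_normal (p := p) (G := j.G)).comap j.τ
    refine (commutator_le.2 fun u hu s _ => ?_) hw
    have hle : sSup 𝒱 ≤ Subgroup.upperCentralSeriesStep ((z0 p j.G).comap j.τ) :=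
      sSup_le fun X hX x hx t => by
        show j.τ (x * t * x⁻¹ * t⁻¹) ∈ z0 p j.G
        have h2 : j.τ (t * x * t⁻¹ * x⁻¹) ∈ z0 p j.G := by
          by_cases hjW : j.V ∈ W1 p S
          · obtain ⟨c, rfl⟩ := hfam.val X hX
            exact (show Deg c.V j from by_contra fun he => hj (hV.fwd _ hX j hjW he)).comm_z0 B
              (fun h => hj (h ▸ hX)) hx t
          · exact apart_comm B hjW (hV.sub hX) hx t
        have h3 := inv_mem h2
        rwa [← map_inv, show (t * x * t⁻¹ * x⁻¹)⁻¹ = x * t * x⁻¹ * t⁻¹ by group] at h3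
    exact hle hu s

end CfsgLib.PushL2.Pair
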