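import Cfsg.Agent.PushL2.Ambient
import Cfsg.Agent.PushL2.CentrallyLarge
import Cfsg.Agent.Fusion.InnerZJ

/-!
The groups containing a fixed `p`-group `S` as a Sylow subgroup over a quotient `PSL₂(q)` with
`Z(S)` not central, read inside `S`: `V = Ω₁Z(O_p(G))`, `Q = O_p(G)` and when `G` normalises
a twist of `V` modulo its own.
-/

set_option autoImplicit false
set_option linter.unusedSectionVars false
set_option linter.style.haveILetI false

universe u

namespace CfsgLib.PushL2.Pair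

open Subgroup
open CfsgLib.LocalB.CD (C Large m le_C_iff C_antitone)

/-- The standing hypotheses on `S`: `J̃(S) = S`, `Z(S)` is elementary, and `|X| |C(X)| ≤ |S| |Z(S)|`
for every subgroup `X`. -/
structure Base (p : ℕ) (S : Type u) [Group S] : Prop where
  isP : IsPGroup p S
  zj : Fusion.centerThompsonA S ≤ center S
  elem : ∀ z ∈ center S, z ^ p = 1
  large : Large (⊤ : Subgroup S)

/-- A group containing `S` as a Sylow subgroup in the situation studied. -/
structure Mem (p : ℕ) [Fact p.Prime] (S : Type u) [Group S] : Type (u + 1) where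
  G : Type u
  [grp : Group G]
  [fin : Finite G]
  τ : S →* G
  inj : Function.Injective τ
  P : Sylow p G
  range_eq : τ.range = (P : Subgroup G)
  q : ℕ
  M : Subgroup G
  core : Core p P
  ctx : Ctx p P q M
  hZ : ¬ centerIn (P : Subgroup G) ≤ center G
  F : Type
  [field : Field F]
  [finF : Finite F]
  cardF : Nat.card F = q

attribute [instance] Mem.grp Mem.fin Mem.field Mem.finF

variable {p : ℕ} [Fact p.Prime] {S : Type u} [Group S]

namespace Mem

variable (i : Mem p S)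

/-- `O_p(G)` inside `S`. -/
def Q : Subgroup S := (Cfsg.pCore p i.G).comap i.τ

/-- `Ω₁Z(O_p(G))` inside `S`. -/
def V : Subgroup S := (omega p i.G).comap i.τ

theorem τ_mem (s : S) : i.τ s ∈ (i.P : Subgroup i.G) := i.range_eq ▸ ⟨s, rfl⟩

theorem exists_τ {x : i.G} (hx : x ∈ (i.P : Subgroup i.G)) : ∃ s, i.τ s = x := by
  rw [← i.range_eq] at hx; exact hx

theorem exists_τ_core {x : i.G} (hx : x ∈ Cfsg.pCore p i.G) : ∃ s ∈ i.Q, i.τ s = x := by
  obtain ⟨s, rfl⟩ := i.exists_τ (i.core.le_S hx)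
  exact ⟨s, hx, rfl⟩

theorem exists_τ_omega {x : i.G} (hx : x ∈ omega p i.G) : ∃ s ∈ i.V, i.τ s = x := by
  obtain ⟨s, rfl⟩ := i.exists_τ (i.core.le_S (omega_le hx))
  exact ⟨s, hx, rfl⟩

theorem map_V : i.V.map i.τ = omega p i.G :=
  le_antisymm (map_comap_le _ _) fun _ hx => i.exists_τ_omega hx

theorem map_Q : i.Q.map i.τ = Cfsg.pCore p i.G :=
  le_antisymm (map_comap_le _ _) fun _ hx => i.exists_τ_core hx

instance normalV : i.V.Normal := (omega_normal (p := p) (G := i.G)).comap i.τ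

instance normalQ : i.Q.Normal := (pCore_isNormal (p := p) (G := i.G)).comap i.τ

theorem V_le_Q : i.V ≤ i.Q := comap_mono omega_le

theorem exists_not_mem_Q : ∃ s, s ∉ i.Q := by
  obtain ⟨x, hx, hxQ⟩ := SetLike.not_le_iff_exists.1 i.core.ne
  obtain ⟨s, rfl⟩ := i.exists_τ hx
  exact ⟨s, hxQ⟩

theorem exists_not_mem_M : ∃ h : i.G, h ∉ i.M := by
  by_contra hall
  push Not at hall
  exact i.ctx.top (top_le_iff.1 fun g _ => hall g)

theorem map_center : (center S).map i.τ = centerIn (i.P : Subgroup i.G) := by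
  refine le_antisymm ?_ fun x hx => ?_
  · rintro _ ⟨z, hz, rfl⟩
    refine ⟨i.τ_mem z, mem_centralizer_iff.2 fun y hy => ?_⟩
    obtain ⟨s, rfl⟩ := i.exists_τ hy
    rw [← map_mul, ← map_mul, mem_center_iff.1 hz s]
  · obtain ⟨s, rfl⟩ := i.exists_τ hx.1
    exact ⟨s, mem_center_iff.2 fun t => i.inj (by
      rw [map_mul, map_mul]; exact mem_centralizer_iff.1 hx.2 _ (i.τ_mem t)), rfl⟩

variable [Finite S]

theorem card_S : Nat.card S = Nat.card (i.P : Subgroup i.G) := by
  rw [← i.range_eq]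
  exact Nat.card_congr (MonoidHom.ofInjective i.inj).toEquiv

theorem std (B : Base p S) : Std p i.P i.q i.M := by
  refine PushL2.std i.core i.ctx i.hZ fun hJ => i.core.ne ?_
  have hn := inf_centralizer_normal i.core i.hZ hJ
  rw [inf_eq_left.2] at hn
  · exact le_pCore_of_normal hn i.P.isPGroup'
  · intro x hx
    obtain ⟨s, rfl⟩ := i.exists_τ hx
    refine mem_centralizer_iff.2 fun y hy => ?_
    rw [← i.range_eq, Fusion.centerThompsonAOf_range i.τ i.inj] at hy
    obtain ⟨z, hz, rfl⟩ := hy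
    rw [← map_mul, ← map_mul, mem_center_iff.1 (B.zj hz) s]

theorem mem_zs_iff (B : Base p S) {x : S} : i.τ x ∈ zs i.P ↔ x ∈ center S := by
  constructor
  · intro h
    refine mem_center_iff.2 fun t => i.inj ?_
    rw [map_mul, map_mul]
    exact ((mem_zs i.core).1 h).2.2 _ (i.τ_mem t)
  · intro h
    refine (mem_zs i.core).2 ⟨i.τ_mem x, by rw [← map_pow, B.elem x h, map_one], fun y hy => ?_⟩
    obtain ⟨t, rfl⟩ := i.exists_τ hy
    rw [← map_mul, ← map_mul, mem_center_iff.1 h t]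

theorem map_center_eq_zs (B : Base p S) : (center S).map i.τ = zs i.P := by
  refine le_antisymm ?_ fun x hx => ?_
  · rintro _ ⟨z, hz, rfl⟩
    exact (i.mem_zs_iff B).2 hz
  · obtain ⟨s, rfl⟩ := i.exists_τ ((mem_zs i.core).1 hx).1
    exact ⟨s, (i.mem_zs_iff B).1 hx, rfl⟩

theorem mem_center_of_z0 (B : Base p S) {x : S} (hx : i.τ x ∈ z0 p i.G) : x ∈ center S :=
  (i.mem_zs_iff B).1 (z0_le_zs hx)

theorem center_le_V (B : Base p S) : center S ≤ i.V := fun _ hz =>
  zs_le_V ((i.mem_zs_iff B).2 hz)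

theorem quad (B : Base p S) {v : S} (hv : v ∈ i.V) (s : S) : s * v * s⁻¹ * v⁻¹ ∈ center S := by
  rw [← i.mem_zs_iff B]
  simpa using (i.std B).quad _ hv _ (i.τ_mem s)

theorem C_V (B : Base p S) : C i.V = i.Q := by
  refine le_antisymm (fun x hx => ?_) fun x hx => mem_centralizer_iff.2 fun v hv => i.inj ?_
  · refine (i.std B).commute_conj_mem (i.τ_mem x) fun v hv => ?_
    obtain ⟨w, hw, rfl⟩ := i.exists_τ_omega hv
    rw [← map_mul, ← map_mul, mem_centralizer_iff.1 hx w hw]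
  · rw [map_mul, map_mul]
    exact omega_commute hv hx

theorem V_comm (B : Base p S) : i.V ≤ C i.V := (i.C_V B).symm ▸ i.V_le_Q

theorem pow_V {v : S} (hv : v ∈ i.V) : v ^ p = 1 := i.inj (by rw [map_pow, map_one]; exact hv.2)

theorem card_V (B : Base p S) : Nat.card i.V = i.q * Nat.card (center S) := by
  rw [← card_map_of_injective (K := i.V) i.inj, i.map_V, (i.std B).card_V,
    ← i.map_center_eq_zs B, card_map_of_injective i.inj]

theorem card_Q : Nat.card S = i.q * Nat.card i.Q := by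
  rw [i.card_S, i.ctx.card_S, ← i.map_Q, card_map_of_injective i.inj]

theorem q_pos : 1 < i.q := i.ctx.one_lt

theorem not_V_le_center (B : Base p S) : ¬ i.V ≤ center S := fun h => by
  have := card_le_of_le h
  rw [i.card_V B] at this
  have h1 := i.q_pos
  have h2 : 0 < Nat.card (center S) := Nat.card_pos
  nlinarith

/-- An element of `S` outside `O_p(G)` moving `v ∈ V` by an element of `C_V(G)` fixes it. -/
theorem key (B : Base p S) {s v : S} (hs : s ∉ i.Q) (hv : v ∈ i.V)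
    (h : i.τ (s * v * s⁻¹ * v⁻¹) ∈ z0 p i.G) : v ∈ center S :=
  (i.mem_zs_iff B).1 ((i.std B).linesV.key i.ctx (i.τ_mem s) hs hv (by simpa using h))

theorem key_commute (B : Base p S) {s v : S} (hs : s ∉ i.Q) (hv : v ∈ i.V) (h : Commute s v) :
    v ∈ center S :=
  i.key B hs hv (by rw [h.eq]; simp)

theorem exists_R_not_z0 (B : Base p S) :
    ∃ v ∈ i.V, ∃ s, i.τ (s * v * s⁻¹ * v⁻¹) ∉ z0 p i.G := by
  obtain ⟨v, hv, hvZ⟩ := SetLike.not_le_iff_exists.1 (i.not_V_le_center B)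
  obtain ⟨s, hs⟩ := i.exists_not_mem_Q
  exact ⟨v, hv, s, fun h => hvZ (i.key B hs hv h)⟩

theorem C_top : C (⊤ : Subgroup S) = center S := by
  rw [C, coe_top, centralizer_univ]

theorem large_V (B : Base p S) : Large i.V := B.large.congr (le_of_eq (by
  unfold LocalB.CD.m
  rw [i.C_V B, i.card_V B, C_top, card_top, i.card_Q]
  ring))

theorem C_Q (B : Base p S) : C i.Q = i.V := i.C_V B ▸ (i.large_V B).centralizer.2

theorem V_eq_iff_Q_eq (B : Base p S) (j : Mem p S) : i.V = j.V ↔ i.Q = j.Q :=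
  ⟨fun h => by rw [← i.C_V B, ← j.C_V B, h], fun h => by rw [← i.C_Q B, ← j.C_Q B, h]⟩

/-- Two different commuting values meet in `Z(S)` and their centralisers generate `S`. -/
theorem sup_Q (B : Base p S) {j : Mem p S} (hne : i.V ≠ j.V) : i.Q ⊔ j.Q = ⊤ := by
  have hle : i.V ⊓ j.V ≤ center S := by
    intro v hv
    have hcomm : ∀ (l : Mem p S), v ∈ l.V → ∀ x ∈ l.Q, Commute x v := fun l hl x hx => by
      rw [← l.C_V B] at hx
      exact (mem_centralizer_iff.1 hx v hl).symm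
    by_cases h : i.Q ≤ j.Q
    · obtain ⟨s, hs, hsQ⟩ := SetLike.not_le_iff_exists.1
        (fun h' : j.Q ≤ i.Q => hne ((i.V_eq_iff_Q_eq B j).2 (le_antisymm h h')))
      exact i.key_commute B hsQ hv.1 (hcomm j hv.2 s hs)
    · obtain ⟨s, hs, hsQ⟩ := SetLike.not_le_iff_exists.1 h
      exact j.key_commute B hsQ hv.2 (hcomm i hv.1 s hs)
  rw [← i.C_V B, ← j.C_V B, ← (i.large_V B).C_inf (j.large_V B), eq_top_iff]
  exact fun s _ => mem_centralizer_iff.2 fun v hv => (mem_center_iff.1 (hle hv) s).symm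

end Mem

/-- `G` shifts `X` only by elements of its own `V`. -/
def Deg (X : Subgroup S) (i : Mem p S) : Prop :=
  ∀ g : i.G, ∀ x ∈ X, g * i.τ x * g⁻¹ * (i.τ x)⁻¹ ∈ omega p i.G

/-- The negation of `Deg`. -/
def Edge (X : Subgroup S) (i : Mem p S) : Prop := ¬ Deg X i

theorem deg_self (i : Mem p S) : Deg i.V i := fun g _ hx =>
  (omega p i.G).mul_mem (omega_normal.conj_mem _ hx g) ((omega p i.G).inv_mem hx)

/-- A degenerate twist meets the `p`-core in commutators fixed by `G`. -/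
theorem Deg.core_z0 [Finite S] (B : Base p S) {i c : Mem p S} (hd : Deg c.V i) {x r : S}
    (hx : x ∈ c.V) (hr : r ∈ i.Q) : i.τ (r * x * r⁻¹ * x⁻¹) ∈ z0 p i.G := by
  obtain ⟨h, hh⟩ := i.exists_not_mem_M
  set w := i.τ (r * x * r⁻¹ * x⁻¹) with hw
  have hwz : w ∈ zs i.P := (i.mem_zs_iff B).2 (c.quad B hx r)
  rw [← (i.std B).inf_conj h hh]
  refine ⟨hwz, h⁻¹ * w * h, ?_, by simp [mul_assoc]⟩
  obtain ⟨r', hr', hre⟩ := i.exists_τ_core (x := h⁻¹ * i.τ r * h)
    (by simpa using pCore_isNormal.conj_mem _ hr h⁻¹)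
  set v := h⁻¹ * i.τ x * h⁻¹⁻¹ * (i.τ x)⁻¹ with hv
  have hvV : v ∈ omega p i.G := hd h⁻¹ x hx
  have hz : i.τ (r' * x * r'⁻¹ * x⁻¹) ∈ zs i.P := (i.mem_zs_iff B).2 (c.quad B hx r')
  have e1 : h⁻¹ * w * h = i.τ r' * (v * i.τ x) * (i.τ r')⁻¹ * (v * i.τ x)⁻¹ := by
    rw [hre, hv, hw, map_mul, map_mul, map_mul, map_inv, map_inv]
    group
  have e2 : h⁻¹ * w * h = i.τ (r' * x * r'⁻¹ * x⁻¹) := by
    have c1 : i.τ r' * v = v * i.τ r' := (omega_commute hvV hr').symm
    have c2 := omega_commute hvV (omega_le (zs_le_V hz))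
    rw [e1, show i.τ r' * (v * i.τ x) * (i.τ r')⁻¹ * (v * i.τ x)⁻¹ =
      (i.τ r' * v) * i.τ x * (i.τ r')⁻¹ * (i.τ x)⁻¹ * v⁻¹ by group, c1,
      show v * i.τ r' * i.τ x * (i.τ r')⁻¹ * (i.τ x)⁻¹ * v⁻¹ =
        v * i.τ (r' * x * r'⁻¹ * x⁻¹) * v⁻¹ by
          rw [map_mul, map_mul, map_mul, map_inv, map_inv]; group, c2, mul_inv_cancel_right]
  rw [e2]
  exact hz

/-- A degenerate twist is moved by `S` into the fixed points of `G`. -/
theorem Deg.comm_z0 [Finite S] (B : Base p S) {i c : Mem p S} (hd : Deg c.V i)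
    (hne : c.V ≠ i.V) {x : S} (hx : x ∈ c.V) (s : S) :
    i.τ (s * x * s⁻¹ * x⁻¹) ∈ z0 p i.G := by
  obtain ⟨r, hr, r', hr', rfl⟩ := mem_sup_of_normal_left.1
    (show s ∈ i.Q ⊔ c.Q by rw [i.sup_Q B (Ne.symm hne)]; exact mem_top s)
  rw [← c.C_V B] at hr'
  have hc : Commute r' x := (mem_centralizer_iff.1 hr' x hx).symm
  rw [show r * r' * x * (r * r')⁻¹ * x⁻¹ = r * (r' * x) * r'⁻¹ * r⁻¹ * x⁻¹ by group, hc.eq,
    show r * (x * r') * r'⁻¹ * r⁻¹ * x⁻¹ = r * x * r⁻¹ * x⁻¹ by group]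
  exact hd.core_z0 B hx hr

namespace Mem

variable (i : Mem p S) (α : S ≃* S)

/-- The same group, entered through an automorphism of `S`. -/
def twist : Mem p S where
  G := i.G
  τ := i.τ.comp α.toMonoidHom
  inj := i.inj.comp α.injective
  P := i.P
  range_eq := by
    rw [← i.range_eq]
    rw [MonoidHom.range_comp, MonoidHom.range_eq_top.2 α.surjective, ← MonoidHom.range_eq_map]
  q := i.q
  M := i.M
  core := i.core
  ctx := i.ctx
  hZ := i.hZ
  F := i.F
  cardF := i.cardF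

theorem twist_V : (i.twist α).V = i.V.comap α.toMonoidHom := rfl

theorem twist_Q : (i.twist α).Q = i.Q.comap α.toMonoidHom := rfl

theorem twist_deg {X : Subgroup S} :
    Deg (X.comap α.toMonoidHom) (i.twist α) ↔ Deg X i := by
  constructor
  · intro h g x hx
    have := h g (α.symm x) (by simpa using hx)
    change g * i.τ (α (α.symm x)) * g⁻¹ * (i.τ (α (α.symm x)))⁻¹ ∈ omega p i.G at this
    rwa [α.apply_symm_apply] at this
  · intro h g x hx
    exact h g (α x) hx

end Mem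

end CfsgLib.PushL2.Pair
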