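import Cfsg.Agent.PushL2.PairMem
import Cfsg.Agent.PushL2.PairKernel
import Cfsg.Agent.Solvable.PGroupBasic

/-!
The characteristic subgroup `S₀` and when its part in `Z(S)` is centralised by a group over `S`.
-/

set_option autoImplicit false
set_option linter.unusedSectionVars false
set_option linter.style.haveILetI false

universe u

namespace CfsgLib.PushL2.Pair

open Subgroup
open scoped commutatorElement

variable {p : ℕ} [Fact p.Prime] {S : Type u} [Group S]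

/-- `[Φ,S]Φ(Φ)` for `p = 2`, `[[Φ,S],S]Φ(Φ)` for `p = 3`, `[Φ,S]℧¹(S)` otherwise. -/
def s0 (p : ℕ) (S : Type u) [Group S] : Subgroup S :=
  if p = 2 then ⁅frattini S, (⊤ : Subgroup S)⁆ ⊔ (frattini ↥(frattini S)).map (frattini S).subtype
  else if p = 3 then ⁅⁅frattini S, (⊤ : Subgroup S)⁆, (⊤ : Subgroup S)⁆ ⊔
    (frattini ↥(frattini S)).map (frattini S).subtype
  else ⁅frattini S, (⊤ : Subgroup S)⁆ ⊔ Cfsg.powerClosure p 1 (⊤ : Subgroup S)

theorem powerClosure_characteristic (n : ℕ) :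
    (Cfsg.powerClosure p n (⊤ : Subgroup S)).Characteristic := by
  refine characteristic_iff_map_le.2 fun α => ?_
  rw [Cfsg.powerClosure, MonoidHom.map_closure]
  refine closure_mono ?_
  rintro _ ⟨_, ⟨x, -, rfl⟩, rfl⟩
  exact ⟨α x, mem_top _, map_pow α.toMonoidHom x _⟩

theorem s0_characteristic : (s0 p S).Characteristic := by
  haveI := powerClosure_characteristic (p := p) (S := S) 1
  haveI : ((frattini ↥(frattini S)).map (frattini S).subtype).Characteristic := inferInstance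
  unfold s0
  split_ifs <;> infer_instance

variable [Finite S]

theorem phiPhi_le (hS : IsPGroup p S) {U X : Subgroup S} (hΦ : frattini S ≤ U)
    (hc : ∀ u ∈ U, ∀ v ∈ U, u * v * u⁻¹ * v⁻¹ ∈ X) (hp : ∀ u ∈ U, u ^ p ∈ X) :
    (frattini ↥(frattini S)).map (frattini S).subtype ≤ X := by
  rw [map_frattini (hS.to_subgroup _)]
  refine (closure_le _).2 ?_
  rintro x (⟨a, ha, b, hb, rfl⟩ | ⟨a, ha, rfl⟩)
  · exact hc a (hΦ ha) b (hΦ hb)
  · exact hp a (hΦ ha)

/-- `S₀ ≤ X` when `Φ(S)` is central and of exponent `p` modulo `X`. -/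
theorem s0_le (hS : IsPGroup p S) {U X : Subgroup S} [X.Normal] (hΦ : frattini S ≤ U)
    (hc : ∀ u ∈ U, ∀ s, u * s * u⁻¹ * s⁻¹ ∈ X) (hp : ∀ u ∈ U, u ^ p ∈ X)
    (hpow : p ≠ 2 → ∀ s : S, s ^ p ∈ X) : s0 p S ≤ X := by
  have h1 : ⁅frattini S, (⊤ : Subgroup S)⁆ ≤ X := commutator_le.2 fun u hu s _ => hc u (hΦ hu) s
  have h2 := phiPhi_le hS hΦ (fun u hu v _ => hc u hu v) hp
  unfold s0
  split_ifs with h h'
  · exact sup_le h1 h2
  · exact sup_le ((commutator_mono h1 le_rfl).trans (commutator_le_left X ⊤)) h2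
  · refine sup_le h1 ((closure_le _).2 ?_)
    rintro _ ⟨x, -, rfl⟩
    rw [pow_one]
    exact hpow h x

/-- `S₀ ≤ X` for `p = 3` when `Φ(S)` is moved by `S` twice into `X` and is elementary modulo it. -/
theorem s0_le_three (hS : IsPGroup p S) (hp3 : p = 3) {U W X : Subgroup S} (hΦ : frattini S ≤ U)
    (hUW : ∀ u ∈ U, ∀ s, u * s * u⁻¹ * s⁻¹ ∈ W) (hWX : ∀ w ∈ W, ∀ s, w * s * w⁻¹ * s⁻¹ ∈ X)
    (hc : ∀ u ∈ U, ∀ v ∈ U, u * v * u⁻¹ * v⁻¹ ∈ X) (hp : ∀ u ∈ U, u ^ p ∈ X) : s0 p S ≤ X := by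
  unfold s0
  rw [if_neg (by omega), if_pos hp3]
  exact sup_le ((commutator_mono (commutator_le.2 fun u hu s _ => hUW u (hΦ hu) s) le_rfl).trans
    (commutator_le.2 fun w hw s _ => hWX w hw s)) (phiPhi_le hS hΦ hc hp)

theorem exists_central (hS : IsPGroup p S) {T : Subgroup S} [T.Normal] (hT : T ≠ ⊥) :
    T ⊓ center S ≠ ⊥ := by
  haveI := hS.isNilpotent
  obtain ⟨z, hzT, hz, hzc⟩ := PGroupBasic.exists_central_mod (⊥ : Subgroup S) T (bot_lt_iff_ne_bot.2 hT)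
  intro h
  refine hz ?_
  rw [← h]
  exact ⟨hzT, mem_center_iff.2 fun s =>
    (mul_inv_eq_iff_eq_mul.1 (mul_inv_eq_one.1 (mem_bot.1 (hzc s)))).symm⟩

/-- Where the `p'`-elements are trivial on `O_p(G)/V` and commuting elements of order `p` cover
`S` modulo `O_p(G)`, the central part of `S₀` is fixed by `G`. -/
theorem Mem.central_of_cover (i : Mem p S) (B : Base p S)
    (hT : Triv p (Cfsg.pCore p i.G) (omega p i.G)) (Y : Set S) (hYp : ∀ y ∈ Y, y ^ p = 1)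
    (hYc : ∀ y ∈ Y, ∀ y' ∈ Y, Commute y y') (hcov : ∀ s, ∃ y ∈ Y, y⁻¹ * s ∈ i.Q) {z : S}
    (hz : z ∈ s0 p S) (hzc : z ∈ center S) : i.τ z ∈ z0 p i.G := by
  have N := i.std B
  set X := fixCore p i.G with hX
  set Xs := X.comap i.τ with hXs
  haveI : Xs.Normal := (fixCore_normal (p := p) (G := i.G)).comap i.τ
  set U := (zs i.P ⊔ X).comap i.τ with hU
  have hdec : ∀ u ∈ U, ∃ a ∈ center S, ∃ x ∈ Xs, a * x = u := by
    intro u hu
    obtain ⟨a, ha, x, hx, he⟩ := mem_sup_of_normal_right.1 (show i.τ u ∈ zs i.P ⊔ X from hu)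
    obtain ⟨a', rfl⟩ := i.exists_τ ((mem_zs i.core).1 ha).1
    refine ⟨a', (i.mem_zs_iff B).1 ha, a'⁻¹ * u, ?_, by simp⟩
    show i.τ (a'⁻¹ * u) ∈ X
    rw [map_mul, map_inv, ← he, inv_mul_cancel_left]
    exact hx
  have hUc : ∀ u ∈ U, ∀ s, u * s * u⁻¹ * s⁻¹ ∈ Xs := by
    intro u hu s
    obtain ⟨a, ha, x, hx, rfl⟩ := hdec u hu
    have hc : Commute a (x * s * x⁻¹) := (mem_center_iff.1 ha _).symm
    rw [show a * x * s * (a * x)⁻¹ * s⁻¹ = a * (x * s * x⁻¹) * a⁻¹ * s⁻¹ by group, hc.eq,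
      mul_inv_cancel_right, show x * s * x⁻¹ * s⁻¹ = x * (s * x⁻¹ * s⁻¹) by group]
    exact mul_mem hx ((inferInstance : Xs.Normal).conj_mem _ (inv_mem hx) s)
  have hUp : ∀ u ∈ U, u ^ p ∈ Xs := by
    intro u hu
    obtain ⟨a, ha, x, hx, rfl⟩ := hdec u hu
    rw [(show Commute a x from (mem_center_iff.1 ha x).symm).mul_pow, B.elem a ha, one_mul]
    exact pow_mem hx p
  haveI hUn : U.Normal := by
    refine ⟨fun u hu s => ?_⟩
    have h1 : i.τ (u * s * u⁻¹ * s⁻¹) ∈ zs i.P ⊔ X :=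
      mem_sup_right (show _ ∈ X from hUc u hu s)
    have := mul_mem (inv_mem h1) (show i.τ u ∈ zs i.P ⊔ X from hu)
    rw [← map_inv, ← map_mul] at this
    show i.τ (s * u * s⁻¹) ∈ zs i.P ⊔ X
    convert this using 2
    group
  set π := QuotientGroup.mk' U with hπ
  have hπY : ∀ y ∈ Y, ∀ r ∈ i.Q, Commute (π y) (π r) := fun y hy r hr => commute_mk.2 (by
    show i.τ (y * r * y⁻¹ * r⁻¹) ∈ zs i.P ⊔ X
    simp only [map_mul, map_inv]
    exact N.move i.F i.cardF hT (i.τ_mem y) (by rw [← map_pow, hYp y hy, map_one]) hr)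
  have hπQ : ∀ r ∈ i.Q, ∀ r' ∈ i.Q, Commute (π r) (π r') := fun r hr r' hr' => commute_mk.2 (by
    show i.τ (r * r' * r⁻¹ * r'⁻¹) ∈ zs i.P ⊔ X
    simp only [map_mul, map_inv]
    exact mem_sup_right (Std.commutator_mem_fixCore hT hr hr'))
  have hQp : ∀ r ∈ i.Q, r ^ p ∈ Xs := fun r hr => by
    show i.τ (r ^ p) ∈ X
    rw [map_pow]
    exact Std.pow_mem_fixCore hT hr
  have hXU : Xs ≤ U := fun x hx => mem_sup_right (show i.τ x ∈ X from hx)
  have hab : ∀ s t : S, Commute (π s) (π t) := by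
    intro s t
    obtain ⟨y, hy, hr⟩ := hcov s
    obtain ⟨y', hy', hr'⟩ := hcov t
    rw [show s = y * (y⁻¹ * s) by group, show t = y' * (y'⁻¹ * t) by group, map_mul, map_mul π y']
    exact (((hYc y hy y' hy').map π).mul_right (hπY y hy _ hr')).mul_left
      (((hπY y' hy' _ hr).symm).mul_right (hπQ _ hr _ hr'))
  have hΦ : frattini S ≤ U := by
    refine PGroupBasic.frattini_le_of_elementary (p := p) U
      (commutator_le.2 fun s _ t _ => commute_mk.1 (hab s t)) fun s => ?_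
    obtain ⟨y, hy, hr⟩ := hcov s
    refine (QuotientGroup.eq_one_iff _).1 ?_
    show π (s ^ p) = 1
    rw [show s = y * (y⁻¹ * s) by group, map_pow, map_mul, (hπY y hy _ hr).mul_pow, ← map_pow,
      ← map_pow, hYp y hy, map_one, one_mul]
    exact (QuotientGroup.eq_one_iff _).2 (hXU (hQp _ hr))
  have hpow : p ≠ 2 → ∀ s : S, s ^ p ∈ Xs := by
    intro hp2 s
    obtain ⟨y, hy, hr⟩ := hcov s
    set r := y⁻¹ * s with hr'
    set π' := QuotientGroup.mk' Xs with hπ'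
    have hcU : r * y * r⁻¹ * y⁻¹ ∈ U := commute_mk.1 ((hπY y hy r hr).symm)
    have hcen : ∀ t : S, Commute (π' (r * y * r⁻¹ * y⁻¹)) (π' t) := fun t =>
      commute_mk.2 (hUc _ hcU t)
    have h := pow_mul_shift (a := π' y) (b := π' r) (c := π' (r * y * r⁻¹ * y⁻¹))
      (by rw [← map_mul, ← map_mul, ← map_mul]; congr 1; group) (hcen y) (hcen r) p
    obtain ⟨j, hj⟩ : p ∣ p.choose 2 := (Fact.out : p.Prime).dvd_choose_self two_ne_zero
      (lt_of_le_of_ne (Fact.out : p.Prime).two_le (Ne.symm hp2))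
    refine (QuotientGroup.eq_one_iff _).1 ?_
    show π' (s ^ p) = 1
    rw [show s = y * r by rw [hr']; group, map_pow, map_mul, h, hj, pow_mul, ← map_pow, ← map_pow,
      ← map_pow, ← map_pow, hYp y hy, map_one, one_mul,
      map_pow π' ((r * y * r⁻¹ * y⁻¹) ^ p),
      show π' ((r * y * r⁻¹ * y⁻¹) ^ p) = 1 from (QuotientGroup.eq_one_iff _).2 (hUp _ hcU),
      show π' (r ^ p) = 1 from (QuotientGroup.eq_one_iff _).2 (hQp _ hr)]
    simp
  exact N.zs_inf_fixCore ⟨(i.mem_zs_iff B).2 hzc, s0_le B.isP hΦ hUc hUp hpow hz⟩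

end CfsgLib.PushL2.Pair
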