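import Cfsg.Agent.PushL2.TwoSetup

/-!
Distance two: the series `C_V(G) ≤ V ≤ C₀ ≤ O_p(G)` with natural factors at both ends.
-/

set_option autoImplicit false
set_option linter.unusedSectionVars false
set_option linter.style.haveILetI false

namespace CfsgLib.PushL2

open Subgroup
open scoped commutatorElement

variable {G : Type*} [Group G] [Finite G] {p : ℕ} [Fact p.Prime]

/-- The data at distance two: `C₀`, and a normal `E ≤ C₀` fixed by the elements of order prime to `p`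
modulo which `O_p(G)` is elementary abelian. -/
structure Mid (p : ℕ) [Fact p.Prime] (S : Sylow p G) (q : ℕ) (M : Subgroup G) (C1 C0 E : Subgroup G) :
    Prop where
  normalE : E.Normal
  lines : Lines S q M (Cfsg.pCore p G) C1 C0
  V_le : omega p G ≤ C0
  triv : Triv p C0 (omega p G)
  both : ∀ g : G, (orderOf g).Coprime p → g ∈ kerOf (omega p G) (z0 p G) →
    (∀ u ∈ Cfsg.pCore p G, g * u * g⁻¹ * u⁻¹ ∈ C0) → g = 1
  hE : E ≤ C0
  fixE : ∀ g : G, (orderOf g).Coprime p → ∀ x ∈ E, g * x = x * g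
  z0_le : z0 p G ≤ E
  inf_zs : zs S ⊓ E ≤ z0 p G
  abel : ∀ r ∈ Cfsg.pCore p G, ∀ r' ∈ Cfsg.pCore p G, r * r' * r⁻¹ * r'⁻¹ ∈ E
  pow : ∀ r ∈ Cfsg.pCore p G, r ^ p ∈ E
  split : ∀ s ∈ (S : Subgroup G), ∃ x ∈ (S : Subgroup G), x⁻¹ * s ∈ Cfsg.pCore p G ∧ x ^ p = 1 ∧
    ∀ t ∈ C1, x * t * x⁻¹ * t⁻¹ ∈ zs S
  moved : ∃ s ∈ (S : Subgroup G), ∃ y ∈ Cfsg.pCore p G,
    s * (s * y * s⁻¹ * y⁻¹) * s⁻¹ * (s * y * s⁻¹ * y⁻¹)⁻¹ ∉ E
  commS : ∀ s ∈ (S : Subgroup G), ∀ t ∈ (S : Subgroup G), s * t * s⁻¹ * t⁻¹ ∈ C1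
  step : ∀ D : Subgroup G, D.Normal → D ≤ C0 → ⁅D, (⊤ : Subgroup G)⁆ ≤ omega p G ⊔ ⁅D, C0⁆

/-- The part of `Mid` that forces `p = 3`; it needs only the standing hypotheses. -/
structure Mid0 (p : ℕ) [Fact p.Prime] (S : Sylow p G) (q : ℕ) (M : Subgroup G) (C1 C0 E : Subgroup G) :
    Prop where
  normalE : E.Normal
  lines : Lines S q M (Cfsg.pCore p G) C1 C0
  both : ∀ g : G, (orderOf g).Coprime p → g ∈ kerOf (omega p G) (z0 p G) →
    (∀ u ∈ Cfsg.pCore p G, g * u * g⁻¹ * u⁻¹ ∈ C0) → g = 1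
  z0_le : z0 p G ≤ E
  inf_zs : zs S ⊓ E ≤ z0 p G
  abel : ∀ r ∈ Cfsg.pCore p G, ∀ r' ∈ Cfsg.pCore p G, r * r' * r⁻¹ * r'⁻¹ ∈ E
  pow : ∀ r ∈ Cfsg.pCore p G, r ^ p ∈ E
  split : ∀ s ∈ (S : Subgroup G), ∃ x ∈ (S : Subgroup G), x⁻¹ * s ∈ Cfsg.pCore p G ∧ x ^ p = 1 ∧
    ∀ t ∈ C1, x * t * x⁻¹ * t⁻¹ ∈ zs S
  moved : ∃ s ∈ (S : Subgroup G), ∃ y ∈ Cfsg.pCore p G,
    s * (s * y * s⁻¹ * y⁻¹) * s⁻¹ * (s * y * s⁻¹ * y⁻¹)⁻¹ ∉ E

theorem Mid.toMid0 {S : Sylow p G} {q : ℕ} {M C1 C0 E : Subgroup G} (D : Mid p S q M C1 C0 E) :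
    Mid0 p S q M C1 C0 E :=
  ⟨D.normalE, D.lines, D.both, D.z0_le, D.inf_zs, D.abel, D.pow, D.split, D.moved⟩

theorem card_sup_inf_in {H X Y : Subgroup G} (hX : X ≤ H) (hY : Y ≤ H)
    (hn : ∀ a ∈ H, ∀ x ∈ X, a * x * a⁻¹ ∈ X) (hsup : H ≤ X ⊔ Y) :
    Nat.card H * Nat.card ↥(X ⊓ Y) = Nat.card X * Nat.card Y := by
  haveI : (X.subgroupOf H).Normal := ⟨fun x hx a => hn a a.2 x hx⟩
  have h1 := card_sup_mul_inf (X.subgroupOf H) (Y.subgroupOf H)
  rw [show X.subgroupOf H ⊓ Y.subgroupOf H = (X ⊓ Y).subgroupOf H from (comap_inf ..).symm,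
    ← subgroupOf_sup hX hY, Nat.card_congr (subgroupOfEquivOfLe hX).toEquiv,
    Nat.card_congr (subgroupOfEquivOfLe hY).toEquiv,
    Nat.card_congr (subgroupOfEquivOfLe (inf_le_of_left_le hX)).toEquiv,
    Nat.card_congr (subgroupOfEquivOfLe (sup_le hX hY)).toEquiv,
    le_antisymm (sup_le hX hY) hsup] at h1
  exact h1

theorem mid' {S : Sylow p G} {q : ℕ} {M : Subgroup G}
    {α : ↥(S : Subgroup G) ≃* ↥(S : Subgroup G)} (N : NoChar p S q M) (hF : Far p S M α) {h : G}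
    (hh : h ∉ M) :
    ∃ E : Subgroup G, Mid p S q M (Cfsg.pCore p G ⊓ img α (Cfsg.pCore p G))
      ((Cfsg.pCore p G ⊓ img α (Cfsg.pCore p G)) ⊓
        (img α (Cfsg.pCore p G)).map (MulAut.conj h).toMonoidHom) E := by
  set V := omega p G with hV
  set Q := Cfsg.pCore p G with hQ
  set A := img α (omega p G) with hA'
  set R := img α (Cfsg.pCore p G) with hR'
  set Rh := R.map (MulAut.conj h).toMonoidHom with hRh
  set C1 := Q ⊓ R with hC1
  set C0 := C1 ⊓ Rh with hC0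
  have hQS : Q ≤ (S : Subgroup G) := N.core.le_S
  have hVS : ∀ {v}, v ∈ V → v ∈ (S : Subgroup G) := fun hv => hQS (omega_le hv)
  have hAQ : ∀ {a}, a ∈ A → a ∈ Q := fun ha => Far.hA N hF ha
  have hRS : R ≤ (S : Subgroup G) := img_le α _
  have hRn : ∀ s ∈ (S : Subgroup G), ∀ t ∈ R, s * t * s⁻¹ ∈ R := by
    intro s hs t ht
    obtain ⟨x, hx, hxS, rfl⟩ := (mem_img α).1 ht
    have hs' := ap_mem α.symm hs
    refine (mem_img α).2 ⟨_, pCore_isNormal.conj_mem x hx (ap α.symm s),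
      (S : Subgroup G).mul_mem ((S : Subgroup G).mul_mem hs' hxS) ((S : Subgroup G).inv_mem hs'), ?_⟩
    rw [ap_mul α ((S : Subgroup G).mul_mem hs' hxS) ((S : Subgroup G).inv_mem hs'),
      ap_mul α hs' hxS, ap_inv α hs', symm_ap α hs]
  have hVC0 : V ≤ C0 := fun v hv => ⟨⟨omega_le hv, Far.V_le_R N hF hv⟩,
    h⁻¹ * v * h, Far.V_le_R N hF (by simpa using omega_normal.conj_mem v hv h⁻¹),
    by simp [mul_assoc]⟩
  have hC0Q : C0 ≤ Q := inf_le_left.trans inf_le_left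
  -- twisted conjugates move `R` into `C_V(S)`
  have hx1 : ∀ h', h' ∉ M → ∀ s ∈ (S : Subgroup G), ∃ a ∈ A,
      ap α (h' * a * h'⁻¹) ∈ (S : Subgroup G) ∧ (ap α (h' * a * h'⁻¹))⁻¹ * s ∈ Q := fun h' hh' s hs => by
    obtain ⟨a, ha, hq⟩ := Far.coverX N hF hh' hs
    exact ⟨a, ha, ap_mem α (Far.conj_A_mem N hF ha h'), hq⟩
  -- normality
  have hC0S : ∀ s ∈ (S : Subgroup G), ∀ c ∈ C0, s * c * s⁻¹ ∈ C0 := by
    intro s hs c hc
    obtain ⟨a, ha, hxS, hq⟩ := hx1 h hh s hs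
    set x := ap α (h * a * h⁻¹)
    set r := x⁻¹ * s with hr
    have hrh : h⁻¹ * r * h ∈ (S : Subgroup G) :=
      hQS (by simpa using pCore_isNormal.conj_mem r hq h⁻¹)
    have h1 : r * c * r⁻¹ ∈ C0 := by
      refine ⟨⟨pCore_isNormal.conj_mem c hc.1.1 r, hRn r (hQS hq) c hc.1.2⟩, ?_⟩
      obtain ⟨t, ht, hte⟩ := hc.2
      refine ⟨_, hRn _ hrh t ht, ?_⟩
      simp only [MulEquiv.coe_toMonoidHom, MulAut.conj_apply] at hte ⊢
      rw [← hte]; group
    have h2 := C0.mul_mem (hVC0 (zs_le_V (Far.moveR N hF (h := h) ha h1.1.2))) h1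
    rwa [show x * (r * c * r⁻¹) * x⁻¹ * (r * c * r⁻¹)⁻¹ * (r * c * r⁻¹) = s * c * s⁻¹ by
      rw [hr]; group] at h2
  have hC0h : ∀ s ∈ (S : Subgroup G), ∀ c ∈ C0, (h * s * h⁻¹) * c * (h * s * h⁻¹)⁻¹ ∈ C0 := by
    intro s hs c hc
    obtain ⟨a, ha, hxS, hq⟩ := hx1 h hh s hs
    set x := ap α (h * a * h⁻¹)
    set r := x⁻¹ * s with hr
    set r' := h * r * h⁻¹
    have hr'Q : r' ∈ Q := pCore_isNormal.conj_mem r hq h
    have h1 : r' * c * r'⁻¹ ∈ C0 := by
      refine ⟨⟨pCore_isNormal.conj_mem c hc.1.1 r', hRn r' (hQS hr'Q) c hc.1.2⟩, ?_⟩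
      obtain ⟨t, ht, hte⟩ := hc.2
      refine ⟨_, hRn r (hQS hq) t ht, ?_⟩
      simp only [MulEquiv.coe_toMonoidHom, MulAut.conj_apply] at hte ⊢
      rw [← hte]; simp only [r']; group
    obtain ⟨t, ht, hte⟩ := h1.2
    simp only [MulEquiv.coe_toMonoidHom, MulAut.conj_apply] at hte
    have h2 := C0.mul_mem (hVC0 (omega_normal.conj_mem _
      (zs_le_V (Far.moveR N hF (h := h) ha ht)) h)) h1
    rwa [show h * (x * t * x⁻¹ * t⁻¹) * h⁻¹ = (h * x * h⁻¹) * (h * t * h⁻¹) * (h * x * h⁻¹)⁻¹ *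
      (h * t * h⁻¹)⁻¹ by group, hte, inv_mul_cancel_right,
      show h * x * h⁻¹ * (r' * c * r'⁻¹) * (h * x * h⁻¹)⁻¹ = h * s * h⁻¹ * c * (h * s * h⁻¹)⁻¹ by
        simp only [r', hr]; group] at h2
  haveI hC0n : C0.Normal := by
    refine normalizer_eq_top_iff.1 (N.ctx.gen h hh _
      (fun s hs => mem_normalizer_fintype (hC0h s hs)) ?_)
    obtain ⟨s, hs, hsQ⟩ := SetLike.not_le_iff_exists.1 N.core.ne
    exact ⟨s, hs, hsQ, mem_normalizer_fintype (hC0S s hs)⟩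
  -- the kernel on `C₀/V`
  set K := kerOf C0 V with hK
  have hxK : ∀ h' (a : G), a ∈ A → ap α (h' * a * h'⁻¹) ∈ K := fun h' a ha =>
    mem_kerOf.2 fun c hc => zs_le_V (Far.moveR N hF ha hc.1.2)
  obtain ⟨s₀, hs₀, hs₀Q⟩ := SetLike.not_le_iff_exists.1 N.core.ne
  obtain ⟨a₀, ha₀, hx₀S, hx₀q⟩ := hx1 h hh s₀ hs₀
  set x₀ := ap α (h * a₀ * h⁻¹)
  have hx₀Q : x₀ ∉ Q := fun hq => hs₀Q (by
    have := Q.mul_mem hq hx₀q; rwa [mul_inv_cancel_left] at this)
  have hcop : ∀ g : G, (orderOf g).Coprime p → g ∈ K := fun g hg =>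
    coprime_mem N.core K hx₀S (hxK h a₀ ha₀) hx₀Q hg
  set E := C0 ⊓ centralizer (K : Set G) with hE
  haveI hEn : E.Normal := by rw [hE]; infer_instance
  have hzE : z0 p G ≤ E := fun z hz =>
    ⟨hVC0 hz.1, mem_centralizer_iff.2 fun k _ => z0_central hz k⟩
  -- `O_p(G) = A B C₀`
  have hdec : ∀ r ∈ Q, ∃ a ∈ A, ∃ b ∈ A, ∃ u ∈ C0, r = a * (h * b * h⁻¹) * u := by
    intro r hr
    obtain ⟨a, ha, ⟨htQ, t', ht', hte⟩, -⟩ := Far.coverA N hF hh hr
    obtain ⟨b, hb, hbR⟩ := Far.coverB N hF hh (hQS htQ)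
    have hbQ : h * b * h⁻¹ ∈ Q := pCore_isNormal.conj_mem b (hAQ hb) h
    refine ⟨a, ha, b, hb, _, ⟨⟨Q.mul_mem (Q.inv_mem hbQ) htQ, hbR⟩, ?_⟩, by group⟩
    exact Rh.mul_mem (Rh.inv_mem ⟨b, Far.A_le_R N hF hb, rfl⟩) ⟨t', ht', hte⟩
  set π := QuotientGroup.mk' E with hπ
  have hπE : ∀ {x}, x ∈ E → π x = 1 := fun hx => (QuotientGroup.eq_one_iff _).2 hx
  have hcπ : ∀ {x y : G}, x * y * x⁻¹ * y⁻¹ ∈ E → Commute (π x) (π y) := fun h => commute_mk.2 h
  have hCA : ∀ {u a : G}, u ∈ C0 → a ∈ A → Commute u a := fun hu ha =>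
    ((Far.mem_R N hF).1 hu.1.2).2 _ ha
  have hCB : ∀ {u b : G}, u ∈ C0 → b ∈ A → Commute u (h * b * h⁻¹) := fun hu hb =>
    (Far.mem_conjR N hF (hC0Q hu)).1 hu.2 _ hb
  have hCC : ∀ {u u' : G}, u ∈ C0 → u' ∈ C0 → u * u' * u⁻¹ * u'⁻¹ ∈ E := fun hu hu' =>
    ⟨C0.mul_mem (C0.mul_mem (C0.mul_mem hu hu') (C0.inv_mem hu)) (C0.inv_mem hu'),
      mem_centralizer_iff.2 fun k hk =>
        fix_commutator (hC0Q hu) (hC0Q hu') (mem_kerOf.1 hk _ hu) (mem_kerOf.1 hk _ hu')⟩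
  have hAB : ∀ {a b : G}, a ∈ A → b ∈ A → Commute (π a) (π (h * b * h⁻¹)) := fun ha hb =>
    hcπ (hzE (Far.comm_z0 N hF hh ha hb))
  have habel : ∀ r ∈ Q, ∀ r' ∈ Q, Commute (π r) (π r') := by
    intro r hr r' hr'
    obtain ⟨a, ha, b, hb, u, hu, rfl⟩ := hdec r hr
    obtain ⟨a', ha', b', hb', u', hu', rfl⟩ := hdec r' hr'
    have c1 : Commute (π a) (π a') := Commute.map (Far.commA N hF ha ha') π
    have c2 : Commute (π (h * b * h⁻¹)) (π (h * b' * h⁻¹)) :=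
      Commute.map (Commute.map (Far.commA N hF hb hb') (MulAut.conj h).toMonoidHom) π
    have c3 : ∀ {u a : G}, u ∈ C0 → a ∈ A → Commute (π u) (π a) := fun hu ha => (hCA hu ha).map π
    have c4 : ∀ {u b : G}, u ∈ C0 → b ∈ A → Commute (π u) (π (h * b * h⁻¹)) :=
      fun hu hb => (hCB hu hb).map π
    have c5 : Commute (π u) (π u') := hcπ (hCC hu hu')
    simp only [map_mul]
    exact (((c1.mul_right (hAB ha hb')).mul_right (c3 hu' ha).symm).mul_left
      (((hAB ha' hb).symm.mul_right c2).mul_right (c4 hu' hb).symm)).mul_left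
      (((c3 hu ha').mul_right (c4 hu hb')).mul_right c5)
  have hpow : ∀ r ∈ Q, r ^ p ∈ E := by
    intro r hr
    obtain ⟨a, ha, b, hb, u, hu, rfl⟩ := hdec r hr
    refine (QuotientGroup.eq_one_iff _).1 ?_
    show π ((a * (h * b * h⁻¹) * u) ^ p) = 1
    have c1 := hAB ha hb
    have c2 : Commute (π a * π (h * b * h⁻¹)) (π u) :=
      (hCA hu ha).symm.map π |>.mul_left ((hCB hu hb).symm.map π)
    rw [map_pow, map_mul, map_mul, c2.mul_pow, c1.mul_pow, ← map_pow, ← map_pow, ← map_pow,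
      Far.powA N hF ha, conj_pow, Far.powA N hF hb, map_one, one_mul]
    simp [hπE (show u ^ p ∈ E from ⟨C0.pow_mem hu p, mem_centralizer_iff.2 fun k hk =>
      fix_pow (hC0Q hu) (mem_kerOf.1 hk _ hu)⟩)]
  have hCle : E ≤ C0 := inf_le_left
  -- the section `O_p(G)/C₀`
  have hmoveU : ∀ s ∈ (S : Subgroup G), ∀ u ∈ Q, s * u * s⁻¹ * u⁻¹ ∈ C1 := by
    intro s hs u hu
    refine ⟨Q.mul_mem (pCore_isNormal.conj_mem u hu s) (Q.inv_mem hu), ?_⟩
    have h1 := N.core.comm _ (ap_mem α.symm hs) _ (ap_mem α.symm (hQS hu))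
    rw [← symm_ap α hs, ← symm_ap α (hQS hu), ← ap_commutator α (ap_mem α.symm hs)
      (ap_mem α.symm (hQS hu))]
    exact ap_mem_img α h1 (hQS h1)
  have hmoveC : ∀ s ∈ (S : Subgroup G), ∀ t ∈ C1, s * t * s⁻¹ * t⁻¹ ∈ C0 := by
    intro s hs t ht
    obtain ⟨a, ha, hxS, hq⟩ := hx1 h hh s hs
    set x := ap α (h * a * h⁻¹)
    set r := x⁻¹ * s with hr
    have h1 : Commute ((x : G) : G ⧸ C0) (t : G ⧸ C0) :=
      commute_mk.2 (hVC0 (zs_le_V (Far.moveR N hF ha ht.2)))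
    have h2 : Commute ((r : G) : G ⧸ C0) (t : G ⧸ C0) :=
      commute_mk.2 (hCle ((QuotientGroup.eq_one_iff _).1 (show π (r * t * r⁻¹ * t⁻¹) = 1 by
        rw [map_mul, map_mul, map_mul, map_inv, map_inv, (habel r hq t ht.1).eq]; group)))
    refine commute_mk.1 ?_
    rw [show s = x * r by rw [hr]; group, QuotientGroup.mk_mul]
    exact h1.mul_left h2
  have hcR : Nat.card R = Nat.card Q := card_img α hQS
  have hsupS : (S : Subgroup G) ≤ R ⊔ Q := fun s hs => by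
    obtain ⟨b, hb, hbR⟩ := Far.coverB N hF hh hs
    have hbQ : h * b * h⁻¹ ∈ Q := pCore_isNormal.conj_mem b (hAQ hb) h
    have := mul_mem (mem_sup_right hbQ : h * b * h⁻¹ ∈ R ⊔ Q) (mem_sup_left hbR)
    rwa [mul_inv_cancel_left] at this
  have hcU : Nat.card Q = q * Nat.card C1 := by
    have e := card_sup_inf_in hRS hQS hRn hsupS
    rw [hcR, N.ctx.card_S, inf_comm, ← hC1] at e
    refine (Nat.eq_of_mul_eq_mul_left (Nat.card_pos (α := Q)) ?_)
    rw [← e]; ring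
  have hRhn : ∀ r ∈ Q, ∀ t ∈ Q ⊓ Rh, r * t * r⁻¹ ∈ Q ⊓ Rh := by
    rintro r hr _ ⟨htQ, t', ht', rfl⟩
    refine ⟨pCore_isNormal.conj_mem _ htQ r,
      _, hRn (h⁻¹ * r * h) (hQS (by simpa using pCore_isNormal.conj_mem r hr h⁻¹)) t' ht', ?_⟩
    simp only [MulEquiv.coe_toMonoidHom, MulAut.conj_apply]
    group
  have hQh : Q ⊓ Rh = C1.map (MulAut.conj h).toMonoidHom := by
    rw [hC1, Subgroup.map_inf _ _ _ (MulAut.conj h).injective]
    congr 1
    refine (eq_of_le_of_card_ge ?_ (le_of_eq ?_)).symm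
    · rintro _ ⟨t, ht, rfl⟩; exact pCore_isNormal.conj_mem t ht h
    · rw [card_map_of_injective (MulAut.conj h).injective]
  have hcC : Nat.card C1 = q * Nat.card C0 := by
    have hsupQ : Q ≤ (Q ⊓ Rh) ⊔ C1 := fun r hr => by
      obtain ⟨a, ha, ht, -⟩ := Far.coverA N hF hh hr
      have := mul_mem (mem_sup_right ⟨hAQ ha, Far.A_le_R N hF ha⟩ : a ∈ (Q ⊓ Rh) ⊔ C1)
        (mem_sup_left ht)
      rwa [mul_inv_cancel_left] at this
    have e := card_sup_inf_in inf_le_left inf_le_left hRhn hsupQ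
    have hci : (Q ⊓ Rh) ⊓ C1 = C0 := le_antisymm (fun x hx => ⟨hx.2, hx.1.2⟩)
      fun x hx => ⟨⟨hx.1.1, hx.2⟩, hx.1⟩
    rw [hci, hQh, card_map_of_injective (MulAut.conj h).injective, hcU] at e
    refine (Nat.eq_of_mul_eq_mul_left (Nat.card_pos (α := C1)) ?_).symm
    rw [← e]; ring
  have hlines : Lines S q M Q C1 C0 :=
    { normalU := pCore_isNormal
      normalW := hC0n
      hWC := inf_le_left
      hCU := inf_le_left
      comm := fun a ha b hb => hCle ((QuotientGroup.eq_one_iff _).1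
        (show π (a * b * a⁻¹ * b⁻¹) = 1 by
          rw [map_mul, map_mul, map_mul, map_inv, map_inv, (habel a ha b hb).eq]; group))
      pow := fun a ha => hCle (hpow a ha)
      moveC := hmoveC
      moveU := hmoveU
      triv := fun a ha u hu => hCle ((QuotientGroup.eq_one_iff _).1
        (show π (a * u * a⁻¹ * u⁻¹) = 1 by
          rw [map_mul, map_mul, map_mul, map_inv, map_inv, (habel a ha u hu).eq]; group))
      sup := fun h' hh' r hr => by
        obtain ⟨a, ha, -, ht⟩ := Far.coverA N hF hh' hr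
        have := mul_mem (mem_sup_left ⟨hAQ ha, Far.A_le_R N hF ha⟩ :
            a ∈ C1 ⊔ C1.map (MulAut.conj h').toMonoidHom)
          (mem_sup_right ⟨_, ht, rfl⟩)
        simp only [MulEquiv.coe_toMonoidHom, MulAut.conj_apply] at this
        rwa [show a * (h' * (h'⁻¹ * (a⁻¹ * r) * h') * h'⁻¹) = r by group] at this
      cardU := hcU
      cardC := hcC }
  have hzsE : zs S ⊓ E ≤ z0 p G := by
    rintro z ⟨hz, hzE'⟩
    have hS : ∀ s ∈ (S : Subgroup G), Commute s z := fun s hs => (mem_fix.1 hz).2 s hs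
    have htop : centralizer {z} = ⊤ := by
      refine N.ctx.gen h hh _ (fun s hs => mem_centralizer_singleton_iff.2 ?_)
        ⟨s₀, hs₀, hs₀Q, mem_centralizer_singleton_iff.2 (hS s₀ hs₀).eq⟩
      obtain ⟨a, ha, hxS, hq⟩ := hx1 h hh s hs
      set x := ap α (h * a * h⁻¹)
      have h1 : Commute (h * x * h⁻¹) z := mem_centralizer_iff.1 hzE'.2 _
        ((inferInstance : (kerOf C0 V).Normal).conj_mem x (hxK h a ha) h)
      have h2 : Commute (h * (x⁻¹ * s) * h⁻¹) z :=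
        (omega_commute hz.1 (pCore_isNormal.conj_mem _ hq h)).symm
      have := h1.mul_left h2
      rw [show h * x * h⁻¹ * (h * (x⁻¹ * s) * h⁻¹) = h * s * h⁻¹ by group] at this
      exact this.eq
    exact mem_fix.2 ⟨hz.1, fun g _ => mem_centralizer_singleton_iff.1 (htop ▸ mem_top g)⟩
  refine ⟨E, ⟨hEn, hlines, hVC0, fun g hg => mem_kerOf.1 (hcop g hg), ?_, hCle,
    fun g hg x hx => mem_centralizer_iff.1 hx.2 g (hcop g hg), hzE, ?_,
    fun r hr r' hr' => (QuotientGroup.eq_one_iff _).1 (show π (r * r' * r⁻¹ * r'⁻¹) = 1 by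
      rw [map_mul, map_mul, map_mul, map_inv, map_inv, (habel r hr r' hr').eq]; group),
    hpow, ?_, ?_, fun s hs t ht => ?_, ?_⟩⟩
  · intro g hg hgV hgQ
    refine eq_one_of_coprime N.core hg fun r hr => ?_
    have hfixV : ∀ v ∈ V, g * v = v * g := fun v hv => commute_of_shift' hg rfl
      (omega_le (mem_kerOf.1 hgV v hv).1) (z0_central (mem_kerOf.1 hgV v hv) g)
    have hfixC : ∀ c ∈ C0, g * c = c * g := fun c hc => commute_of_shift' hg rfl
      (omega_le (mem_kerOf.1 (hcop g hg) c hc)) (hfixV _ (mem_kerOf.1 (hcop g hg) c hc))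
    exact commute_of_shift' hg rfl (hC0Q (hgQ r hr)) (hfixC _ (hgQ r hr))
  · exact hzsE
  · intro s hs
    obtain ⟨a, ha, hxS, hq⟩ := hx1 h hh s hs
    refine ⟨_, hxS, hq, ?_, fun t ht => Far.moveR N hF ha ht.2⟩
    rw [← ap_pow α (Far.conj_A_mem N hF ha h), conj_pow, Far.powA N hF ha]
    simp [ap_one]
  · by_contra hall
    push Not at hall
    -- then a twisted element would centralise `O_p(G)/C₀`
    have hcopy : ∀ a ∈ A, ∀ b ∈ A,
        (h * a * h⁻¹) * ap α.symm (h * b * h⁻¹) * (h * a * h⁻¹)⁻¹ *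
          (ap α.symm (h * b * h⁻¹))⁻¹ ∈ Rh := by
      intro a ha b hb
      set e := h * a * h⁻¹
      have heS : e ∈ (S : Subgroup G) := Far.conj_A_mem N hF ha h
      set f := h * b * h⁻¹
      have hfQ : f ∈ Q := pCore_isNormal.conj_mem b (hAQ hb) h
      set f' := ap α.symm f
      have hf'S : f' ∈ (S : Subgroup G) := ap_mem α.symm (hQS hfQ)
      set x := ap α e
      set w := x * f * x⁻¹ * f⁻¹ with hw
      have hwC : w ∈ C1 := hmoveU x (ap_mem α heS) f hfQ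
      set w' := ap α.symm w
      have hwS : w ∈ (S : Subgroup G) := hQS hwC.1
      have hw' : w' ∈ Q := by
        obtain ⟨u, hu, huS, hue⟩ := (mem_img α).1 hwC.2
        simp only [w', ← hue, ap_symm α huS]
        exact hu
      have hew : w' = e * f' * e⁻¹ * f'⁻¹ := by
        simp only [w', hw]
        rw [ap_commutator α.symm (ap_mem α heS) (hQS hfQ), ap_symm α heS]
      rw [← hew]
      -- split off the part in `V`
      obtain ⟨v, hv⟩ := Amb.cover' N (H := Q)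
        (fun v => ⟨ap α.symm v, hF.inQ α.symm (ap_mem_img α.symm v.2 (hVS v.2))⟩)
        ((Q ⊓ Rh).subgroupOf Q) (by
          rw [Nat.card_congr (subgroupOfEquivOfLe inf_le_left).toEquiv, hcU]
          congr 1
          rw [hQh, card_map_of_injective (MulAut.conj h).injective])
        (fun u v huv => by
          have h1 := (mem_subgroupOf.1 huv).2
          simp only [Subgroup.coe_mul, Subgroup.coe_inv] at h1
          rw [← ap_inv α.symm (hVS u.2),
            ← ap_mul α.symm ((S : Subgroup G).inv_mem (hVS u.2)) (hVS v.2)] at h1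
          have hm : (u : G)⁻¹ * v ∈ V := mul_mem (inv_mem u.2) v.2
          have h2 := ((Far.mem_conjR N hF (hF.inQ α.symm (ap_mem_img α.symm hm (hVS hm)))).1 h1 a₀ ha₀)
          have h3 := ap_comm α (ap_mem α.symm (hVS hm)) (Far.conj_A_mem N hF ha₀ h) h2.eq
          rw [symm_ap α (hVS hm)] at h3
          exact N.mem_zs_of_commute hx₀S hx₀Q hm h3.symm) ⟨w', hw'⟩
      have hr := (mem_subgroupOf.1 hv)
      simp only [Subgroup.coe_mul, Subgroup.coe_inv] at hr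
      set v' := ap α.symm (v : G)
      set t := v'⁻¹ * w' with ht
      have htS : t ∈ (S : Subgroup G) := hQS hr.1
      have hv'S : v' ∈ (S : Subgroup G) := ap_mem α.symm (hVS v.2)
      have hwv : w = v * ap α t := by
        rw [← symm_ap α hwS, ← symm_ap α (hVS v.2), ← ap_mul α hv'S htS, ht, mul_inv_cancel_left]
      refine (Far.mem_conjR N hF hw').2 fun a' ha' => ?_
      have hx'S : ap α (h * a' * h⁻¹) ∈ (S : Subgroup G) := ap_mem α (Far.conj_A_mem N hF ha' h)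
      have hcr : ∀ a ∈ A, Commute (ap α (h * a * h⁻¹)) (ap α t) := fun a ha =>
        ap_comm α (Far.conj_A_mem N hF ha h) htS ((Far.mem_conjR N hF hr.1).1 hr.2 a ha).symm.eq
      have hvzs : (v : G) ∈ zs S := by
        by_cases hxQ : x ∈ Q
        · have hf1 : a ∈ zs S := Far.fib2 N hF hh ha hxQ
          have heV : e ∈ V := omega_normal.conj_mem a hf1.1 h
          have hwz : w' ∈ zs S := by
            rw [hew]
            have := (zs S).inv_mem (N.quad e heV f' hf'S)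
            rwa [show (f' * e * f'⁻¹ * e⁻¹)⁻¹ = e * f' * e⁻¹ * f'⁻¹ by group] at this
          refine N.mem_zs_of_commute hx₀S hx₀Q v.2 ?_
          have h1 : Commute x₀ w := by
            have := zs_inv N.core α hwz
            simp only [w', symm_ap α hwS] at this
            exact ((mem_fix.1 this).2 x₀ hx₀S)
          have h2 := (h1.mul_right (hcr a₀ ha₀).inv_right)
          rw [hwv, mul_inv_cancel_right] at h2
          exact h2.eq
        · refine N.linesV.key N.ctx (ap_mem α heS) hxQ v.2 ?_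
          have h1 : x * w * x⁻¹ * w⁻¹ ∈ E := hall x (ap_mem α heS) f hfQ
          have h2 : x * w * x⁻¹ * w⁻¹ = x * v * x⁻¹ * (v : G)⁻¹ := by
            rw [hwv, show x * (v * ap α t) * x⁻¹ * (v * ap α t)⁻¹ =
              x * v * (ap α t * x⁻¹) * (ap α t)⁻¹ * (v : G)⁻¹ by group,
              ← (hcr a ha).inv_left.eq]
            simp only [x, e]
            group
          rw [h2] at h1
          have hz : x * v * x⁻¹ * (v : G)⁻¹ ∈ z0 p G := by
            have hzs := N.quad v v.2 x (ap_mem α heS)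
            exact hzsE ⟨hzs, h1⟩
          exact hz
      have h3 : Commute (ap α (h * a' * h⁻¹)) w := by
        rw [hwv]
        exact (show Commute (ap α (h * a' * h⁻¹)) (v : G) from (mem_fix.1 hvzs).2 _ hx'S).mul_right
          (hcr a' ha')
      have h4 := ap_comm α.symm hx'S hwS h3.eq
      rw [ap_symm α (Far.conj_A_mem N hF ha' h)] at h4
      exact h4.symm
    obtain ⟨a1, ha1, b1, hb1, hbad⟩ := hF.bad1 h hh
    set f := h * b1 * h⁻¹
    have hfS : f ∈ (S : Subgroup G) := Far.conj_A_mem N hF hb1 h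
    set y := ap α.symm f with hy
    have hyS : y ∈ (S : Subgroup G) := ap_mem α.symm hfS
    have hyQ : y ∉ Q := fun hq => hbad (((Far.mem_R N hF).1
      ((mem_img α).2 ⟨y, hq, hyS, symm_ap α hfS⟩)).2 a1 ha1).symm
    refine hyQ (hlines.inf_kerOf N.ctx ⟨hyS, mem_kerOf.2 fun r hr => ?_⟩)
    obtain ⟨a, ha, b, hb, u, hu, rfl⟩ := hdec r hr
    have h1 : Commute (y : G ⧸ C0) ((a : G) : G ⧸ C0) := by
      obtain ⟨v, hv, hvS, rfl⟩ := (mem_img α).1 ha
      exact commute_mk.2 (hVC0 (zs_le_V (N.quad_ap α hv hyS)))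
    have h2 : Commute (y : G ⧸ C0) ((h * b * h⁻¹ : G) : G ⧸ C0) := by
      have hR2 := hcopy b hb b1 hb1
      have h5 : (h * b * h⁻¹) * y * (h * b * h⁻¹)⁻¹ * y⁻¹ ∈ C0 := by
        refine ⟨?_, hR2⟩
        have := C1.inv_mem (hmoveU y hyS _ (pCore_isNormal.conj_mem b (hAQ hb) h))
        rwa [show (y * (h * b * h⁻¹) * y⁻¹ * (h * b * h⁻¹)⁻¹)⁻¹ =
          h * b * h⁻¹ * y * (h * b * h⁻¹)⁻¹ * y⁻¹ by group] at this
      exact (commute_mk.2 h5).symm
    refine commute_mk.1 ?_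
    rw [QuotientGroup.mk_mul, QuotientGroup.mk_mul, (QuotientGroup.eq_one_iff u).2 hu, mul_one]
    exact h1.mul_right h2
  · refine ⟨N.core.comm s hs t ht, ?_⟩
    have h1 := N.core.comm _ (ap_mem α.symm hs) _ (ap_mem α.symm ht)
    rw [← symm_ap α hs, ← symm_ap α ht, ← ap_commutator α (ap_mem α.symm hs) (ap_mem α.symm ht)]
    exact ap_mem_img α h1 (hQS h1)
  · intro D hD hDC
    haveI := hD
    haveI : (V ⊔ ⁅D, C0⁆).Normal := inferInstance
    have hker : kerOf D (V ⊔ ⁅D, C0⁆) = ⊤ := by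
      have hK' : K ≤ kerOf D (V ⊔ ⁅D, C0⁆) := fun k hk =>
        mem_kerOf.2 fun d hd => mem_sup_left (mem_kerOf.1 hk d (hDC hd))
      refine eq_top_of_coprime S (fun s hs => ?_) fun g hg => hK' (hcop g hg)
      obtain ⟨a, ha, hxS, hq⟩ := hx1 h hh s hs
      set x := ap α (h * a * h⁻¹)
      have hq' : x⁻¹ * s ∈ kerOf D (V ⊔ ⁅D, C0⁆) := by
        obtain ⟨a', ha', b', hb', u, hu, he⟩ := hdec _ hq
        rw [he]
        refine mul_mem (mul_mem (mem_kerOf.2 fun d hd => ?_) (mem_kerOf.2 fun d hd => ?_))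
          (mem_kerOf.2 fun d hd => ?_)
        · rw [← (hCA (hDC hd) ha').eq]; simp
        · rw [← (hCB (hDC hd) hb').eq, mul_inv_cancel_right, mul_inv_cancel]
          exact one_mem _
        · have := inv_mem (commutator_mem_commutator hd hu)
          rw [commutatorElement_inv, commutatorElement_def] at this
          exact mem_sup_right this
      have := mul_mem (hK' (hxK h a ha)) hq'
      rwa [mul_inv_cancel_left] at this
    refine commutator_le.2 fun d hd g _ => ?_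
    have := inv_mem (mem_kerOf.1 (hker ▸ mem_top g) d hd)
    rw [commutatorElement_def]
    rwa [show (g * d * g⁻¹ * d⁻¹)⁻¹ = d * g * d⁻¹ * g⁻¹ by group] at this

theorem mid {S : Sylow p G} {q : ℕ} {M : Subgroup G}
    {α : ↥(S : Subgroup G) ≃* ↥(S : Subgroup G)} (N : NoChar p S q M) (hF : Far p S M α) :
    ∃ C1 C0 E : Subgroup G, Mid p S q M C1 C0 E := by
  obtain ⟨h, hh⟩ := N.exists_not_mem
  exact ⟨_, _, mid' N hF hh⟩

end CfsgLib.PushL2
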