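import Cfsg.Agent.PushL2.PairChain
import Cfsg.Agent.PushL2.PairSeries
import Cfsg.Agent.PushL2.TwoStep

/-!
Two groups over `S`, each of whose `V` does not commute with its conjugates in the other: `p = 3`
and the central part of `S₀` is fixed by both.
-/

set_option autoImplicit false
set_option linter.unusedSectionVars false
set_option linter.unusedVariables false
set_option linter.style.haveILetI false

universe u

namespace CfsgLib.PushL2.Pair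

open Subgroup
open CfsgLib.LocalB.CD (C)

variable {p : ℕ} [Fact p.Prime] {S : Type u} [Group S]

/-- No conjugate of `X` outside `M` commutes with `X`. -/
def Bad (X : Subgroup S) (e : Mem p S) : Prop :=
  ∀ h : e.G, h ∉ e.M → ∃ v ∈ X, ∃ w ∈ X, ∃ w', (w, w') ∈ step e h ∧ ¬ Commute v w'

/-- Two groups, each with `V` bad in the other. -/
structure Duo (e a : Mem p S) : Prop where
  comm : a.V ≤ C e.V
  bad : Bad a.V e
  bad' : Bad e.V a

theorem Duo.symm {e a : Mem p S} (hp : Duo e a) : Duo a e :=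
  ⟨LocalB.CD.le_C_iff.1 hp.comm, hp.bad', hp.bad⟩

/-- `O_p(G) ∩` the other `O_p`, inside `G`. -/
def c1 (e a : Mem p S) : Subgroup e.G := (e.Q ⊓ a.Q).map e.τ

/-- Its meet with a conjugate. -/
def c0 (e a : Mem p S) (h : e.G) : Subgroup e.G :=
  c1 e a ⊓ (c1 e a).map (MulAut.conj h).toMonoidHom

theorem mem_c1 {e a : Mem p S} {x : S} : e.τ x ∈ c1 e a ↔ x ∈ e.Q ∧ x ∈ a.Q := by
  rw [c1, Subgroup.mem_map_iff_mem e.inj]
  rfl

theorem c1_le {e a : Mem p S} : c1 e a ≤ Cfsg.pCore p e.G :=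
  (map_mono inf_le_left).trans (map_comap_le _ _)

variable [Finite S]

theorem c1_conj {e a : Mem p S} {s : e.G} (hs : s ∈ (e.P : Subgroup e.G)) {c : e.G}
    (hc : c ∈ c1 e a) : s * c * s⁻¹ ∈ c1 e a := by
  obtain ⟨t, rfl⟩ := e.exists_τ hs
  obtain ⟨x, hx, rfl⟩ := hc
  exact ⟨t * x * t⁻¹, (inferInstance : (e.Q ⊓ a.Q).Normal).conj_mem x hx t, by
    rw [map_mul, map_mul, map_inv]⟩

namespace Duo

variable {e a : Mem p S} (B : Base p S) (hp : Duo e a)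
include B hp

theorem V_le : a.V ≤ e.Q := e.C_V B ▸ hp.comm

theorem V'_le : e.V ≤ a.Q := a.C_V B ▸ hp.symm.comm

theorem omega_le_c1 : omega p e.G ≤ c1 e a := by
  rw [← e.map_V]
  exact map_mono (le_inf e.V_le_Q (hp.V'_le B))

theorem omega_le_c0 (h : e.G) : omega p e.G ≤ c0 e a h :=
  le_inf (hp.omega_le_c1 B) fun v hv => ⟨h⁻¹ * v * h,
    hp.omega_le_c1 B (by simpa using omega_normal.conj_mem v hv h⁻¹), by simp [mul_assoc]⟩

theorem map_V_le_c1 : a.V.map e.τ ≤ c1 e a := map_mono (le_inf (hp.V_le B) a.V_le_Q)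

theorem exists_out (h : e.G) (hh : h ∉ e.M) :
    ∃ v ∈ a.V, ∃ v', (v, v') ∈ step e h ∧ v' ∉ a.Q := by
  obtain ⟨v₁, hv₁, w, hw, w', hww', hne⟩ := hp.bad h hh
  refine ⟨w, hw, w', hww', fun hq => hne ?_⟩
  rw [← a.C_V B] at hq
  exact mem_centralizer_iff.1 hq v₁ hv₁

theorem fib {h : e.G} (hh : h ∉ e.M) {v v' : S} (hv : v ∈ a.V) (hvv' : (v, v') ∈ step e h)
    (hq : v' ∈ a.Q) : v ∈ center S := by
  obtain ⟨w, hw, w'', hww'', hout⟩ := hp.exists_out B h⁻¹ (Std.not_mem_inv hh)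
  have h1 : (w'', w) ∈ step e h := by simpa using step_symm hww''
  rw [← a.C_V B] at hq
  have hc : Commute v' w := (mem_centralizer_iff.1 hq w hw).symm
  exact a.key_commute B hout hv ((rel_commute (rel_single (z := (⟨e, h⟩ : Link p S)).2 hvv')
    (rel_single.2 h1)).2 hc).symm

theorem cover {h : e.G} (hh : h ∉ e.M) (s : S) :
    ∃ v ∈ a.V, ∃ v', (v, v') ∈ step e h ∧ v'⁻¹ * s ∈ a.Q := by
  choose f hf using fun v : ↥a.V => exists_step e h (hp.V_le B v.2)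
  have hcard := card_le_of_fibres a.V (center S)
    (fun v => (⟨_, v, rfl⟩ : Set.range fun v : ↥a.V => (f v : S ⧸ a.Q))) (fun u v huv =>
      hp.fib B hh (mul_mem (inv_mem u.2) v.2)
        ((step e h).mul_mem ((step e h).inv_mem (hf u)) (hf v))
        (QuotientGroup.eq.1 (congrArg Subtype.val huv :))) (Equiv.refl _)
  rw [a.card_V B] at hcard
  have hle := Nat.le_of_mul_le_mul_right hcard Nat.card_pos
  by_contra hall
  push Not at hall
  have hlt : Nat.card (Set.range fun v : ↥a.V => (f v : S ⧸ a.Q)) < Nat.card (S ⧸ a.Q) := by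
    refine Finite.card_subtype_lt (x := (s : S ⧸ a.Q)) ?_
    rintro ⟨v, hv⟩
    exact hall v v.2 (f v) (hf v) (QuotientGroup.eq.1 hv)
  rw [card_quotient_Q] at hlt
  exact absurd (lt_of_le_of_lt hle hlt) (lt_irrefl _)

theorem sup_top : e.Q ⊔ a.Q = ⊤ := by
  obtain ⟨h, hh⟩ := e.exists_not_mem_M
  refine eq_top_iff.2 fun s _ => ?_
  obtain ⟨v, -, v', hvv', hr⟩ := hp.cover B hh s
  have := mul_mem (mem_sup_left (step_right hvv') : v' ∈ e.Q ⊔ a.Q) (mem_sup_right hr)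
  rwa [mul_inv_cancel_left] at this

theorem card_core : Nat.card ↥(Cfsg.pCore p e.G) = a.q * Nat.card (c1 e a) := by
  rw [← e.map_Q, c1, card_map_of_injective e.inj, card_map_of_injective e.inj]
  have h1 := card_sup_mul_inf e.Q a.Q
  rw [hp.sup_top B, card_top, a.card_Q] at h1
  refine Nat.eq_of_mul_eq_mul_right (Nat.card_pos (α := a.Q)) ?_
  rw [← h1]; ring

theorem pow_mem_Q (s : S) : s ^ p ∈ a.Q := by
  obtain ⟨h, hh⟩ := e.exists_not_mem_M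
  obtain ⟨v, hv, v', hvv', hr⟩ := hp.cover B hh s
  have h1 : v' ^ p = 1 := e.inj (by
    rw [map_pow, map_one, ← hvv'.2, conj_pow, ← map_pow, a.pow_V hv, map_one, mul_one,
      mul_inv_cancel])
  refine (QuotientGroup.eq_one_iff _).1 ?_
  have h2 : (v' : S ⧸ a.Q) = s := QuotientGroup.eq.2 hr
  rw [QuotientGroup.mk_pow, ← h2, ← QuotientGroup.mk_pow, h1]
  rfl

theorem comm_z0 {h : e.G} (hh : h ∉ e.M) {v w w' : S} (hv : v ∈ a.V) (hw : w ∈ a.V)
    (hww' : (w, w') ∈ step e h) : e.τ (w' * v * w'⁻¹ * v⁻¹) ∈ z0 p e.G := by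
  obtain ⟨v'', hvv''⟩ := exists_step e h⁻¹ (hp.V_le B hv)
  have h1 : (v'', v) ∈ step e h := by simpa using step_symm hvv''
  have h2 : (w * v'' * w⁻¹ * v''⁻¹, w' * v * w'⁻¹ * v⁻¹) ∈ step e h :=
    mul_mem (mul_mem (mul_mem hww' h1) (inv_mem hww')) (inv_mem h1)
  have hz : w * v'' * w⁻¹ * v''⁻¹ ∈ center S := by
    have := inv_mem (a.quad B hw v'')
    rwa [show (v'' * w * v''⁻¹ * w⁻¹)⁻¹ = w * v'' * w⁻¹ * v''⁻¹ by group] at this
  rw [← (e.std B).inf_conj h hh]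
  exact ⟨(e.mem_zs_iff B).2 (a.quad B hv w'), _, (e.mem_zs_iff B).2 hz, h2.2⟩

/-- `[O_p(G), V'] ≤ C_V(G)`. -/
theorem QA {r v : S} (hr : r ∈ e.Q) (hv : v ∈ a.V) : e.τ (r * v * r⁻¹ * v⁻¹) ∈ z0 p e.G := by
  obtain ⟨h, hh⟩ := e.exists_not_mem_M
  obtain ⟨w, hw, w', hww', ht⟩ := hp.cover B hh r
  rw [← a.C_V B] at ht
  have hc : Commute (w'⁻¹ * r) v := (mem_centralizer_iff.1 ht v hv).symm
  have := hp.comm_z0 B hh hv hw hww'
  convert this using 2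
  calc r * v * r⁻¹ * v⁻¹ = w' * ((w'⁻¹ * r) * v) * (w'⁻¹ * r)⁻¹ * w'⁻¹ * v⁻¹ := by group
    _ = _ := by rw [hc.eq]; group

/-- The conjugates of the other `V` move `O_p(G) ∩` the other `O_p` into `Z(S)`. -/
theorem move {k : a.G} {w x t : S} (hw : w ∈ e.V) (hwx : (w, x) ∈ step a k) (ht : t ∈ a.Q) :
    x * t * x⁻¹ * t⁻¹ ∈ center S := by
  obtain ⟨t₀, htt₀⟩ := exists_step a k⁻¹ ht
  have h1 : (t₀, t) ∈ step a k := by simpa using step_symm htt₀
  have h2 : (w * t₀ * w⁻¹ * t₀⁻¹, x * t * x⁻¹ * t⁻¹) ∈ step a k :=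
    mul_mem (mul_mem (mul_mem hwx h1) (inv_mem hwx)) (inv_mem h1)
  have h3 := inv_mem (hp.symm.QA B h1.1 hw)
  rw [← map_inv, show (t₀ * w * t₀⁻¹ * w⁻¹)⁻¹ = w * t₀ * w⁻¹ * t₀⁻¹ by group] at h3
  refine a.mem_center_of_z0 B ?_
  rw [← h2.2, z0_central h3 k, mul_inv_cancel_right]
  exact h3

theorem twisted {k : a.G} (hk : k ∉ a.M) (s : S) :
    ∃ w ∈ e.V, ∃ x, (w, x) ∈ step a k ∧ x⁻¹ * s ∈ e.Q ∧ x ^ p = 1 := by
  obtain ⟨w, hw, x, hwx, hr⟩ := hp.symm.cover B hk s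
  exact ⟨w, hw, x, hwx, hr, a.inj (by
    rw [map_pow, map_one, ← hwx.2, conj_pow, ← map_pow, e.pow_V hw, map_one, mul_one,
      mul_inv_cancel])⟩

/-- `O_p(G) = V' (O_p(G) ∩ O_p')^h`. -/
theorem coverA {h : e.G} (hh : h ∉ e.M) {r : S} (hr : r ∈ e.Q) :
    ∃ v ∈ a.V, ∃ t', (t', v⁻¹ * r) ∈ step e h ∧ t' ∈ e.Q ⊓ a.Q := by
  obtain ⟨r₀, hrr₀⟩ := exists_step e h⁻¹ hr
  obtain ⟨v, hv, v', hvv', ht⟩ := hp.cover B (Std.not_mem_inv hh) r₀
  have h1 : (v', v) ∈ step e h := by simpa using step_symm hvv'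
  have h2 : (r₀, r) ∈ step e h := by simpa using step_symm hrr₀
  have hQ : v'⁻¹ * r₀ ∈ e.Q := mul_mem (inv_mem (mem_step.1 h1).1) (mem_step.1 h2).1
  exact ⟨v, hv, v'⁻¹ * r₀, mul_mem (inv_mem h1) h2, hQ, ht⟩

theorem mem_c0 {h : e.G} {c c' : S} (hc : c ∈ e.Q ⊓ a.Q) (hc' : c' ∈ e.Q ⊓ a.Q)
    (hcc : (c', c) ∈ step e h) : e.τ c ∈ c0 e a h :=
  ⟨mem_c1.2 hc, e.τ c', mem_c1.2 hc', hcc.2⟩

/-- `O_p(G) = V' V'^h C₀`. -/
theorem dec {h : e.G} (hh : h ∉ e.M) {r : S} (hr : r ∈ e.Q) :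
    ∃ v ∈ a.V, ∃ w ∈ a.V, ∃ w', (w, w') ∈ step e h ∧ ∃ u, e.τ u ∈ c0 e a h ∧
      r = v * w' * u := by
  obtain ⟨v, hv, t', ht, ht'⟩ := hp.coverA B hh hr
  obtain ⟨w, hw, w', hww', hu⟩ := hp.cover B hh (v⁻¹ * r)
  refine ⟨v, hv, w, hw, w', hww', w'⁻¹ * (v⁻¹ * r), ?_, by group⟩
  have hQ : w' ∈ e.Q := step_right hww'
  have hw1 : w ∈ e.Q ⊓ a.Q := ⟨hp.V_le B hw, a.V_le_Q hw⟩
  have hu' : w'⁻¹ * (v⁻¹ * r) ∈ e.Q := mul_mem (inv_mem hQ) (mul_mem (inv_mem (hp.V_le B hv)) hr)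
  exact hp.mem_c0 B ⟨hu', hu⟩
    (mul_mem (inv_mem hw1) ht') (mul_mem (inv_mem hww') ht)

theorem c0_normal {h : e.G} (hh : h ∉ e.M) : (c0 e a h).Normal := by
  obtain ⟨k, hk⟩ := a.exists_not_mem_M
  have hS : ∀ s ∈ (e.P : Subgroup e.G), ∀ c ∈ c0 e a h, s * c * s⁻¹ ∈ c0 e a h := by
    intro s hs c hc
    obtain ⟨s, rfl⟩ := e.exists_τ hs
    obtain ⟨w, hw, x, hwx, hr, -⟩ := hp.twisted B hk s
    set r := x⁻¹ * s with hrdef
    have h1 : e.τ r * c * (e.τ r)⁻¹ ∈ c0 e a h := by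
      refine ⟨c1_conj (e.τ_mem r) hc.1, ?_⟩
      obtain ⟨t, ht, rfl⟩ := hc.2
      refine ⟨h⁻¹ * e.τ r * h * t * (h⁻¹ * e.τ r * h)⁻¹, c1_conj (e.core.le_S
        (by simpa using pCore_isNormal.conj_mem _ hr h⁻¹)) ht, ?_⟩
      simp only [MulEquiv.coe_toMonoidHom, MulAut.conj_apply]
      group
    obtain ⟨d, hd, hde⟩ := h1.1
    have h2 := mul_mem (hp.omega_le_c0 B h
      (show e.τ (x * d * x⁻¹ * d⁻¹) ∈ omega p e.G from
        e.center_le_V B (hp.move B hw hwx hd.2))) h1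
    convert h2 using 1
    rw [show s = x * r by rw [hrdef]; group]
    simp only [map_mul, map_inv, hde]
    group
  have hh' : ∀ s ∈ (e.P : Subgroup e.G), ∀ c ∈ c0 e a h,
      h * s * h⁻¹ * c * (h * s * h⁻¹)⁻¹ ∈ c0 e a h := by
    intro s hs c hc
    obtain ⟨s, rfl⟩ := e.exists_τ hs
    obtain ⟨w, hw, x, hwx, hr, -⟩ := hp.twisted B hk s
    set r := x⁻¹ * s with hrdef
    set r' := h * e.τ r * h⁻¹ with hr'
    have hr'Q : r' ∈ Cfsg.pCore p e.G := pCore_isNormal.conj_mem _ hr h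
    have h1 : r' * c * r'⁻¹ ∈ c0 e a h := by
      refine ⟨c1_conj (e.core.le_S hr'Q) hc.1, ?_⟩
      obtain ⟨t, ht, rfl⟩ := hc.2
      refine ⟨e.τ r * t * (e.τ r)⁻¹, c1_conj (e.τ_mem r) ht, ?_⟩
      simp only [MulEquiv.coe_toMonoidHom, MulAut.conj_apply, hr']
      group
    obtain ⟨d, hd, hde⟩ := h1.2
    obtain ⟨d, hd', rfl⟩ := hd
    simp only [MulEquiv.coe_toMonoidHom, MulAut.conj_apply] at hde
    have h2 := mul_mem (hp.omega_le_c0 B h (omega_normal.conj_mem _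
      (show e.τ (x * d * x⁻¹ * d⁻¹) ∈ omega p e.G from
        e.center_le_V B (hp.move B hw hwx hd'.2)) h)) h1
    convert h2 using 1
    rw [← hde, show s = x * r by rw [hrdef]; group]
    have e1 : e.τ d = h⁻¹ * (r' * c * r'⁻¹) * h := by rw [← hde]; group
    simp only [map_mul, map_inv, e1, hr']
    group
  obtain ⟨s, hs, hsQ⟩ := SetLike.not_le_iff_exists.1 e.core.ne
  exact normalizer_eq_top_iff.1 (e.ctx.gen h hh _
    (fun s hs => mem_normalizer_fintype (hh' s hs)) ⟨s, hs, hsQ, mem_normalizer_fintype (hS s hs)⟩)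

end Duo

/-- What one side of a pair gives. -/
structure Side (e a : Mem p S) (h : e.G) (E : Subgroup e.G) : Prop where
  normalE : E.Normal
  lines : Lines e.P e.q e.M (Cfsg.pCore p e.G) (c1 e a) (c0 e a h)
  both : ∀ g : e.G, (orderOf g).Coprime p → g ∈ kerOf (omega p e.G) (z0 p e.G) →
    (∀ u ∈ Cfsg.pCore p e.G, g * u * g⁻¹ * u⁻¹ ∈ c0 e a h) → g = 1
  z0_le : z0 p e.G ≤ E
  inf_zs : zs e.P ⊓ E ≤ z0 p e.G
  abel : ∀ r ∈ Cfsg.pCore p e.G, ∀ r' ∈ Cfsg.pCore p e.G, r * r' * r⁻¹ * r'⁻¹ ∈ E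
  pow : ∀ r ∈ Cfsg.pCore p e.G, r ^ p ∈ E

/-- The same before the two values of `q` are known to agree. -/
structure Side0 (e a : Mem p S) (h : e.G) (E : Subgroup e.G) : Prop where
  normalE : E.Normal
  E_le : E ≤ c0 e a h
  moveU : ∀ s ∈ (e.P : Subgroup e.G), ∀ u ∈ Cfsg.pCore p e.G, s * u * s⁻¹ * u⁻¹ ∈ c1 e a
  moveC : ∀ s ∈ (e.P : Subgroup e.G), ∀ t ∈ c1 e a, s * t * s⁻¹ * t⁻¹ ∈ c0 e a h
  sup : ∀ h' ∉ e.M, Cfsg.pCore p e.G ≤ c1 e a ⊔ (c1 e a).map (MulAut.conj h').toMonoidHom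
  cardC : Nat.card (c1 e a) = a.q * Nat.card (c0 e a h)
  q_le : e.q ≤ a.q
  both : ∀ g : e.G, (orderOf g).Coprime p → g ∈ kerOf (omega p e.G) (z0 p e.G) →
    (∀ u ∈ Cfsg.pCore p e.G, g * u * g⁻¹ * u⁻¹ ∈ c0 e a h) → g = 1
  z0_le : z0 p e.G ≤ E
  inf_zs : zs e.P ⊓ E ≤ z0 p e.G
  abel : ∀ r ∈ Cfsg.pCore p e.G, ∀ r' ∈ Cfsg.pCore p e.G, r * r' * r⁻¹ * r'⁻¹ ∈ E
  pow : ∀ r ∈ Cfsg.pCore p e.G, r ^ p ∈ E

theorem Duo.side0 (B : Base p S) {e a : Mem p S} (hp : Duo e a) {h : e.G} (hh : h ∉ e.M) :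
    ∃ E, Side0 e a h E := by
  obtain ⟨k, hk⟩ := a.exists_not_mem_M
  have N := e.std B
  set V := omega p e.G with hV
  set Q := Cfsg.pCore p e.G with hQ
  set C1 := c1 e a with hC1
  set C0 := c0 e a h with hC0
  haveI hC0n := hp.c0_normal B hh
  haveI := omega_normal (p := p) (G := e.G)
  haveI := pCore_isNormal (p := p) (G := e.G)
  have hVC0 : V ≤ C0 := hp.omega_le_c0 B h
  have hC0Q : C0 ≤ Q := inf_le_left.trans c1_le
  set K := kerOf C0 V with hK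
  have hxK : ∀ {w x : S}, w ∈ e.V → (w, x) ∈ step a k → e.τ x ∈ K := by
    intro w x hw hwx
    refine mem_kerOf.2 fun c hc => ?_
    obtain ⟨d, hd, rfl⟩ := hc.1
    rw [← map_inv, ← map_inv, ← map_mul, ← map_mul, ← map_mul]
    exact e.center_le_V B (hp.move B hw hwx hd.2)
  have hcop : ∀ g : e.G, (orderOf g).Coprime p → g ∈ K := by
    obtain ⟨s₀, hs₀⟩ := e.exists_not_mem_Q
    obtain ⟨w, hw, x, hwx, hr, -⟩ := hp.twisted B hk s₀
    refine fun g hg => coprime_mem e.core K (e.τ_mem x) (hxK hw hwx) (fun hq => hs₀ ?_) hg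
    have := e.Q.mul_mem hq hr
    rwa [mul_inv_cancel_left] at this
  set E := C0 ⊓ centralizer (K : Set e.G) with hE
  haveI hEn : E.Normal := by rw [hE]; infer_instance
  have hCle : E ≤ C0 := inf_le_left
  have hzE : z0 p e.G ≤ E := fun z hz =>
    ⟨hVC0 hz.1, mem_centralizer_iff.2 fun g _ => z0_central hz g⟩
  have hzsE : zs e.P ⊓ E ≤ z0 p e.G := by
    rintro z ⟨hz, hzE'⟩
    refine mem_fix.2 ⟨hz.1, fun g _ => ?_⟩
    have htop : centralizer ({z} : Set e.G) = ⊤ :=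
      eq_top_of_coprime e.P (fun s hs => mem_centralizer_singleton_iff.2 ((mem_fix.1 hz).2 s hs))
        fun g hg => mem_centralizer_singleton_iff.2 (mem_centralizer_iff.1 hzE'.2 g (hcop g hg))
    exact mem_centralizer_singleton_iff.1 (htop ▸ mem_top g)
  set π := QuotientGroup.mk' E with hπ
  have hπE : ∀ {x}, x ∈ E → π x = 1 := fun hx => (QuotientGroup.eq_one_iff _).2 hx
  -- the three factors
  set A := a.V.map e.τ with hA
  have hAA : ∀ {x y : e.G}, x ∈ A → y ∈ A → Commute x y := by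
    rintro _ _ ⟨x, hx, rfl⟩ ⟨y, hy, rfl⟩
    exact (show Commute x y from (mem_centralizer_iff.1 (a.V_comm B hx) y hy).symm).map e.τ
  have hAp : ∀ {x : e.G}, x ∈ A → x ^ p = 1 := by
    rintro _ ⟨x, hx, rfl⟩
    rw [← map_pow, a.pow_V hx, map_one]
  have hC1A : ∀ {u x : e.G}, u ∈ C1 → x ∈ A → Commute u x := by
    rintro _ _ ⟨u, hu, rfl⟩ ⟨x, hx, rfl⟩
    refine (show Commute u x from ?_).map e.τ
    have := hu.2
    rw [← a.C_V B] at this
    exact (mem_centralizer_iff.1 this x hx).symm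
  have hCA : ∀ {u x : e.G}, u ∈ C0 → x ∈ A → Commute u x := fun hu hx => hC1A hu.1 hx
  have hCB : ∀ {u x : e.G}, u ∈ C0 → x ∈ A → Commute u (h * x * h⁻¹) := fun {u x} hu hx => by
    obtain ⟨t, ht, rfl⟩ := hu.2
    simpa using (hC1A ht hx).map (MulAut.conj h).toMonoidHom
  have hCC : ∀ {u u' : e.G}, u ∈ C0 → u' ∈ C0 → u * u' * u⁻¹ * u'⁻¹ ∈ E := fun hu hu' =>
    ⟨C0.mul_mem (C0.mul_mem (C0.mul_mem hu hu') (C0.inv_mem hu)) (C0.inv_mem hu'),
      mem_centralizer_iff.2 fun g hg =>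
        fix_commutator (hC0Q hu) (hC0Q hu') (mem_kerOf.1 hg _ hu) (mem_kerOf.1 hg _ hu')⟩
  have hAB : ∀ {x y : e.G}, x ∈ A → y ∈ A → Commute (π x) (π (h * y * h⁻¹)) := by
    rintro _ _ ⟨v, hv, rfl⟩ ⟨w, hw, rfl⟩
    obtain ⟨w', hww'⟩ := exists_step e h (hp.V_le B hw)
    rw [hww'.2]
    refine (commute_mk.2 (hzE ?_)).symm
    have := hp.comm_z0 B hh hv hw hww'
    simpa only [map_mul, map_inv] using this
  have hdec : ∀ r ∈ Q, ∃ x ∈ A, ∃ y ∈ A, ∃ u ∈ C0, r = x * (h * y * h⁻¹) * u := by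
    intro r hr
    obtain ⟨r, hr', rfl⟩ := e.exists_τ_core hr
    obtain ⟨v, hv, w, hw, w', hww', u, hu, rfl⟩ := hp.dec B hh hr'
    exact ⟨_, mem_map_of_mem _ hv, _, mem_map_of_mem _ hw, _, hu, by
      rw [hww'.2, map_mul, map_mul]⟩
  have habel : ∀ r ∈ Q, ∀ r' ∈ Q, Commute (π r) (π r') := by
    intro r hr r' hr'
    obtain ⟨x, hx, y, hy, u, hu, rfl⟩ := hdec r hr
    obtain ⟨x', hx', y', hy', u', hu', rfl⟩ := hdec r' hr'
    have c1 : Commute (π x) (π x') := (hAA hx hx').map π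
    have c2 : Commute (π (h * y * h⁻¹)) (π (h * y' * h⁻¹)) :=
      ((hAA hy hy').map (MulAut.conj h).toMonoidHom).map π
    have c3 : ∀ {u x : e.G}, u ∈ C0 → x ∈ A → Commute (π u) (π x) := fun hu hx => (hCA hu hx).map π
    have c4 : ∀ {u x : e.G}, u ∈ C0 → x ∈ A → Commute (π u) (π (h * x * h⁻¹)) :=
      fun hu hx => (hCB hu hx).map π
    have c5 : Commute (π u) (π u') := commute_mk.2 (hCC hu hu')
    simp only [map_mul]
    simp only [map_mul] at c2 c4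
    have d1 := hAB hx hy'
    have d2 := hAB hx' hy
    simp only [map_mul] at d1 d2
    exact (((c1.mul_right d1).mul_right (c3 hu' hx).symm).mul_left
      ((d2.symm.mul_right c2).mul_right (c4 hu' hy).symm)).mul_left
      (((c3 hu hx').mul_right (c4 hu hy')).mul_right c5)
  have hpow : ∀ r ∈ Q, r ^ p ∈ E := by
    intro r hr
    obtain ⟨x, hx, y, hy, u, hu, rfl⟩ := hdec r hr
    refine (QuotientGroup.eq_one_iff _).1 ?_
    show π ((x * (h * y * h⁻¹) * u) ^ p) = 1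
    have c2 : Commute (π x * π (h * y * h⁻¹)) (π u) :=
      ((hCA hu hx).symm.map π).mul_left ((hCB hu hy).symm.map π)
    rw [map_pow, map_mul, map_mul, c2.mul_pow, (hAB hx hy).mul_pow, ← map_pow, ← map_pow,
      ← map_pow, hAp hx, conj_pow, hAp hy, map_one, one_mul]
    simp [hπE (show u ^ p ∈ E from ⟨C0.pow_mem hu p, mem_centralizer_iff.2 fun g hg =>
      fix_pow (hC0Q hu) (mem_kerOf.1 hg _ hu)⟩)]
  have habel' : ∀ r ∈ Q, ∀ r' ∈ Q, r * r' * r⁻¹ * r'⁻¹ ∈ E := fun r hr r' hr' =>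
    commute_mk.1 (habel r hr r' hr')
  have hmoveU : ∀ s ∈ (e.P : Subgroup e.G), ∀ u ∈ Q, s * u * s⁻¹ * u⁻¹ ∈ C1 := by
    intro s hs u hu
    obtain ⟨s, rfl⟩ := e.exists_τ hs
    obtain ⟨u, -, rfl⟩ := e.exists_τ (e.core.le_S hu)
    rw [← map_inv, ← map_inv, ← map_mul, ← map_mul, ← map_mul]
    refine mem_c1.2 ⟨?_, ?_⟩
    · have := e.core.comm _ (e.τ_mem s) _ (e.τ_mem u)
      rwa [← map_inv, ← map_inv, ← map_mul, ← map_mul, ← map_mul] at this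
    · have := a.core.comm _ (a.τ_mem s) _ (a.τ_mem u)
      rwa [← map_inv, ← map_inv, ← map_mul, ← map_mul, ← map_mul] at this
  have hmoveC : ∀ s ∈ (e.P : Subgroup e.G), ∀ t ∈ C1, s * t * s⁻¹ * t⁻¹ ∈ C0 := by
    intro s hs t ht
    obtain ⟨s, rfl⟩ := e.exists_τ hs
    obtain ⟨w, hw, x, hwx, hr, -⟩ := hp.twisted B hk s
    obtain ⟨d, hd, rfl⟩ := ht
    have h1 : Commute ((e.τ x : e.G) : e.G ⧸ C0) ((e.τ d : e.G) : e.G ⧸ C0) := commute_mk.2 (by
      rw [← map_inv, ← map_inv, ← map_mul, ← map_mul, ← map_mul]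
      exact hVC0 (e.center_le_V B (hp.move B hw hwx hd.2)))
    have h2 : Commute ((e.τ (x⁻¹ * s) : e.G) : e.G ⧸ C0) ((e.τ d : e.G) : e.G ⧸ C0) :=
      commute_mk.2 (hCle (habel' _ hr _ hd.1))
    refine commute_mk.1 ?_
    rw [show s = x * (x⁻¹ * s) by group, map_mul, QuotientGroup.mk_mul]
    exact h1.mul_left h2
  have hcU : Nat.card Q = a.q * Nat.card C1 := hp.card_core B
  have hcov : ∀ h', h' ∉ e.M → Q ≤ C1 ⊔ C1.map (MulAut.conj h').toMonoidHom := by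
    intro h' hh' r hr
    obtain ⟨r, hr', rfl⟩ := e.exists_τ_core hr
    obtain ⟨v, hv, t', ht, ht'⟩ := hp.coverA B hh' hr'
    have := mul_mem_sup (hp.map_V_le_c1 B (mem_map_of_mem e.τ hv))
      (show e.τ (v⁻¹ * r) ∈ C1.map (MulAut.conj h').toMonoidHom from
        ⟨e.τ t', mem_c1.2 ht', ht.2⟩)
    rwa [← map_mul, mul_inv_cancel_left] at this
  set C1h := C1.map (MulAut.conj h).toMonoidHom with hC1h
  have hC1hn : ∀ r ∈ Q, ∀ t ∈ C1h, r * t * r⁻¹ ∈ C1h := by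
    rintro r hr _ ⟨t, ht, rfl⟩
    refine ⟨h⁻¹ * r * h * t * (h⁻¹ * r * h)⁻¹, c1_conj
      (e.core.le_S (by simpa using pCore_isNormal.conj_mem _ hr h⁻¹)) ht, ?_⟩
    simp only [MulEquiv.coe_toMonoidHom, MulAut.conj_apply]
    group
  have hC1hQ : C1h ≤ Q := by
    rintro _ ⟨t, ht, rfl⟩
    exact pCore_isNormal.conj_mem t (c1_le ht) h
  have hcC : Nat.card C1 = a.q * Nat.card C0 := by
    have e1 := card_sup_inf_in hC1hQ c1_le hC1hn (by rw [sup_comm]; exact hcov h hh)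
    rw [inf_comm, ← hC1, show C1 ⊓ C1h = C0 from rfl, hC1h,
      card_map_of_injective (MulAut.conj h).injective, hcU] at e1
    refine (Nat.eq_of_mul_eq_mul_left (Nat.card_pos (α := C1)) ?_).symm
    rw [← e1]; ring
  have hqle : e.q ≤ a.q := by
    set θ := QuotientGroup.mk' C0 with hθ
    set Vb := Q.map θ with hVb
    have hact : Action θ Vb p :=
      { comm := by
          rintro _ ⟨x, hx, rfl⟩ _ ⟨y, hy, rfl⟩
          exact (commute_mk.2 (hCle (habel' x hx y hy))).eq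
        expo := by
          rintro _ ⟨x, hx, rfl⟩
          rw [← map_pow]
          exact (QuotientGroup.eq_one_iff _).2 (hCle (hpow x hx))
        stable := by
          rintro g _ ⟨x, hx, rfl⟩
          exact ⟨g * x * g⁻¹, pCore_isNormal.conj_mem x hx g, by rw [map_mul, map_mul, map_inv]⟩
        triv := fun r hr => mem_centralizer_iff.2 (by
          rintro _ ⟨x, hx, rfl⟩
          exact ((commute_mk.2 (hCle (habel' x hx r hr))).eq)) }
    have hker : (centralizer (Vb : Set (e.G ⧸ C0))).comap θ ⊔ e.P ≠ ⊤ := by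
      intro htop
      haveI := hact.ker_normal
      have hfix : ∀ g : e.G, g ∈ kerOf C1 C0 := fun g => by
        have : kerOf C1 C0 = ⊤ := eq_top_of_coprime e.P
          (fun s hs => mem_kerOf.2 (hmoveC s hs)) fun g hg => mem_kerOf.2 fun c hc =>
            commute_mk.1 (show Commute (θ g) (θ c) from
              (mem_centralizer_iff.1 (mem_of_coprime_of_sup_eq_top e.P htop hg) _
                (mem_map_of_mem θ (c1_le hc))).symm)
        rw [this]; exact mem_top g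
      have hle : C1h ≤ C1 := by
        rintro _ ⟨t, ht, rfl⟩
        have := mul_mem (mem_kerOf.1 (hfix h) t ht).1 ht
        simpa using this
      have hQC : Q ≤ C1 := (hcov h hh).trans (sup_le le_rfl hle)
      have h1 := card_le_of_le hQC
      rw [hcU] at h1
      have h2 := a.q_pos
      have h3 : 0 < Nat.card C1 := Nat.card_pos
      nlinarith
    have hfS : C1.map θ ≤ fix θ Vb (e.P : Subgroup e.G) := by
      rintro _ ⟨c, hc, rfl⟩
      exact mem_fix.2 ⟨mem_map_of_mem θ (c1_le hc), fun s hs => (commute_mk.2 (hmoveC s hs c hc)).eq⟩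
    have hb := (Nat.mul_le_mul_left _ (card_le_of_le hfS)).trans
      (bound e.core hact hker e.core.le_S le_rfl)
    rw [e.ctx.card_S] at hb
    have e1 := card_map_mk C1 C0 inf_le_left
    have e2 := card_map_mk Q C0 hC0Q
    rw [hcC] at e1
    rw [hcU, hcC] at e2
    have h1 : Nat.card (C1.map θ) = a.q := Nat.eq_of_mul_eq_mul_right Nat.card_pos e1
    have h2 : Nat.card Vb = a.q * a.q := Nat.eq_of_mul_eq_mul_right (Nat.card_pos (α := C0))
      (by rw [e2]; ring)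
    rw [h1, h2] at hb
    refine Nat.le_of_mul_le_mul_right ?_ (Nat.mul_pos (Nat.card_pos (α := Q))
      (lt_trans Nat.zero_lt_one a.q_pos))
    calc e.q * (Nat.card Q * a.q) = e.q * Nat.card Q * a.q := by ring
      _ ≤ Nat.card Q * (a.q * a.q) := hb
      _ = _ := by ring
  refine ⟨E, hEn, hCle, hmoveU, hmoveC, hcov, hcC, hqle, ?_, hzE, hzsE, habel', hpow⟩
  · intro g hg hgV hgQ
    refine eq_one_of_coprime e.core hg fun r hr => ?_
    have hfixV : ∀ v ∈ V, g * v = v * g := fun v hv => commute_of_shift' hg rfl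
      (omega_le (mem_kerOf.1 hgV v hv).1) (z0_central (mem_kerOf.1 hgV v hv) g)
    have hfixC : ∀ c ∈ C0, g * c = c * g := fun c hc => commute_of_shift' hg rfl
      (omega_le (mem_kerOf.1 (hcop g hg) c hc)) (hfixV _ (mem_kerOf.1 (hcop g hg) c hc))
    exact commute_of_shift' hg rfl (hC0Q (hgQ r hr)) (hfixC _ (hgQ r hr))

theorem Duo.q_eq (B : Base p S) {e a : Mem p S} (hp : Duo e a) : e.q = a.q := by
  obtain ⟨h, hh⟩ := e.exists_not_mem_M
  obtain ⟨k, hk⟩ := a.exists_not_mem_M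
  obtain ⟨E, hE⟩ := hp.side0 B hh
  obtain ⟨E', hE'⟩ := hp.symm.side0 B hk
  exact le_antisymm hE.q_le hE'.q_le

theorem Duo.side (B : Base p S) {e a : Mem p S} (hp : Duo e a) {h : e.G} (hh : h ∉ e.M) :
    ∃ E, Side e a h E := by
  obtain ⟨E, hE⟩ := hp.side0 B hh
  refine ⟨E, hE.normalE, ?_, hE.both, hE.z0_le, hE.inf_zs, hE.abel, hE.pow⟩
  have hq := hp.q_eq B
  exact
    { normalU := pCore_isNormal
      normalW := hp.c0_normal B hh
      hWC := inf_le_left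
      hCU := c1_le
      comm := fun x hx y hy => hE.E_le (hE.abel x hx y hy)
      pow := fun x hx => hE.E_le (hE.pow x hx)
      moveC := hE.moveC
      moveU := hE.moveU
      triv := fun x hx u hu => hE.E_le (hE.abel x hx u hu)
      sup := hE.sup
      cardU := hq ▸ hp.card_core B
      cardC := hq ▸ hE.cardC }

theorem Duo.moved (B : Base p S) {e a : Mem p S} (hp : Duo e a) {h : e.G} (hh : h ∉ e.M)
    {E : Subgroup e.G} (hS : Side e a h E) :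
    ∃ s ∈ (e.P : Subgroup e.G), ∃ y ∈ Cfsg.pCore p e.G,
      s * (s * y * s⁻¹ * y⁻¹) * s⁻¹ * (s * y * s⁻¹ * y⁻¹)⁻¹ ∉ E := by
  by_contra hall
  push Not at hall
  obtain ⟨v, hv, f, hvf, hfQ⟩ := hp.exists_out B h hh
  have hfe : f ∈ e.Q := step_right hvf
  obtain ⟨k, hk⟩ := a.exists_not_mem_M
  obtain ⟨E', hS'⟩ := hp.symm.side B hk
  haveI := hp.symm.c0_normal B hk
  refine hfQ (hS'.lines.inf_kerOf a.ctx ⟨a.τ_mem f, mem_kerOf.2 fun r hr => commute_mk.1 ?_⟩)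
  set θ := QuotientGroup.mk' (c0 a e k) with hθ
  show Commute (θ (a.τ f)) (θ r)
  have h0 : ∀ {t : S}, t ∈ a.Q → t ∈ e.Q → Commute (θ (a.τ f)) (θ (a.τ t)) := fun hta hte =>
    commute_mk.2 (hS'.lines.moveC _ (a.τ_mem f) _ (mem_c1.2 ⟨hta, hte⟩))
  obtain ⟨r, hr', rfl⟩ := a.exists_τ_core hr
  obtain ⟨w₁, hw₁, w, hw, x, hwx, u, hu, rfl⟩ := hp.symm.dec B hk hr'
  obtain ⟨u', hu', hue⟩ := hu.1
  obtain rfl := a.inj hue
  simp only [map_mul]
  refine ((h0 (hp.symm.V_le B hw₁) (e.V_le_Q hw₁)).mul_right ?_).mul_right (h0 hu'.1 hu'.2)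
  have hxQ : x ∈ a.Q := step_right hwx
  by_cases hxe : x ∈ e.Q
  · exact h0 hxQ hxe
  set c := x * f * x⁻¹ * f⁻¹ with hc
  have hce : c ∈ e.Q := mul_mem (e.normalQ.conj_mem f hfe x) (inv_mem hfe)
  have hca : c ∈ a.Q := by
    rw [hc, show x * f * x⁻¹ * f⁻¹ = x * (f * x⁻¹ * f⁻¹) by group]
    exact mul_mem hxQ (a.normalQ.conj_mem _ (inv_mem hxQ) f)
  suffices hcc : a.τ c ∈ c0 a e k by
    refine Commute.symm (commute_mk.2 ?_)
    rw [hc, map_mul, map_mul, map_mul, map_inv, map_inv] at hcc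
    exact hcc
  obtain ⟨w₂, hw₂, t', ht, ht'⟩ := hp.symm.coverA B hk hca
  have hw₂e : w₂ ∈ e.Q := e.V_le_Q hw₂
  have hw₂a : w₂ ∈ a.Q := hp.symm.V_le B hw₂
  have hc₀ : a.τ (w₂⁻¹ * c) ∈ c0 a e k := by
    have h1 : w₂⁻¹ * c ∈ a.Q := mul_mem (inv_mem hw₂a) hca
    have h2 : w₂⁻¹ * c ∈ e.Q := mul_mem (inv_mem hw₂e) hce
    exact hp.symm.mem_c0 B ⟨h1, h2⟩ ht' ht
  have hcomm : Commute x (w₂⁻¹ * c) := by
    refine (rel_commute (rel_single (z := (⟨a, k⟩ : Link p S)).2 hwx)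
      (rel_single (z := (⟨a, k⟩ : Link p S)).2 ht)).1 ?_
    have := ht'.2
    rw [← e.C_V B] at this
    exact mem_centralizer_iff.1 this w hw
  have hz : e.τ (x * w₂ * x⁻¹ * w₂⁻¹) ∈ z0 p e.G := by
    refine hS.inf_zs ⟨(e.mem_zs_iff B).2 (e.quad B hw₂ x), ?_⟩
    show e.τ (x * w₂ * x⁻¹ * w₂⁻¹) ∈ E
    have h1 := hall _ (e.τ_mem x) _ (show e.τ f ∈ Cfsg.pCore p e.G from hfe)
    have e1 : x * c * x⁻¹ * c⁻¹ = x * w₂ * x⁻¹ * w₂⁻¹ := by
      calc x * c * x⁻¹ * c⁻¹ = x * w₂ * ((w₂⁻¹ * c) * x⁻¹) * c⁻¹ := by group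
        _ = x * w₂ * (x⁻¹ * (w₂⁻¹ * c)) * c⁻¹ := by rw [hcomm.symm.inv_right.eq]
        _ = _ := by group
    rw [← e1, hc]
    simpa only [map_mul, map_inv, mul_inv_rev, inv_inv] using h1
  have hw₂c : a.τ w₂ ∈ c0 a e k :=
    hp.symm.omega_le_c0 B k (a.center_le_V B (e.key B hxe hw₂ hz))
  have := mul_mem hw₂c hc₀
  rwa [← map_mul, mul_inv_cancel_left] at this

/-- For a pair `p = 3`, and the central part of `S₀` is fixed. -/
theorem Duo.central (B : Base p S) {e a : Mem p S} (hp : Duo e a) {z : S} (hz : z ∈ s0 p S)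
    (hzc : z ∈ center S) : e.τ z ∈ z0 p e.G := by
  obtain ⟨h, hh⟩ := e.exists_not_mem_M
  obtain ⟨k, hk⟩ := a.exists_not_mem_M
  obtain ⟨E, hS⟩ := hp.side B hh
  haveI := hS.normalE
  have hsplit : ∀ s ∈ (e.P : Subgroup e.G), ∃ x ∈ (e.P : Subgroup e.G),
      x⁻¹ * s ∈ Cfsg.pCore p e.G ∧ x ^ p = 1 ∧
        ∀ t ∈ c1 e a, x * t * x⁻¹ * t⁻¹ ∈ zs e.P := by
    intro s hs
    obtain ⟨s, rfl⟩ := e.exists_τ hs
    obtain ⟨w, hw, x, hwx, hr, hxp⟩ := hp.twisted B hk s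
    refine ⟨e.τ x, e.τ_mem x, ?_, by rw [← map_pow, hxp, map_one], ?_⟩
    · rw [← map_inv, ← map_mul]; exact hr
    · rintro _ ⟨d, hd, rfl⟩
      rw [← map_inv, ← map_inv, ← map_mul, ← map_mul, ← map_mul]
      exact (e.mem_zs_iff B).2 (hp.move B hw hwx hd.2)
  have hp3 : p = 3 := (caseTwo' (e.std B) (⟨hS.normalE, hS.lines, hS.both, hS.z0_le, hS.inf_zs,
    hS.abel, hS.pow, hsplit, hp.moved B hh hS⟩ : Mid0 p e.P e.q e.M (c1 e a) (c0 e a h) E)
    e.F e.cardF).1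
  set π := QuotientGroup.mk' E with hπ
  have hΦ : frattini S ≤ e.Q ⊓ a.Q :=
    PGroupBasic.frattini_le_of_elementary (p := p) _ (commutator_le.2 fun s _ t _ => ⟨by
        show e.τ _ ∈ Cfsg.pCore p e.G
        simp only [commutatorElement_def, map_mul, map_inv]
        exact e.core.comm _ (e.τ_mem s) _ (e.τ_mem t), by
        show a.τ _ ∈ Cfsg.pCore p a.G
        simp only [commutatorElement_def, map_mul, map_inv]
        exact a.core.comm _ (a.τ_mem s) _ (a.τ_mem t)⟩)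
      fun s => ⟨hp.symm.pow_mem_Q B s, hp.pow_mem_Q B s⟩
  refine hS.inf_zs ⟨(e.mem_zs_iff B).2 hzc, ?_⟩
  refine s0_le_three (X := E.comap e.τ) B.isP hp3 (W := (zs e.P ⊔ E).comap e.τ) hΦ ?_ ?_
    (fun u hu v hv => ?_) (fun u hu => ?_) hz
  · intro u hu s
    obtain ⟨w, hw, x, hwx, hr, -⟩ := hp.twisted B hk s
    have h1 := inv_mem (hp.move B hw hwx hu.2)
    have h2 := hS.abel _ (show e.τ u ∈ Cfsg.pCore p e.G from hu.1) _
      (show e.τ (x⁻¹ * s) ∈ Cfsg.pCore p e.G from hr)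
    have h3 := mul_mem_sup ((e.mem_zs_iff B).2 h1)
      (hS.normalE.conj_mem _ h2 (e.τ x))
    show e.τ (u * s * u⁻¹ * s⁻¹) ∈ zs e.P ⊔ E
    simp only [map_mul, map_inv] at h3 ⊢
    convert h3 using 1
    group
  · intro w hw s
    obtain ⟨y, hy, ee, hee, he⟩ := mem_sup_of_normal_right.1 (show e.τ w ∈ zs e.P ⊔ E from hw)
    show e.τ (w * s * w⁻¹ * s⁻¹) ∈ E
    simp only [map_mul, map_inv]
    refine commute_mk.1 ?_
    show Commute (π (e.τ w)) (π (e.τ s))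
    rw [← he, map_mul, show π ee = 1 from (QuotientGroup.eq_one_iff _).2 hee, mul_one]
    exact ((show Commute (e.τ s) y from (mem_fix.1 hy).2 _ (e.τ_mem s)).symm).map π
  · show e.τ _ ∈ E
    simp only [map_mul, map_inv]
    exact hS.abel _ hu.1 _ hv.1
  · show e.τ _ ∈ E
    rw [map_pow]
    exact hS.pow _ hu.1

end CfsgLib.PushL2.Pair
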