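import Cfsg.Agent.PushL2.RankOne
import Cfsg.Agent.CharP.QdOver
import Cfsg.Agent.Solvable.Gaschutz

/-!
Pushing up for `p ≥ 5` inside an ambient group: `G = Qd(q) × E`.
-/

set_option autoImplicit false
set_option linter.unusedSectionVars false
set_option linter.style.haveILetI false

namespace CfsgLib.PushL2

open Subgroup Matrix
open scoped commutatorElement
open CfsgLib.SL2Pair (up up_mul up_zero up_coe)

variable {F : Type*} [Field F]

/-- `-1` in `SL₂(F)`. -/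
def negOne : Matrix.SpecialLinearGroup (Fin 2) F :=
  ⟨!![-1, 0; 0, -1], by simp [Matrix.det_fin_two]⟩

theorem negOne_mulVec (v : Fin 2 → F) :
    ((negOne : Matrix.SpecialLinearGroup (Fin 2) F) : Matrix (Fin 2) (Fin 2) F).mulVec v = -v := by
  funext i
  fin_cases i <;> simp [negOne, Matrix.mulVec, dotProduct, Fin.sum_univ_two]

theorem negOne_sq : (negOne : Matrix.SpecialLinearGroup (Fin 2) F) ^ 2 = 1 := by
  rw [sq]
  apply Matrix.SpecialLinearGroup.ext
  intro i j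
  rw [Matrix.SpecialLinearGroup.coe_mul, Matrix.mul_apply, Fin.sum_univ_two]
  fin_cases i <;> fin_cases j <;> simp [negOne]

theorem negOne_comm (A : Matrix.SpecialLinearGroup (Fin 2) F) : negOne * A = A * negOne := by
  apply Matrix.SpecialLinearGroup.ext
  intro i j
  rw [Matrix.SpecialLinearGroup.coe_mul, Matrix.SpecialLinearGroup.coe_mul, Matrix.mul_apply,
    Matrix.mul_apply, Fin.sum_univ_two, Fin.sum_univ_two]
  fin_cases i <;> fin_cases j <;> simp [negOne, mul_comm]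

section InG

variable {G : Type*} [Group G] [Finite G] {p : ℕ} [Fact p.Prime] {S : Sylow p G} {q : ℕ}
  {M : Subgroup G} {hW : (z0 p G).Normal}
  {φ : Nat2 p S F (omega p G) (zs S) (z0 p G)}

theorem ker_eq_core (h1 : One p S) (φ : Nat2 p S F (omega p G) (zs S) (z0 p G)) :
    φ.ρ.ker = Cfsg.pCore p G := φ.ker.trans h1.ker

theorem odd_of_five (hp : 5 ≤ p) : ∃ k, p = 2 * k + 1 :=
  ((Fact.out : p.Prime).odd_of_ne_two (by omega))

theorem two_ne (hp : 5 ≤ p) (N : NoChar p S q M) (φ : Nat2 p S F (omega p G) (zs S) (z0 p G)) :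
    (2 : F) ≠ 0 := by
  intro h2
  obtain ⟨k, hk⟩ := odd_of_five (p := p) hp
  have h := φ.char_eq N.linesV
  rw [hk, Nat.cast_add, Nat.cast_mul, Nat.cast_ofNat, h2, zero_mul, zero_add, Nat.cast_one] at h
  exact one_ne_zero h

theorem exp_eq (hp : 5 ≤ p) (h1 : One p S) {s : G} (hs : s ∈ (S : Subgroup G)) : s ^ p = 1 := by
  have h := Monoid.pow_exponent_eq_one (⟨s, hs⟩ : ↥(S : Subgroup G))
  rw [h1.exp_odd (by omega)] at h
  simpa using congrArg Subtype.val h

theorem exists_inv (hp : 5 ≤ p) (N : NoChar p S q M) (h1 : One p S)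
    (φ : Nat2 p S F (omega p G) (zs S) (z0 p G)) : ∃ t : G, t * t = 1 ∧ φ.ρ t = negOne := by
  have hpp := (Fact.out : p.Prime)
  obtain ⟨g, hg⟩ := φ.surj negOne
  obtain ⟨a, m, hm, he⟩ := Nat.exists_eq_pow_mul_and_not_dvd (orderOf_pos g).ne' p hpp.ne_one
  obtain ⟨k, hk⟩ := odd_of_five (p := p) hp
  have hodd : Odd (p ^ a) := (show Odd p from ⟨k, hk⟩).pow
  obtain ⟨b, hb⟩ := hodd
  have ht : φ.ρ (g ^ p ^ a) = negOne := by
    rw [map_pow, hg, hb, pow_add, pow_mul, negOne_sq, one_pow, one_mul, pow_one]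
  refine ⟨g ^ p ^ a, ?_, ht⟩
  rw [← sq]
  have hm' : (g ^ p ^ a) ^ m = 1 := by rw [← pow_mul, ← he]; exact pow_orderOf_eq_one g
  have hQ : (g ^ p ^ a) ^ 2 ∈ Cfsg.pCore p G := by
    rw [← ker_eq_core h1 φ, MonoidHom.mem_ker, map_pow, ht, negOne_sq]
  obtain ⟨j, hj⟩ := N.core.isP ⟨_, hQ⟩
  have hj' : ((g ^ p ^ a) ^ 2) ^ p ^ j = 1 := by simpa using congrArg Subtype.val hj
  refine orderOf_eq_one_iff.1 (Nat.eq_one_of_dvd_coprimes
    (((hpp.coprime_iff_not_dvd.2 hm).pow_left j).symm) (orderOf_dvd_of_pow_eq_one ?_)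
    (orderOf_dvd_of_pow_eq_one hj'))
  rw [← pow_mul, mul_comm, pow_mul, hm', one_pow]

variable {t : G}

theorem inv_eq_self (htt : t * t = 1) : t⁻¹ = t := inv_eq_of_mul_eq_one_left htt

theorem coprime_inv (hp : 5 ≤ p) (htt : t * t = 1) : (orderOf t).Coprime p := by
  refine Nat.Coprime.coprime_dvd_left (orderOf_dvd_of_pow_eq_one (by rw [sq]; exact htt)) ?_
  exact (Nat.coprime_primes Nat.prime_two Fact.out).2 (by omega)

theorem psi_inv (htt : t * t = 1) (ht : φ.ρ t = negOne) {v : G} (hv : v ∈ omega p G) :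
    φ.ψ (t * v * t) = -φ.ψ v := by
  have h := φ.equiv t v hv
  rwa [inv_eq_self htt, ht, negOne_mulVec] at h

theorem mem_z0_of_fixed (hp : 5 ≤ p) (N : NoChar p S q M) (htt : t * t = 1)
    (ht : φ.ρ t = negOne) {v : G} (hv : v ∈ omega p G) (h : t * v * t = v) : v ∈ z0 p G := by
  have h2 := psi_inv htt ht hv
  rw [h, eq_neg_iff_add_eq_zero, ← two_smul F, smul_eq_zero] at h2
  exact (φ.eq_zero v hv).1 (h2.resolve_left (two_ne hp N φ))

theorem conj_mul_self (htt : t * t = 1) (a b : G) : t * (a * b) * t = t * a * t * (t * b * t) := by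
  rw [show t * a * t * (t * b * t) = t * a * (t * t) * (b * t) by group, htt]
  group

theorem conj_mem_sylow (N : NoChar p S q M) (h1 : One p S) (htt : t * t = 1)
    (ht : φ.ρ t = negOne) {s : G} (hs : s ∈ (S : Subgroup G)) :
    t * s * t * s⁻¹ ∈ Cfsg.pCore p G ∧ t * s * t ∈ (S : Subgroup G) := by
  have h : t * s * t * s⁻¹ ∈ Cfsg.pCore p G := by
    rw [← ker_eq_core h1 φ, MonoidHom.mem_ker, map_mul, map_mul, map_mul, map_inv, ht,
      mul_assoc negOne, ← negOne_comm (φ.ρ s), ← mul_assoc, ← sq, negOne_sq, one_mul,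
      mul_inv_cancel]
  refine ⟨h, ?_⟩
  have := (S : Subgroup G).mul_mem (N.core.le_S h) hs
  rwa [inv_mul_cancel_right] at this

theorem conj_mem_zs (N : NoChar p S q M) (h1 : One p S) (htt : t * t = 1)
    (ht : φ.ρ t = negOne) {u : G} (hu : u ∈ zs S) : t * u * t ∈ zs S := by
  obtain ⟨huS, hup, hu⟩ := (mem_zs N.core).1 hu
  refine (mem_zs N.core).2 ⟨(conj_mem_sylow N h1 htt ht huS).2, ?_, fun s hs => ?_⟩
  · have h : (t * u * t⁻¹) ^ p = t * u ^ p * t⁻¹ := conj_pow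
    rw [inv_eq_self htt, hup, mul_one, htt] at h
    exact h
  · have h := congrArg (fun x => t * x * t) (hu _ (conj_mem_sylow N h1 htt ht hs).2)
    rw [conj_mul_self htt (t * s * t) u, conj_mul_self htt u (t * s * t)] at h
    rwa [show t * (t * s * t) * t = t * t * s * (t * t) by group, htt, one_mul, mul_one] at h

/-- `Q = [V, t] C_Q(t)`. -/
theorem decomp (hp : 5 ≤ p) (h1 : One p S) (htt : t * t = 1) {r : G}
    (hr : r ∈ Cfsg.pCore p G) :
    ∃ u r₀, u ∈ omega p G ∧ t * u * t = u⁻¹ ∧ r₀ ∈ Cfsg.pCore p G ∧ t * r₀ * t = r₀ ∧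
      r = u * r₀ := by
  have hti := inv_eq_self htt
  have hv := h1.top t (coprime_inv hp htt) r hr
  rw [hti] at hv
  set v := t * r * t * r⁻¹ with hvdef
  have htv : t * v * t = v⁻¹ := by
    rw [hvdef, show (t * r * t * r⁻¹)⁻¹ = r * t⁻¹ * r⁻¹ * t⁻¹ by group, hti,
      show t * (t * r * t * r⁻¹) * t = t * t * r * t * r⁻¹ * t by group, htt, one_mul]
  obtain ⟨k, hk⟩ := odd_of_five (p := p) hp
  have hpw : t * v ^ (k + 1) * t = (v ^ (k + 1))⁻¹ := by
    have h : (t * v * t⁻¹) ^ (k + 1) = t * v ^ (k + 1) * t⁻¹ := conj_pow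
    rw [hti, htv, inv_pow] at h
    exact h.symm
  refine ⟨(v ^ (k + 1))⁻¹, v ^ (k + 1) * r, (omega p G).inv_mem ((omega p G).pow_mem hv _), ?_,
    mul_mem (omega_le ((omega p G).pow_mem hv _)) hr, ?_, by group⟩
  · rw [inv_inv]
    have h := congrArg (·⁻¹) hpw
    simp only [inv_inv, _root_.mul_inv_rev, hti] at h
    exact (mul_assoc _ _ _).trans h
  · have h2 : (v ^ (k + 1))⁻¹ * v = v ^ (k + 1) := by
      rw [inv_mul_eq_iff_eq_mul, ← pow_add, show k + 1 + (k + 1) = p + 1 by omega, pow_succ, hv.2,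
        one_mul]
    have h3 : t * r * t = v * r := by rw [hvdef]; group
    rw [conj_mul_self htt, hpw, h3, ← mul_assoc, h2]

theorem commutator_mem_z0 (hp : 5 ≤ p) (N : NoChar p S q M) (h1 : One p S) (htt : t * t = 1)
    (ht : φ.ρ t = negOne) {r r' : G} (hr : r ∈ Cfsg.pCore p G) (hr' : r' ∈ Cfsg.pCore p G) :
    r * r' * r⁻¹ * r'⁻¹ ∈ z0 p G := by
  set Q := Cfsg.pCore p G
  obtain ⟨u, a, hu, -, ha, hta, rfl⟩ := decomp hp h1 htt hr
  obtain ⟨u', b, hu', -, hb, htb, rfl⟩ := decomp hp h1 htt hr'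
  have huQ := omega_le hu
  have huQ' := omega_le hu'
  have e : u * a * (u' * b) * (u * a)⁻¹ * (u' * b)⁻¹ = a * b * a⁻¹ * b⁻¹ := by
    have e1 : a * u' = u' * a := (omega_commute hu' ha).symm
    have e2 : (a * b * a⁻¹) * u⁻¹ = u⁻¹ * (a * b * a⁻¹) :=
      (omega_commute ((omega p G).inv_mem hu) (Q.mul_mem (Q.mul_mem ha hb) (Q.inv_mem ha))).symm
    have e3 : (a * b * a⁻¹ * b⁻¹) * u'⁻¹ = u'⁻¹ * (a * b * a⁻¹ * b⁻¹) :=
      (omega_commute ((omega p G).inv_mem hu')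
        (Q.mul_mem (Q.mul_mem (Q.mul_mem ha hb) (Q.inv_mem ha)) (Q.inv_mem hb))).symm
    calc u * a * (u' * b) * (u * a)⁻¹ * (u' * b)⁻¹
        = u * (a * u') * (b * a⁻¹) * u⁻¹ * (b⁻¹ * u'⁻¹) := by group
      _ = u * u' * ((a * b * a⁻¹) * u⁻¹) * b⁻¹ * u'⁻¹ := by rw [e1]; group
      _ = u * u' * u⁻¹ * ((a * b * a⁻¹ * b⁻¹) * u'⁻¹) := by rw [e2]; group
      _ = u * u' * u⁻¹ * u'⁻¹ * (a * b * a⁻¹ * b⁻¹) := by rw [e3]; group
      _ = _ := by rw [omega_commute hu huQ']; group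
  rw [e]
  set c := a * b * a⁻¹ * b⁻¹ with hc
  have haS := N.core.le_S ha
  have hbS := N.core.le_S hb
  have hcS : c ∈ (S : Subgroup G) := mul_mem (mul_mem (mul_mem haS hbS) (inv_mem haS)) (inv_mem hbS)
  have hczs : c ∈ zs S := by
    refine (mem_zs N.core).2 ⟨hcS, exp_eq hp h1 hcS, fun s hs => ?_⟩
    have h : ⁅c, s⁆ ∈ (S : Subgroup G).lowerCentralSeries 2 :=
      commutator_mem_commutator (commutator_mem_commutator (by simpa using haS) hbS) hs
    rw [h1.lcs_two, mem_bot, commutatorElement_eq_one_iff_mul_comm] at h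
    exact h.symm
  refine mem_z0_of_fixed hp N htt ht (zs_le_V hczs) ?_
  have hinv : ∀ {x : G}, t * x * t = x → t * x⁻¹ * t = x⁻¹ := fun {x} hx => by
    have := congrArg (·⁻¹) hx
    simp only [_root_.mul_inv_rev, inv_eq_self htt, ← mul_assoc] at this
    exact this
  rw [hc, conj_mul_self htt, conj_mul_self htt, conj_mul_self htt, hta, htb, hinv hta, hinv htb]

/-- `C_G(t)` maps onto `SL₂(q)`. -/
theorem exists_centralizing (hp : 5 ≤ p) (N : NoChar p S q M) (h1 : One p S) (htt : t * t = 1)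
    (ht : φ.ρ t = negOne) (g : G) : ∃ x ∈ Cfsg.pCore p G, t * (x * g) = x * g * t := by
  have hti := inv_eq_self htt
  set u := g * t * g⁻¹ * t with hu
  have huQ : u ∈ Cfsg.pCore p G := by
    rw [← ker_eq_core h1 φ, MonoidHom.mem_ker, map_mul, map_mul, map_mul, map_inv, ht,
      ← negOne_comm (φ.ρ g), mul_inv_cancel_right, ← sq, negOne_sq]
  have htu : t * u * t = u⁻¹ := by
    rw [hu, show (g * t * g⁻¹ * t)⁻¹ = t⁻¹ * g * t⁻¹ * g⁻¹ by group, hti,
      show t * (g * t * g⁻¹ * t) * t = t * g * t * g⁻¹ * (t * t) by group, htt, mul_one]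
  obtain ⟨k, hk⟩ := odd_of_five (p := p) hp
  set x := u ^ (k + 1) with hx
  have hxt : t * x * t = x⁻¹ := by
    have h : (t * u * t⁻¹) ^ (k + 1) = t * u ^ (k + 1) * t⁻¹ := conj_pow
    rw [hti, htu, inv_pow] at h
    exact h.symm
  refine ⟨x⁻¹, inv_mem (pow_mem huQ _), ?_⟩
  have hxx : x * x = u := by
    rw [hx, ← pow_add, show k + 1 + (k + 1) = p + 1 by omega, pow_succ,
      exp_eq hp h1 (N.core.le_S huQ), one_mul]
  have h1' : g * t * g⁻¹ = x * t * x⁻¹ := by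
    rw [← hxt, show x * t * (t * x * t) = x * (t * t) * x * t by group, htt, mul_one, hxx, hu,
      show g * t * g⁻¹ * t * t = g * t * g⁻¹ * (t * t) by group, htt, mul_one]
  calc t * (x⁻¹ * g) = x⁻¹ * (x * t * x⁻¹) * g := by group
    _ = x⁻¹ * g * t := by rw [← h1']; group

end InG

section Ambient

variable {H : Type*} [Group H] [Finite H] {p : ℕ} [Fact p.Prime] {G : Subgroup H}

/-- The normaliser of a nontrivial normal `p`-subgroup of `G` is `G`. -/
theorem normalizer_map_eq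
    (hmax : ∀ R : Subgroup H, IsPGroup p ↥R → R ≠ ⊥ → G ≤ normalizer (R : Set H) →
      normalizer (R : Set H) = G)
    {T : Subgroup ↥G} (hT : T.Normal) (hp : IsPGroup p T) (hne : T ≠ ⊥) :
    normalizer ((T.map G.subtype : Subgroup H) : Set H) = G := by
  refine hmax _ (hp.map _) (fun h => hne ((map_eq_bot_iff_of_injective T G.subtype_injective).1 h))
    fun g hg => mem_normalizer_fintype ?_
  rintro _ ⟨x, hx, rfl⟩
  exact ⟨⟨g, hg⟩ * x * ⟨g, hg⟩⁻¹, hT.conj_mem x hx _, rfl⟩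

variable {S : Sylow p ↥G}

theorem pCore_ne_bot (hc : Core p S) : Cfsg.pCore p ↥G ≠ ⊥ := by
  intro h
  refine hc.ne fun s _ => hc.cQ (mem_centralizer_iff.2 fun a ha => ?_)
  rw [h] at ha
  rw [mem_bot.1 ha, one_mul, mul_one]

theorem exists_aut {b : H}
    (hb : b ∈ normalizer (((S : Subgroup ↥G).map G.subtype : Subgroup H) : Set H)) :
    ∃ α : ↥(S : Subgroup ↥G) ≃* ↥(S : Subgroup ↥G),
      ∀ s : ↥G, s ∈ (S : Subgroup ↥G) → ((ap α s : ↥G) : H) = b * s * b⁻¹ := by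
  have hmem : ∀ s : ↥(S : Subgroup ↥G), ∃ y : ↥(S : Subgroup ↥G),
      ((y : ↥G) : H) = b * (s : ↥G) * b⁻¹ := fun s => by
    obtain ⟨y, hy, he⟩ := (mem_normalizer_iff.1 hb _).1 (mem_map_of_mem G.subtype s.2)
    exact ⟨⟨y, hy⟩, he⟩
  choose f hf using hmem
  let f' : ↥(S : Subgroup ↥G) →* ↥(S : Subgroup ↥G) := MonoidHom.mk' f fun x y =>
    Subtype.ext (Subtype.ext (by
      rw [hf, Subgroup.coe_mul, Subgroup.coe_mul, Subgroup.coe_mul, Subgroup.coe_mul, hf, hf]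
      group))
  have hinj : Function.Injective f' := fun x y h => Subtype.ext (Subtype.ext (by
    have h' : ((f x : ↥G) : H) = ((f y : ↥G) : H) :=
      congrArg (fun z : ↥(S : Subgroup ↥G) => ((z : ↥G) : H)) h
    rw [hf, hf] at h'
    simpa using h'))
  refine ⟨MulEquiv.ofBijective f' ⟨hinj, Finite.injective_iff_surjective.1 hinj⟩, fun s hs => ?_⟩
  rw [ap_eq _ hs]
  exact hf ⟨s, hs⟩

variable {F : Type*} [Field F] [Finite F] {q : ℕ} {M : Subgroup ↥G}

/-- `O_p(G)` is `Ω₁Z(O_p(G))`. -/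
theorem core_le_omega (hp : 5 ≤ p)
    (hmax : ∀ R : Subgroup H, IsPGroup p ↥R → R ≠ ⊥ → G ≤ normalizer (R : Set H) →
      normalizer (R : Set H) = G)
    (N : NoChar p S q M) (h1 : One p S) (φ : Nat2 p S F (omega p ↥G) (zs S) (z0 p ↥G))
    {b : H} (hb : b ∈ normalizer (((S : Subgroup ↥G).map G.subtype : Subgroup H) : Set H))
    (hbG : b ∉ G) : Cfsg.pCore p ↥G ≤ omega p ↥G := by
  set Q := Cfsg.pCore p ↥G with hQ
  set V := omega p ↥G with hV
  obtain ⟨t, htt, ht⟩ := exists_inv hp N h1 φ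
  obtain ⟨α, hα⟩ := exists_aut hb
  have hQS : Q ≤ (S : Subgroup ↥G) := N.core.le_S
  have hVS : ∀ {v}, v ∈ V → v ∈ (S : Subgroup ↥G) := fun hv => hQS (omega_le hv)
  -- reduce to a commutative core
  suffices hab : ∀ r ∈ Q, ∀ r' ∈ Q, r * r' = r' * r from fun r hr =>
    ⟨⟨hr, mem_centralizer_iff.2 fun r' hr' => hab r' hr' r hr⟩, exp_eq hp h1 (hQS hr)⟩
  intro r₁ hr₁ r₂ hr₂
  rw [← mul_inv_eq_iff_eq_mul, ← mul_inv_eq_one]
  have hc := commutator_mem_z0 hp N h1 htt ht hr₁ hr₂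
  set c := r₁ * r₂ * r₁⁻¹ * r₂⁻¹
  -- `b` moves `Q` and `C_V(G)`
  have hstab : ∀ b' : H, (∀ x ∈ Q, ∃ y ∈ Q, b' * (x : ↥G) * b'⁻¹ = y) → b' ∈ G := by
    intro b' h
    rw [← normalizer_map_eq hmax (inferInstance : Q.Normal) N.core.isP (pCore_ne_bot N.core)]
    refine mem_normalizer_fintype ?_
    rintro _ ⟨x, hx, rfl⟩
    obtain ⟨y, hy, he⟩ := h x hx
    exact ⟨y, hy, he.symm⟩
  have hz : ∀ z ∈ z0 p ↥G, ap α z ∈ z0 p ↥G → z = 1 := by
    intro z hz hαz
    by_contra hne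
    have hzS : z ∈ (S : Subgroup ↥G) := hVS hz.1
    set T := zpowers (ap α z) with hT
    have hTc : T ≤ z0 p ↥G := zpowers_le.2 hαz
    have hTn : T.Normal := ⟨fun x hx g => by
      rw [z0_central (hTc hx) g, mul_inv_cancel_right]; exact hx⟩
    have hNT := normalizer_map_eq hmax hTn
      (N.core.isP.to_le (hTc.trans (inf_le_left.trans omega_le))) (fun h => hne (by
        have h' : ap α z = 1 := mem_bot.1 (h ▸ mem_zpowers _)
        rw [← ap_symm α hzS, h', ap_one]))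
    have hbGb : ∀ g : ↥G, b * g * b⁻¹ ∈ G := by
      intro g
      refine hNT.le (mem_normalizer_fintype ?_)
      rintro _ ⟨x, hx, rfl⟩
      refine ⟨x, hx, ?_⟩
      obtain ⟨i, rfl⟩ := mem_zpowers_iff.1 hx
      have hcm : Commute (b * (g : H) * b⁻¹) ((ap α z : ↥G) : H) := by
        rw [hα z hzS]
        exact ((show Commute g z from z0_central hz g).map G.subtype).map
          (MulAut.conj b).toMonoidHom
      rw [Subgroup.coe_subtype, Subgroup.coe_zpow, (hcm.zpow_right i).eq, mul_inv_cancel_right]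
    refine hbG (hstab b fun x hx => ?_)
    let e : ↥G →* ↥G := MonoidHom.mk' (fun g => ⟨b * g * b⁻¹, hbGb g⟩)
      fun g g' => Subtype.ext (by simp [mul_assoc])
    have hinj : Function.Injective e := fun g g' h => Subtype.ext (by
      simpa [e] using congrArg Subtype.val h)
    haveI : (Q.map e).Normal :=
      (inferInstance : Q.Normal).map e (Finite.injective_iff_surjective.1 hinj)
    exact ⟨e x, le_pCore_of_normal inferInstance (N.core.isP.map e) (mem_map_of_mem e hx), rfl⟩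
  obtain ⟨x₀, hx₀, hx₀Q⟩ : ∃ x ∈ Q, ap α.symm x ∉ Q := by
    by_contra hall
    push Not at hall
    refine hbG (inv_inv b ▸ G.inv_mem (hstab b⁻¹ fun x hx => ⟨ap α.symm x, hall x hx, ?_⟩))
    have h := hα (ap α.symm x) (ap_mem _ (hQS hx))
    rw [symm_ap α (hQS hx)] at h
    rw [h]
    group
  have hcomp : ∀ (γ : ↥(S : Subgroup ↥G) ≃* ↥(S : Subgroup ↥G)) {v w : ↥G}, v ∈ V → w ∈ V →
      ap γ v ∈ Q → Commute v (ap γ.symm w) := fun γ v w hv hw hq => by
    have h := ap_comm γ.symm (ap_mem γ (hVS hv)) (hVS hw) (omega_commute hw hq).symm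
    rwa [ap_symm γ (hVS hv)] at h
  by_cases hout : ∃ v ∈ V, ap α v ∉ Q
  · -- a twist of `V` lies outside
    obtain ⟨v₀, hv₀, hv₀Q⟩ := hout
    obtain ⟨w₀, hw₀, hw₀Q⟩ : ∃ w ∈ V, ap α.symm w ∉ Q := by
      by_contra hall
      push Not at hall
      refine hv₀Q (N.commute_conj_mem (ap_mem α (hVS hv₀)) fun w hw => ?_)
      have := ap_comm α (hVS hv₀) (ap_mem α.symm (hVS hw)) (omega_commute hv₀ (hall w hw))
      rwa [symm_ap α (hVS hw)] at this
    set D := Q ⊓ img α Q with hD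
    have hDab : ∀ a ∈ D, ∀ a' ∈ D, a * a' * a⁻¹ * a'⁻¹ = 1 := by
      rintro a ⟨ha, ha'⟩ a' ⟨hb1, hb2⟩
      obtain ⟨x, hx, hxS, rfl⟩ := (mem_img α).1 ha'
      obtain ⟨y, hy, hyS, rfl⟩ := (mem_img α).1 hb2
      rw [← ap_commutator α hxS hyS]
      have h' := commutator_mem_z0 hp N h1 htt ht ha hb1
      rw [← ap_commutator α hxS hyS] at h'
      rw [hz _ (commutator_mem_z0 hp N h1 htt ht hx hy) h', ap_one]
    have hVD : V ⊓ D ≤ zs S := by
      rintro v ⟨hv, -, hv'⟩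
      obtain ⟨x, hx, hxS, rfl⟩ := (mem_img α).1 hv'
      refine N.mem_zs_of_commute (ap_mem α (hVS hv₀)) hv₀Q hv ?_
      exact ap_comm α (hVS hv₀) hxS (omega_commute hv₀ hx)
    have hYQ : img α V ⊓ Q ≤ zs S := by
      rintro y ⟨hy, hyQ⟩
      obtain ⟨v, hv, -, rfl⟩ := (mem_img α).1 hy
      refine zs_inv N.core α (N.mem_zs_of_commute (ap_mem α.symm (hVS hw₀)) hw₀Q hv ?_)
      exact (hcomp α hv hw₀ hyQ).symm.eq
    have h2 := card_sup_mul_inf Q (img α Q)
    rw [card_img α hQS] at h2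
    have h2' : Nat.card ↥Q * Nat.card ↥Q ≤ Nat.card (S : Subgroup ↥G) * Nat.card D := by
      rw [← h2, hD]
      exact Nat.mul_le_mul_right _ (card_le_of_le (sup_le hQS (img_le α Q)))
    rw [N.ctx.card_S] at h2'
    have h3 := card_sup_mul_inf V D
    have hQle : Q ≤ V ⊔ D := by
      refine (eq_of_le_of_card_ge (sup_le omega_le inf_le_left) ?_).ge
      have h4 : Nat.card ↥Q ≤ q * Nat.card D := Nat.le_of_mul_le_mul_left
        (h2'.trans_eq (by ring)) (Nat.card_pos (α := ↥Q))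
      refine Nat.le_of_mul_le_mul_right (c := Nat.card (zs S)) ?_ Nat.card_pos
      calc Nat.card ↥Q * Nat.card (zs S) ≤ q * Nat.card D * Nat.card (zs S) :=
            Nat.mul_le_mul_right _ h4
        _ = Nat.card V * Nat.card D := by rw [hV, N.card_V]; ring
        _ = _ := h3.symm
        _ ≤ _ := Nat.mul_le_mul_left _ (card_le_of_le hVD)
    obtain ⟨v, hv, a, ha, rfl⟩ := mem_sup_of_normal_left.1 (hQle hr₁)
    obtain ⟨v', hv', a', ha', rfl⟩ := mem_sup_of_normal_left.1 (hQle hr₂)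
    have haa : Commute a a' := by
      rw [commute_iff_eq, ← mul_inv_eq_iff_eq_mul, ← mul_inv_eq_one]
      exact hDab a ha a' ha'
    have := ((show Commute v (v' * a') from omega_commute hv hr₂).mul_left
      ((show Commute a v' from (omega_commute hv' ha.1).symm).mul_right haa))
    show v * a * (v' * a') * (v * a)⁻¹ * (v' * a')⁻¹ = 1
    rw [this.eq]
    group
  · push Not at hout
    by_contra hne
    have hne' : c ≠ 1 := fun h => hne h
    have hcS : c ∈ (S : Subgroup ↥G) := hVS hc.1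
    set τ : H := b * t * b⁻¹ with hτ
    have hττ : τ * τ = 1 := by
      rw [hτ, show b * (t : H) * b⁻¹ * (b * t * b⁻¹) = b * ((t * t : ↥G) : H) * b⁻¹ by
        rw [Subgroup.coe_mul]; group, htt, Subgroup.coe_one, mul_one, mul_inv_cancel]
    have hτS : ∀ x : ↥G, x ∈ (S : Subgroup ↥G) →
        τ * (ap α x : ↥G) * τ = (ap α (t * x * t) : ↥G) := by
      intro x hx
      rw [hα x hx, hα _ (conj_mem_sylow N h1 htt ht hx).2, hτ, Subgroup.coe_mul, Subgroup.coe_mul]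
      group
    have hτG : τ ∉ G := by
      intro hmem
      set τ' : ↥G := ⟨τ, hmem⟩
      have hτ'2 : τ' * τ' = 1 := Subtype.ext hττ
      -- its image is central
      have hup : ∀ x : F, ∃ y, φ.ρ τ' * up x = up y * φ.ρ τ' := fun x => by
        obtain ⟨s, hs, he⟩ := φ.exists_up x
        obtain ⟨y, hy⟩ := φ.mem_up _ (ap_mem α
          (conj_mem_sylow N h1 htt ht (ap_mem α.symm hs)).2)
        refine ⟨y, ?_⟩
        have e : τ' * s * τ' = ap α (t * ap α.symm s * t) := Subtype.ext (by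
          have h := hτS _ (ap_mem α.symm hs)
          rw [symm_ap α hs] at h
          exact h)
        rw [← he, ← hy, ← e, ← map_mul, ← map_mul, mul_assoc (τ' * s), hτ'2, mul_one]
      obtain ⟨y, hy⟩ := hup 1
      have h10 : (φ.ρ τ' : Matrix (Fin 2) (Fin 2) F) 1 0 = 0 := by
        have h := congrArg (fun A : Matrix.SpecialLinearGroup (Fin 2) F =>
          (A : Matrix (Fin 2) (Fin 2) F) 1 1) hy
        simpa [up_coe, Matrix.mul_apply, Fin.sum_univ_two] using h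
      have hsq : φ.ρ τ' * φ.ρ τ' = 1 := by rw [← map_mul, hτ'2, map_one]
      have hent : ∀ i j, ((φ.ρ τ' : Matrix (Fin 2) (Fin 2) F) *
          (φ.ρ τ' : Matrix (Fin 2) (Fin 2) F)) i j = (1 : Matrix (Fin 2) (Fin 2) F) i j := fun i j => by
        rw [← Matrix.SpecialLinearGroup.coe_mul, hsq, Matrix.SpecialLinearGroup.coe_one]
      have hdet : (φ.ρ τ' : Matrix (Fin 2) (Fin 2) F) 0 0 * (φ.ρ τ' : Matrix (Fin 2) (Fin 2) F) 1 1 -
          (φ.ρ τ' : Matrix (Fin 2) (Fin 2) F) 0 1 * (φ.ρ τ' : Matrix (Fin 2) (Fin 2) F) 1 0 = 1 := by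
        rw [← Matrix.det_fin_two]; exact (φ.ρ τ').2
      have e00 := hent 0 0
      have e01 := hent 0 1
      simp [Matrix.mul_apply, Fin.sum_univ_two, h10] at e00 e01 hdet
      have h11 : (φ.ρ τ' : Matrix (Fin 2) (Fin 2) F) 1 1 = (φ.ρ τ' : Matrix (Fin 2) (Fin 2) F) 0 0 := by
        linear_combination (φ.ρ τ' : Matrix (Fin 2) (Fin 2) F) 0 0 * hdet -
          (φ.ρ τ' : Matrix (Fin 2) (Fin 2) F) 1 1 * e00
      have h01 : (φ.ρ τ' : Matrix (Fin 2) (Fin 2) F) 0 1 = 0 := by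
        have h := congrArg (· * (φ.ρ τ' : Matrix (Fin 2) (Fin 2) F) 0 0) e01
        simp only [zero_mul] at h
        rw [h11] at h
        refine (mul_eq_zero.1 (?_ : (2 : F) * _ = 0)).resolve_left (two_ne hp N φ)
        linear_combination h - 2 * (φ.ρ τ' : Matrix (Fin 2) (Fin 2) F) 0 1 * e00
      rcases mul_self_eq_one_iff.1 e00 with h00 | h00
      · -- then it lies in the core
        have h : τ' ∈ Q := by
          rw [hQ, ← ker_eq_core h1 φ, MonoidHom.mem_ker]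
          apply Matrix.SpecialLinearGroup.ext
          intro i j
          fin_cases i <;> fin_cases j <;> simp [h00, h01, h10, h11]
        have h' : τ' = 1 := by
          have h2 := exp_eq hp h1 (hQS h)
          obtain ⟨k, hk⟩ := odd_of_five (p := p) hp
          rwa [hk, pow_succ, pow_mul, sq, hτ'2, one_pow, one_mul] at h2
        have h'' : (t : H) = 1 := by
          have h3 : b * (t : H) * b⁻¹ = 1 := congrArg Subtype.val h'
          rwa [conj_eq_one_iff] at h3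
        rw [show t = 1 from Subtype.ext h'', map_one] at ht
        have h4 := congrArg (fun A : Matrix.SpecialLinearGroup (Fin 2) F =>
          (A : Matrix (Fin 2) (Fin 2) F) 0 0) ht
        simp [negOne, eq_neg_iff_add_eq_zero, one_add_one_eq_two, two_ne hp N φ] at h4
      · -- then it fixes only `C_V(G)` in `C_V(S)`
        have hτ' : φ.ρ τ' = negOne := by
          apply Matrix.SpecialLinearGroup.ext
          intro i j
          fin_cases i <;> fin_cases j <;> simp [negOne, h00, h01, h10, h11]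
        have hzs : ap α c ∈ zs S := zs_inv N.core α (z0_le_zs hc)
        refine hne' (hz c hc (mem_z0_of_fixed hp N hτ'2 hτ' (zs_le_V hzs) (Subtype.ext ?_)))
        have h := hτS c hcS
        rwa [show t * c * t = c by rw [z0_central hc t, mul_assoc, htt, mul_one]] at h
    -- `τ` normalises `V`
    refine hτG ?_
    rw [← normalizer_map_eq hmax (omega_normal (p := p) (G := ↥G))
      (N.core.isP.to_le omega_le) (fun h => N.zs_ne_V ((le_of_eq h).trans bot_le))]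
    refine mem_normalizer_fintype ?_
    rintro _ ⟨v, hv, rfl⟩
    rw [show τ⁻¹ = τ from inv_eq_of_mul_eq_one_left hττ]
    set w := ap α.symm v with hw
    have hwS : w ∈ (S : Subgroup ↥G) := ap_mem _ (hVS hv)
    have hwQ : w ∈ Q := by
      by_contra hwQ
      refine N.zs_ne_V fun v' hv' => N.mem_zs_of_commute hwS hwQ hv' ?_
      exact (hcomp α hv' hv (hout v' hv')).symm.eq
    obtain ⟨u, r₀, hu, htu, hr₀, htr₀, hwe⟩ := decomp hp h1 htt hwQ
    have hy : Commute (ap α.symm x₀) w := ap_comm α.symm (hQS hx₀) (hVS hv) (omega_commute hv hx₀).symm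
    set y := ap α.symm x₀
    have hyS : y ∈ (S : Subgroup ↥G) := ap_mem _ (hQS hx₀)
    have huzs : u ∈ zs S := by
      set c₁ := y * u * y⁻¹ * u⁻¹ with hc1
      set c₂ := y * r₀ * y⁻¹ * r₀⁻¹ with hc2
      have hc1z : c₁ ∈ zs S := N.quad u hu y hyS
      have hc12 : c₁ * c₂ = 1 := by
        have h3 : y * (u * r₀) * y⁻¹ = u * r₀ := by rw [← hwe, hy.eq, mul_inv_cancel_right]
        have h4 : c₁ * c₂ = y * (u * r₀) * y⁻¹ * (u * r₀)⁻¹ := by
          have hcu : u * c₂ = c₂ * u := by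
            refine omega_commute hu ?_
            exact Q.mul_mem ((inferInstance : Q.Normal).conj_mem r₀ hr₀ y) (Q.inv_mem hr₀)
          calc c₁ * c₂ = y * u * y⁻¹ * u⁻¹ * (c₂ * u) * u⁻¹ := by rw [hc1]; group
            _ = _ := by rw [← hcu, hc2]; group
        rw [h4, h3, mul_inv_cancel]
      obtain ⟨hyt, hytS⟩ := conj_mem_sylow N h1 htt ht hyS
      set x := y⁻¹ * (t * y * t) with hx
      have hxQ : x ∈ Q := by
        have := (inferInstance : Q.Normal).conj_mem _ hyt y⁻¹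
        rwa [show y⁻¹ * (t * y * t * y⁻¹) * y⁻¹⁻¹ = x by rw [hx]; group] at this
      have hinv : ∀ a : ↥G, t * a⁻¹ * t = (t * a * t)⁻¹ := fun a => by
        rw [_root_.mul_inv_rev, _root_.mul_inv_rev, inv_eq_self htt, mul_assoc]
      have ht1 : t * c₁ * t = c₁⁻¹ := by
        have e1 : t * c₁ * t = (y * x) * u⁻¹ * (y * x)⁻¹ * u := by
          rw [hc1, conj_mul_self htt, conj_mul_self htt (y * u), conj_mul_self htt y, hinv, hinv,
            htu, inv_inv, show y * x = t * y * t by rw [hx]; group]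
        have e2 : x * u⁻¹ * x⁻¹ = u⁻¹ := by
          rw [← omega_commute ((omega p ↥G).inv_mem hu) hxQ, mul_inv_cancel_right]
        rw [e1, show y * x * u⁻¹ * (y * x)⁻¹ * u = y * (x * u⁻¹ * x⁻¹) * y⁻¹ * u by group, e2]
        have hcu : u * c₁⁻¹ = c₁⁻¹ * u :=
          (((mem_zs N.core).1 ((zs S).inv_mem hc1z)).2.2 u (hVS hu))
        calc y * u⁻¹ * y⁻¹ * u = u⁻¹ * (c₁⁻¹ * u) := by rw [hc1]; group
          _ = u⁻¹ * (u * c₁⁻¹) := by rw [hcu]
          _ = c₁⁻¹ := inv_mul_cancel_left _ _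
      have ht2 : ∃ z ∈ z0 p ↥G, t * c₂ * t = z * c₂ := by
        refine ⟨y * (x * r₀ * x⁻¹ * r₀⁻¹) * y⁻¹, ?_, ?_⟩
        · exact z0_normal.conj_mem _ (commutator_mem_z0 hp N h1 htt ht hxQ hr₀) y
        · rw [hc2, conj_mul_self htt, conj_mul_self htt (y * r₀), conj_mul_self htt y, hinv, hinv,
            htr₀, show t * y * t = y * x by rw [hx]; group]
          group
      obtain ⟨z, hzz, hz2⟩ := ht2
      rw [show c₂ = c₁⁻¹ from eq_inv_of_mul_eq_one_right hc12, hinv, ht1, inv_inv] at hz2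
      have hsq : c₁ ^ 2 ∈ z0 p ↥G := by rw [sq]; nth_rewrite 1 [hz2]; simpa using hzz
      obtain ⟨k, hk⟩ := odd_of_five (p := p) hp
      have hc1' : c₁ ∈ z0 p ↥G := by
        have h := (z0 p ↥G).pow_mem hsq (k + 1)
        rwa [← pow_mul, show 2 * (k + 1) = p + 1 by omega, pow_succ, hc1z.1.2, one_mul] at h
      exact N.linesV.key N.ctx hyS (hx₀Q) hu hc1'
    have hαw : ap α w = v := symm_ap α (hVS hv)
    have hτv : τ * (v : H) * τ = (ap α (t * w * t) : ↥G) := by rw [← hαw]; exact hτS w hwS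
    refine ⟨ap α (t * w * t), ?_, hτv.symm⟩
    have e : t * w * t = t * u * t * u⁻¹ * w := by
      rw [hwe, conj_mul_self htt, htr₀]; group
    have hd : t * u * t * u⁻¹ ∈ zs S :=
      (zs S).mul_mem (conj_mem_zs N h1 htt ht huzs) ((zs S).inv_mem huzs)
    rw [e, ap_mul α (hVS (zs_le_V hd)) hwS, hαw]
    exact V.mul_mem (zs_le_V (zs_inv N.core α hd)) hv

end Ambient

section Assembly

/-- A subgroup of an abelian group of exponent `p` has a complement. -/
theorem exists_compl_of_exp {C : Type*} [CommGroup C] [Finite C] {p : ℕ} [Fact p.Prime]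
    (hexp : ∀ x : C, x ^ p = 1) (Z : Subgroup C) : ∃ K : Subgroup C, K ⊓ Z = ⊥ ∧ K ⊔ Z = ⊤ := by
  obtain ⟨K, hK, hmax⟩ := (Set.toFinite {K : Subgroup C | K ⊓ Z = ⊥}).exists_maximal
    ⟨⊥, bot_inf_eq Z⟩
  refine ⟨K, hK, eq_top_iff.2 fun y _ => ?_⟩
  by_contra hy
  refine hy (mem_sup_left (hmax (y := K ⊔ zpowers y) ?_ le_sup_left
    (mem_sup_right (mem_zpowers y))))
  show (K ⊔ zpowers y) ⊓ Z = ⊥
  rw [eq_bot_iff]
  rintro x ⟨hx, hxZ⟩
  obtain ⟨k, hk, _, ⟨i, rfl⟩, rfl⟩ := mem_sup.1 hx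
  have hyi : y ^ i ∈ K ⊔ Z := by
    have := mul_mem (mem_sup_left (inv_mem hk) : k⁻¹ ∈ K ⊔ Z) (mem_sup_right hxZ)
    simpa using this
  by_cases hi : ((i : ℤ) : ZMod p) = 0
  · obtain ⟨j, rfl⟩ := (ZMod.intCast_zmod_eq_zero_iff_dvd i p).1 hi
    have h1 : y ^ ((p : ℤ) * j) = 1 := by rw [_root_.zpow_mul, zpow_natCast, hexp, _root_.one_zpow]
    simp only [h1, mul_one] at hxZ ⊢
    exact hK.le ⟨hk, hxZ⟩
  · refine absurd ?_ hy
    obtain ⟨a, c, hac⟩ := (Int.isCoprime_iff_gcd_eq_one (m := i) (n := p)).2 (by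
      have : ¬ (p : ℤ) ∣ i := fun h => hi ((ZMod.intCast_zmod_eq_zero_iff_dvd i p).2 h)
      rw [Int.gcd_comm]
      exact (Fact.out : p.Prime).coprime_iff_not_dvd.2 (by simpa [Int.natCast_dvd] using this))
    have : y = (y ^ i) ^ a := by
      rw [← _root_.zpow_mul, mul_comm]
      conv_lhs => rw [← zpow_one y, ← hac]
      rw [_root_.zpow_add, mul_comm c, _root_.zpow_mul y (p : ℤ), zpow_natCast, hexp, _root_.one_zpow,
        mul_one]
    rw [this]
    exact zpow_mem hyi a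

variable {H : Type*} [Group H] [Finite H] {p : ℕ} [Fact p.Prime] {G : Subgroup H}
  {S : Sylow p ↥G} {F : Type*} [Field F] [Finite F] {q : ℕ} {M : Subgroup ↥G}

/-- `G = Qd(F) × E`. -/
theorem qd (hp : 5 ≤ p)
    (hmax : ∀ R : Subgroup H, IsPGroup p ↥R → R ≠ ⊥ → G ≤ normalizer (R : Set H) →
      normalizer (R : Set H) = G)
    (N : NoChar p S q M) (h1 : One p S) (φ : Nat2 p S F (omega p ↥G) (zs S) (z0 p ↥G))
    {b : H} (hb : b ∈ normalizer (((S : Subgroup ↥G).map G.subtype : Subgroup H) : Set H))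
    (hbG : b ∉ G) :
    ∃ G₀ E : Subgroup H, Cfsg.IsInternalDirectProduct G₀ E G ∧ Cfsg.IsElementaryAbelian p E ∧
      Nonempty (↥G₀ ≃* ↥(Cfsg.qdOver F)) := by
  classical
  set Q := Cfsg.pCore p ↥G
  set V := omega p ↥G with hV
  have hQV : Q = V := le_antisymm (core_le_omega hp hmax N h1 φ hb hbG) omega_le
  have hVS : V ≤ (S : Subgroup ↥G) := omega_le.trans N.core.le_S
  -- a complement of `V` in `S`
  obtain ⟨α, hα⟩ : ∃ α : ↥(S : Subgroup ↥G) ≃* ↥(S : Subgroup ↥G),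
      ¬ img α V ≤ V := by
    by_contra hall
    push Not at hall
    refine N.zs_ne_V (le_of_eq_of_le (N.nochar V hVS (fun α x hx => hall α (ap_mem_img α hx (hVS hx)))
      omega_normal) bot_le)
  obtain ⟨_, hy₀, hy₀V⟩ := SetLike.not_le_iff_exists.1 hα
  obtain ⟨v₀, hv₀, -, rfl⟩ := (mem_img α).1 hy₀
  set Y := img α V with hY
  have hzY : zs S ≤ Y := (img_zs N.core α).ge.trans (img_mono α zs_le_V)
  have hYc : ∀ a ∈ Y, ∀ a' ∈ Y, a * a' = a' * a := by
    intro a ha a' ha'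
    obtain ⟨x, hx, hxS, rfl⟩ := (mem_img α).1 ha
    obtain ⟨x', hx', hxS', rfl⟩ := (mem_img α).1 ha'
    exact ap_comm α hxS hxS' (omega_commute hx (omega_le hx'))
  have hYV : Y ⊓ V ≤ zs S := fun y ⟨hy, hyV⟩ =>
    N.mem_zs_of_commute (ap_mem α (hVS hv₀)) (fun h => hy₀V ((le_of_eq hQV) h)) hyV (hYc _ hy₀ _ hy)
  letI : CommGroup ↥Y :=
    { (inferInstance : Group ↥Y) with mul_comm := fun a a' => Subtype.ext (hYc _ a.2 _ a'.2) }
  obtain ⟨K', hK'i, hK's⟩ := exists_compl_of_exp (p := p)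
    (fun a : ↥Y => Subtype.ext (by simpa using exp_eq hp h1 (img_le α V a.2)))
    ((zs S).subgroupOf Y)
  set K := K'.map Y.subtype with hK
  have hKY : K ≤ Y := map_subtype_le K'
  have hKzs : K ⊓ zs S = ⊥ := by
    rw [eq_bot_iff]
    rintro _ ⟨⟨k, hk, rfl⟩, hkz⟩
    have : k ∈ K' ⊓ (zs S).subgroupOf Y := ⟨hk, hkz⟩
    rw [hK'i, mem_bot] at this
    simp [this]
  have hKV : K ⊓ V = ⊥ := eq_bot_iff.2 fun k ⟨hk, hkV⟩ => hKzs.le ⟨hk, hYV ⟨hKY hk, hkV⟩⟩
  have hYle : Y ≤ V ⊔ K := fun y hy => by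
    have hy' : (⟨y, hy⟩ : ↥Y) ∈ K' ⊔ (zs S).subgroupOf Y := hK's ▸ mem_top _
    obtain ⟨k, hk, z, hz, he⟩ := mem_sup.1 hy'
    rw [show y = (k : ↥G) * (z : ↥G) from (congrArg Subtype.val he).symm]
    exact mul_mem (mem_sup_right ⟨k, hk, rfl⟩) (mem_sup_left (zs_le_V hz))
  have hVK : V ⊔ K = (S : Subgroup ↥G) := by
    refine le_antisymm (sup_le hVS (hKY.trans (img_le α V))) ?_
    refine (eq_of_le_of_card_ge (sup_le hVS (img_le α V)) ?_).ge.trans (sup_le le_sup_left hYle)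
    refine Nat.le_of_mul_le_mul_right (c := Nat.card (zs S)) ?_ Nat.card_pos
    refine le_trans ?_ (Nat.mul_le_mul_left _ (card_le_of_le (inf_comm V Y ▸ hYV)))
    rw [card_sup_mul_inf, card_img α hVS, N.ctx.card_S, show Cfsg.pCore p ↥G = V from hQV,
      hV, N.card_V]
    exact le_of_eq (by ring)
  haveI : IsMulCommutative ↥V :=
    ⟨⟨fun a a' => Subtype.ext (omega_commute a.2 (omega_le a'.2))⟩⟩
  have hVp : IsPGroup p V := N.core.isP.to_le omega_le
  obtain ⟨L, hL⟩ := CfsgLib.Gaschutz.exists_complement (K := V) hVS (by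
    obtain ⟨k, hk⟩ := IsPGroup.iff_card.1 hVp
    rw [hk]
    exact Nat.Coprime.pow_left k ((Fact.out : p.Prime).coprime_iff_not_dvd.2 S.not_dvd_index))
    K (hKY.trans (img_le α V)) hKV hVK
  have hker : φ.ρ.ker = V := (ker_eq_core h1 φ).trans hQV
  have hLV : ∀ l ∈ L, φ.ρ l = 1 → l = 1 := fun l hl h =>
    (disjoint_def.1 hL.disjoint) (show l ∈ V by rw [← hker]; exact h) hl
  have hLsurj : ∀ A, ∃ l ∈ L, φ.ρ l = A := fun A => by
    obtain ⟨g, rfl⟩ := φ.surj A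
    obtain ⟨v, hv, l, hl, rfl⟩ := mem_sup_of_normal_left.1
      (hL.sup_eq_top.symm ▸ mem_top g : g ∈ V ⊔ L)
    refine ⟨l, hl, ?_⟩
    rw [map_mul, (show φ.ρ v = 1 from hker.ge hv), one_mul]
  choose sec hsecL hsec using hLsurj
  have hsec1 : ∀ {l}, l ∈ L → sec (φ.ρ l) = l := fun {l} hl => by
    have := hLV _ (L.mul_mem (L.inv_mem (hsecL (φ.ρ l))) hl) (by
      rw [map_mul, map_inv, hsec, inv_mul_cancel])
    exact inv_mul_eq_one.1 this
  let σL : Matrix.SpecialLinearGroup (Fin 2) F →* ↥G := MonoidHom.mk' sec fun A B => by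
    have := hsec1 (L.mul_mem (hsecL A) (hsecL B))
    rwa [map_mul, hsec, hsec] at this
  set t := σL negOne with htdef
  have htt : t * t = 1 := by rw [htdef, ← map_mul, ← sq, negOne_sq, map_one]
  have ht : φ.ρ t = negOne := hsec negOne
  have htL : ∀ A, t * σL A = σL A * t := fun A => by
    rw [htdef, ← map_mul, ← map_mul, negOne_comm]
  -- the moved part of `V`
  let V₀ : Subgroup ↥G :=
    { carrier := {v | v ∈ V ∧ t * v * t = v⁻¹}
      one_mem' := ⟨V.one_mem, by rw [mul_one, htt, inv_one]⟩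
      mul_mem' := fun {a b} ha hb => ⟨V.mul_mem ha.1 hb.1, by
        rw [conj_mul_self htt, ha.2, hb.2, _root_.mul_inv_rev]
        exact omega_commute (V.inv_mem ha.1) (omega_le (V.inv_mem hb.1))⟩
      inv_mem' := fun {a} ha => ⟨V.inv_mem ha.1, by
        have := congrArg (·⁻¹) ha.2
        simp only [_root_.mul_inv_rev, inv_eq_self htt, inv_inv, ← mul_assoc] at this
        rw [inv_inv]
        exact this⟩ }
  have h0z : ∀ x, x ∈ V₀ → x ∈ z0 p ↥G → x = 1 := by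
    intro x hx hxz
    have h2 : x * x = 1 := by
      refine mul_eq_one_iff_eq_inv.2 ?_
      rw [← hx.2, z0_central hxz t, mul_assoc, htt, mul_one]
    obtain ⟨k, hk⟩ := odd_of_five (p := p) hp
    have h3 := hx.1.2
    rwa [hk, pow_succ, pow_mul, sq, h2, one_pow, one_mul] at h3
  have honto : ∀ w, ∃ v ∈ V₀, φ.ψ v = w := fun w => by
    obtain ⟨u, hu, rfl⟩ := φ.onto w
    obtain ⟨v, r, hv, htv, hr, htr, rfl⟩ := decomp hp h1 htt (omega_le hu)
    refine ⟨v, ⟨hv, htv⟩, ?_⟩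
    have hrV : r ∈ V := (le_of_eq hQV) hr
    rw [φ.map_mul v hv r hrV, (φ.eq_zero r hrV).2 (mem_z0_of_fixed hp N htt ht hrV htr), add_zero]
  choose σ hσm hσ using honto
  have hinj : ∀ {u v}, u ∈ V₀ → v ∈ V₀ → φ.ψ u = φ.ψ v → u = v := fun {u v} hu hv h => by
    refine inv_mul_eq_one.1 (h0z _ (V₀.mul_mem (V₀.inv_mem hu) hv) ?_)
    refine (φ.eq_zero _ (V.mul_mem (V.inv_mem hu.1) hv.1)).1 ?_
    rw [φ.map_mul _ (V.inv_mem hu.1) v hv.1, φ.map_inv hu.1, h, neg_add_cancel]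
  have hconj : ∀ A v, v ∈ V₀ → σL A * v * (σL A)⁻¹ ∈ V₀ := fun A v hv => by
    refine ⟨omega_normal.conj_mem v hv.1 _, ?_⟩
    have hti : t * (σL A)⁻¹ = (σL A)⁻¹ * t := by
      rw [eq_inv_mul_iff_mul_eq, ← mul_assoc, ← htL A, mul_assoc, mul_inv_cancel, mul_one]
    rw [show t * (σL A * v * (σL A)⁻¹) * t = t * σL A * v * ((σL A)⁻¹ * t) by group, htL A, ← hti,
      show σL A * t * v * (t * (σL A)⁻¹) = σL A * (t * v * t) * (σL A)⁻¹ by group, hv.2]
    group
  let f : ↥(Cfsg.qdOver F) →* ↥G :=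
    MonoidHom.mk' (fun x => σ (CfsgLib.QdF.tr x) * σL (CfsgLib.QdF.lp x)) fun x y => by
      set a := CfsgLib.QdF.tr x; set b' := CfsgLib.QdF.tr y
      set A := CfsgLib.QdF.lp x
      rw [(CfsgLib.QdF.parts_mul x y).1, (CfsgLib.QdF.parts_mul x y).2, map_mul]
      have e : σ (a + (A : Matrix (Fin 2) (Fin 2) F).mulVec b') =
          σ a * (σL A * σ b' * (σL A)⁻¹) := by
        refine hinj (hσm _) (V₀.mul_mem (hσm a) (hconj A _ (hσm b'))) ?_
        rw [φ.map_mul _ (hσm a).1 _ (hconj A _ (hσm b')).1, φ.equiv _ _ (hσm b').1, hσ, hσ, hσ,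
          show φ.ρ (σL A) = A from hsec A]
      rw [e]
      simp only [mul_assoc, A, inv_mul_cancel_left]
  have hfρ : ∀ x, φ.ρ (f x) = CfsgLib.QdF.lp x := fun x => by
    show φ.ρ (σ (CfsgLib.QdF.tr x) * σL (CfsgLib.QdF.lp x)) = _
    rw [map_mul, show φ.ρ (σ (CfsgLib.QdF.tr x)) = 1 from hker.ge (hσm _).1, one_mul]
    exact hsec _
  have hfz : ∀ x, f x ∈ z0 p ↥G → x = 1 := fun x hx => by
    have hA : CfsgLib.QdF.lp x = 1 := by
      rw [← hfρ x]
      exact hker.ge hx.1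
    have hσ0 : σ (CfsgLib.QdF.tr x) = 1 := by
      refine h0z _ (hσm _) ?_
      have : f x = σ (CfsgLib.QdF.tr x) * σL (CfsgLib.QdF.lp x) := rfl
      rwa [this, hA, map_one, mul_one] at hx
    have htr : CfsgLib.QdF.tr x = 0 := by
      rw [← hσ (CfsgLib.QdF.tr x), hσ0, φ.map_one]
    have h1' := (CfsgLib.QdF.parts_mul (1 : ↥(Cfsg.qdOver F)) 1)
    rw [one_mul] at h1'
    have hl1 : CfsgLib.QdF.lp (1 : ↥(Cfsg.qdOver F)) = 1 :=
      (left_eq_mul.1 h1'.1)
    refine CfsgLib.QdF.ext_parts (hA.trans hl1.symm) (htr.trans ?_)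
    have h2 := h1'.2
    rw [hl1, Matrix.SpecialLinearGroup.coe_one, Matrix.one_mulVec] at h2
    exact (left_eq_add.1 h2).symm
  have hfinj : Function.Injective f := fun x y h => inv_mul_eq_one.1 (hfz _ (by
    rw [map_mul, map_inv, h, inv_mul_cancel]; exact one_mem _))
  refine ⟨(G.subtype.comp f).range, (z0 p ↥G).map G.subtype, ⟨?_, map_subtype_le _, ?_, ?_, ?_⟩,
    ⟨?_, ?_⟩, ⟨(MonoidHom.ofInjective (f := G.subtype.comp f) (G.subtype_injective.comp hfinj)).symm⟩⟩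
  · rintro _ ⟨x, rfl⟩
    exact (f x).2
  · rintro _ ⟨x, rfl⟩ _ ⟨z, hz, rfl⟩
    exact congrArg Subtype.val (z0_central hz (f x))
  · rw [eq_bot_iff]
    rintro _ ⟨⟨x, rfl⟩, z, hz, he⟩
    rw [hfz x (G.subtype_injective he ▸ hz), map_one]
    exact one_mem _
  · refine le_antisymm (sup_le (by rintro _ ⟨x, rfl⟩; exact (f x).2) (map_subtype_le _))
      fun g hg => ?_
    set l := σL (φ.ρ ⟨g, hg⟩) with hl
    have hu : (⟨g, hg⟩ : ↥G) * l⁻¹ ∈ V := by
      rw [← hker, MonoidHom.mem_ker, map_mul, map_inv, show φ.ρ l = φ.ρ ⟨g, hg⟩ from hsec _,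
        mul_inv_cancel]
    set u := (⟨g, hg⟩ : ↥G) * l⁻¹ with hudef
    set v := σ (φ.ψ u) with hvdef
    have hz : v⁻¹ * u ∈ z0 p ↥G := by
      refine (φ.eq_zero _ (V.mul_mem (V.inv_mem (hσm _).1) hu)).1 ?_
      rw [φ.map_mul _ (V.inv_mem (hσm _).1) u hu, φ.map_inv (hσm _).1, hσ, neg_add_cancel]
    set w := φ.ψ u
    let x : ↥(Cfsg.qdOver F) :=
      ⟨CfsgLib.QdF.mat (φ.ρ ⟨g, hg⟩) (w 0) (w 1), CfsgLib.QdF.mat_mem _ _ _⟩
    have hx : f x = v * l := by
      show σ (CfsgLib.QdF.tr x) * σL (CfsgLib.QdF.lp x) = _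
      rw [(CfsgLib.QdF.lp_mk _ _ _).1, (CfsgLib.QdF.lp_mk _ _ _).2,
        show (![w 0, w 1] : Fin 2 → F) = w from by funext i; fin_cases i <;> rfl]
    have e : (⟨g, hg⟩ : ↥G) = f x * (v⁻¹ * u) := by
      rw [hx, mul_assoc, z0_central hz l]
      rw [show v * ((v⁻¹ * u) * l) = u * l by group, hudef]
      group
    rw [show g = ((f x : ↥G) : H) * ((v⁻¹ * u : ↥G) : H) from congrArg Subtype.val e]
    exact mul_mem (mem_sup_left ⟨x, rfl⟩) (mem_sup_right (mem_map_of_mem G.subtype hz))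
  · refine ⟨⟨fun a a' => Subtype.ext ?_⟩⟩
    obtain ⟨_, z, hz, rfl⟩ := a
    obtain ⟨_, z', -, rfl⟩ := a'
    exact congrArg (fun x : ↥G => (x : H)) (z0_central hz z').symm
  · rintro _ ⟨z, hz, rfl⟩
    rw [← map_pow, hz.1.2, map_one]

end Assembly

end CfsgLib.PushL2
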