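import Cfsg.Agent.PushL2.TwoStep
import Cfsg.Agent.PushL2.CaseOne
import Cfsg.Agent.LocalB.SL2Natural

/-!
Distance two forces `p = 3`, class three and exponent nine.
-/

set_option autoImplicit false
set_option linter.unusedSectionVars false
set_option linter.style.haveILetI false

namespace CfsgLib.PushL2

open Subgroup Matrix
open scoped commutatorElement
open CfsgLib.SL2Pair (up low up_mul low_mul up_inv up_zero low_zero up_coe low_coe)
open CfsgLib.SL2Nat (dg ww dg_coe ww_coe ww_mul_up dg_mul_up dg_ww_eq ww_eq dg_one_mul ww_mul_ww)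

/-- The commutator of the action of `σ`. -/
def cm {H : Type*} [Group H] (σ r : H) : H := σ * r * σ⁻¹ * r⁻¹

theorem shift_pow {H : Type*} [Group H] {σ r c₁ c₂ : H} (h1 : σ * r * σ⁻¹ = c₁ * r)
    (h2 : σ * c₁ * σ⁻¹ = c₂ * c₁) (h3 : Commute σ c₂) (h4 : Commute c₁ c₂) (n : ℕ) :
    σ ^ n * r * (σ ^ n)⁻¹ = c₂ ^ n.choose 2 * c₁ ^ n * r ∧
      σ ^ n * c₁ * (σ ^ n)⁻¹ = c₂ ^ n * c₁ := by
  have h3' : ∀ k : ℕ, σ * c₂ ^ k * σ⁻¹ = c₂ ^ k := fun k => by
    rw [(h3.pow_right k).eq, mul_inv_cancel_right]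
  induction n with
  | zero => simp
  | succ n ih =>
    have e : ∀ y, σ ^ (n + 1) * y * (σ ^ (n + 1))⁻¹ = σ * (σ ^ n * y * (σ ^ n)⁻¹) * σ⁻¹ :=
      fun y => by rw [pow_succ']; group
    constructor
    · rw [e, ih.1]
      calc σ * (c₂ ^ n.choose 2 * c₁ ^ n * r) * σ⁻¹
          = (σ * c₂ ^ n.choose 2 * σ⁻¹) * (σ * c₁ * σ⁻¹) ^ n * (σ * r * σ⁻¹) := by
            rw [conj_pow]; group
        _ = c₂ ^ n.choose 2 * (c₂ * c₁) ^ n * (c₁ * r) := by rw [h3', h2, h1]
        _ = _ := by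
            rw [(h4.symm).mul_pow, Nat.choose_succ_succ', Nat.choose_one_right, add_comm n,
              pow_add, pow_succ c₁]
            simp only [mul_assoc]
    · rw [e, ih.2]
      calc σ * (c₂ ^ n * c₁) * σ⁻¹ = (σ * c₂ ^ n * σ⁻¹) * (σ * c₁ * σ⁻¹) := by group
        _ = _ := by rw [h3', h2, pow_succ, mul_assoc]

variable {G : Type*} [Group G] [Finite G] {p : ℕ} [Fact p.Prime]

theorem low_pow {F : Type*} [Field F] (x : F) (n : ℕ) : low x ^ n = low (n * x) := by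
  induction n with
  | zero => simp [low_zero]
  | succ n ih => rw [pow_succ, ih, low_mul, Nat.cast_succ, add_mul, one_mul]

theorem up_pow {F : Type*} [Field F] (x : F) (n : ℕ) : up x ^ n = up (n * x) := by
  induction n with
  | zero => simp [up_zero]
  | succ n ih => rw [pow_succ, ih, up_mul, Nat.cast_succ, add_mul, one_mul]

namespace Nat2

variable {S : Sylow p G} {q : ℕ} {M U C W : Subgroup G} [W.Normal] {F : Type*} [Field F]

theorem map_one (φ : Nat2 p S F U C W) : φ.ψ 1 = 0 := (φ.eq_zero 1 U.one_mem).2 W.one_mem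

theorem map_inv (φ : Nat2 p S F U C W) {u : G} (hu : u ∈ U) : φ.ψ u⁻¹ = -φ.ψ u := by
  refine eq_neg_of_add_eq_zero_left ?_
  rw [← φ.map_mul _ (U.inv_mem hu) _ hu, inv_mul_cancel, φ.map_one]

theorem map_pow (φ : Nat2 p S F U C W) {u : G} (hu : u ∈ U) (n : ℕ) :
    φ.ψ (u ^ n) = n • φ.ψ u := by
  induction n with
  | zero => simp [φ.map_one]
  | succ n ih => rw [pow_succ, φ.map_mul _ (U.pow_mem hu n) _ hu, ih, succ_nsmul]

theorem char_eq (φ : Nat2 p S F U C W) (L : Lines S q M U C W) : (p : F) = 0 := by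
  obtain ⟨u, hu, e⟩ := φ.onto ![1, 0]
  have h := (φ.eq_zero _ (U.pow_mem hu p)).2 (L.pow u hu)
  rw [φ.map_pow hu, e] at h
  simpa using congrFun h 0

theorem ne_one_of_not_mem (φ : Nat2 p S F U C W) (L : Lines S q M U C W) (hx : Ctx p S q M)
    {s : G} (hs : s ∈ (S : Subgroup G)) (hsQ : s ∉ Cfsg.pCore p G) : φ.ρ s ≠ 1 := fun h =>
  hsQ (L.inf_kerOf hx ⟨hs, by rw [← φ.ker]; exact MonoidHom.mem_ker.2 h⟩)

theorem eq_one_of_neg {F' : Type*} [Field F'] {t r : Matrix.SpecialLinearGroup (Fin 2) F'}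
    (h : (t : Matrix (Fin 2) (Fin 2) F') = -1) : t * r * t⁻¹ * r⁻¹ = 1 := by
  have hc : t * r = r * t := Subtype.ext (by simp [Matrix.SpecialLinearGroup.coe_mul, h])
  rw [hc]
  group

/-- A normal subgroup inside `M` acts by scalars. -/
theorem scalar (φ : Nat2 p S F U C W) (L : Lines S q M U C W) (hx : Ctx p S q M) {K : Subgroup G}
    [K.Normal] (hKM : K ≤ M) {g : G} (hg : g ∈ K) :
    φ.ρ g = 1 ∨ (φ.ρ g : Matrix (Fin 2) (Fin 2) F) = -1 := by
  have h10 : ∀ c : G, ((φ.ρ c * φ.ρ g * (φ.ρ c)⁻¹ : Matrix.SpecialLinearGroup (Fin 2) F) :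
      Matrix (Fin 2) (Fin 2) F) 1 0 = 0 := fun c => by
    rw [← _root_.map_inv, ← _root_.map_mul, ← _root_.map_mul]
    exact φ.apply_one_zero L hx (hKM ((inferInstance : K.Normal).conj_mem g hg c))
  obtain ⟨w, hw⟩ := φ.surj ww
  obtain ⟨l, hl⟩ := φ.surj (low 1)
  have e0 : (φ.ρ g : Matrix (Fin 2) (Fin 2) F) 1 0 = 0 := φ.apply_one_zero L hx (hKM hg)
  have e1 : (φ.ρ g : Matrix (Fin 2) (Fin 2) F) 0 1 = 0 := by
    have := h10 w
    rw [hw] at this
    simpa [Matrix.SpecialLinearGroup.coe_mul, Matrix.SpecialLinearGroup.coe_inv, ww_coe,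
      Matrix.mul_apply, Matrix.vecMul, dotProduct, Fin.sum_univ_two, Matrix.adjugate_fin_two] using this
  have e2 : (φ.ρ g : Matrix (Fin 2) (Fin 2) F) 0 0 = (φ.ρ g : Matrix (Fin 2) (Fin 2) F) 1 1 := by
    have := h10 l
    rw [hl] at this
    simp [Matrix.SpecialLinearGroup.coe_mul, CfsgLib.SL2Pair.low_inv, low_coe,
      Matrix.mul_apply, Matrix.vecMul, dotProduct, Fin.sum_univ_two, e0, e1] at this
    linear_combination this
  have hdet : (φ.ρ g : Matrix (Fin 2) (Fin 2) F) 0 0 * (φ.ρ g : Matrix (Fin 2) (Fin 2) F) 1 1 -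
      (φ.ρ g : Matrix (Fin 2) (Fin 2) F) 0 1 * (φ.ρ g : Matrix (Fin 2) (Fin 2) F) 1 0 = 1 := by
    rw [← Matrix.det_fin_two]; exact (φ.ρ g).2
  rw [← e2, e0, e1, mul_zero, sub_zero] at hdet
  rcases mul_self_eq_one_iff.1 hdet with h | h
  · refine Or.inl (Subtype.ext ?_)
    ext i j
    fin_cases i <;> fin_cases j <;> simp [h, e0, e1, ← e2]
  · refine Or.inr ?_
    ext i j
    fin_cases i <;> fin_cases j <;> simp [h, e0, e1, ← e2]

end Nat2

/-- What holds when every twist of `V` lies in `O_p(G)`. -/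
structure Two (p : ℕ) [Fact p.Prime] (S : Sylow p G) (q : ℕ) (M : Subgroup G) : Prop where
  ker : kerOf (omega p G) (z0 p G) = Cfsg.pCore p G
  three : p = 3
  lcs_three : (S : Subgroup G).lowerCentralSeries 3 = ⊥
  lcs_two : (S : Subgroup G).lowerCentralSeries 2 ≠ ⊥
  exp : Monoid.exponent ↥(S : Subgroup G) = 9
  series : ∃ C1 C0 : Subgroup G, Lines S q M (Cfsg.pCore p G) C1 C0 ∧ omega p G ≤ C0 ∧
    Triv p C0 (omega p G) ∧ Cfsg.iterCommutator C0 ⊤ 3 ≤ omega p G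

theorem caseTwo' {S : Sylow p G} {q : ℕ} {M C1 C0 E : Subgroup G} (N : Std p S q M)
    (D : Mid0 p S q M C1 C0 E) (F : Type*) [Field F] [Finite F] (hF : Nat.card F = q) :
    p = 3 ∧ (NoChar p S q M → Mid p S q M C1 C0 E → Two p S q M) := by
  haveI hEn := D.normalE
  haveI hC0n := D.lines.normalW
  set Q := Cfsg.pCore p G
  set V := omega p G
  have hp := (Fact.out : p.Prime)
  have hx := N.ctx
  have hC1Q : C1 ≤ Q := D.lines.hCU
  have hC0C1 : C0 ≤ C1 := D.lines.hWC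
  have hQS : Q ≤ (S : Subgroup G) := N.core.le_S
  set π := QuotientGroup.mk' E with hπ
  have hπE : ∀ {x}, x ∈ E → π x = 1 := fun hx => (QuotientGroup.eq_one_iff _).2 hx
  have hcm : ∀ s y : G, cm (π s) (π y) = π (s * y * s⁻¹ * y⁻¹) := fun s y => by simp [cm]
  have hab : ∀ {r r' : G}, r ∈ Q → r' ∈ Q → Commute (π r) (π r') :=
    fun hr hr' => commute_mk.2 (D.abel _ hr _ hr')
  have hexp : ∀ {r : G}, r ∈ Q → π r ^ p = 1 := fun hr => by
    rw [← map_pow, hπE (D.pow _ hr)]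
  have hzcomm : ∀ {z s : G}, z ∈ zs S → s ∈ (S : Subgroup G) → Commute (π s) (π z) :=
    fun hz hs => (show Commute _ _ from (mem_fix.1 hz).2 _ hs).map π
  have hC1z : ∀ s ∈ (S : Subgroup G), ∀ w ∈ C1, ∃ z ∈ zs S, cm (π s) (π w) = π z := by
    intro s hs w hw
    obtain ⟨x, hxS, hq, -, hmove⟩ := D.split s hs
    refine ⟨_, hmove w hw, ?_⟩
    have hc := hab hq (hC1Q hw)
    rw [show s = x * (x⁻¹ * s) by group, ← hcm x w, map_mul]
    show π x * π (x⁻¹ * s) * π w * (π x * π (x⁻¹ * s))⁻¹ * (π w)⁻¹ = _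
    calc π x * π (x⁻¹ * s) * π w * (π x * π (x⁻¹ * s))⁻¹ * (π w)⁻¹
        = π x * (π (x⁻¹ * s) * π w) * (π (x⁻¹ * s))⁻¹ * (π x)⁻¹ * (π w)⁻¹ := by group
      _ = cm (π x) (π w) := by rw [hc.eq]; simp only [cm]; group
  -- the second commutator
  let T : G → G → G ⧸ E := fun s y => cm (π s) (cm (π s) (π y))
  have hTz : ∀ s ∈ (S : Subgroup G), ∀ y ∈ Q, ∃ z ∈ zs S, T s y = π z := fun s hs y hy => by
    obtain ⟨z, hz, e⟩ := hC1z s hs _ (D.lines.moveU s hs y hy)
    exact ⟨z, hz, by show cm (π s) (cm (π s) (π y)) = π z; rw [hcm, e]⟩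
  have hD : ∀ s ∈ (S : Subgroup G), ∀ r ∈ Q, ∀ r' ∈ Q,
      cm (π s) (π (r * r')) = cm (π s) (π r) * cm (π s) (π r') := by
    intro s hs r hr r' hr'
    have hc : Commute (π r) (cm (π s) (π r')) := by
      rw [hcm]; exact hab hr (hC1Q (D.lines.moveU s hs r' hr'))
    rw [map_mul]
    calc cm (π s) (π r * π r') = cm (π s) (π r) * (π r * cm (π s) (π r') * (π r)⁻¹) := by
          simp only [cm]; group
      _ = _ := by rw [hc.eq, mul_inv_cancel_right]
  have hTmul : ∀ s ∈ (S : Subgroup G), ∀ y ∈ Q, ∀ y' ∈ Q, T s (y * y') = T s y * T s y' := by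
    intro s hs y hy y' hy'
    show cm _ (cm _ _) = _
    rw [hD s hs y hy y' hy', hcm s y, hcm s y', ← map_mul,
      hD s hs _ (hC1Q (D.lines.moveU s hs y hy)) _ (hC1Q (D.lines.moveU s hs y' hy'))]
    show _ = cm (π s) (cm (π s) (π y)) * cm (π s) (cm (π s) (π y'))
    rw [hcm s y, hcm s y']
  have hTC1 : ∀ s ∈ (S : Subgroup G), ∀ t ∈ C1, T s t = 1 := by
    intro s hs t ht
    obtain ⟨z, hz, e⟩ := hC1z s hs t ht
    show cm _ (cm _ _) = _
    rw [e, cm, (hzcomm hz hs).eq]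
    group
  have hTq : ∀ s ∈ (S : Subgroup G), ∀ r ∈ Q, ∀ y ∈ Q, T (s * r) y = T s y := by
    intro s hs r hr y hy
    have h1 : ∀ u ∈ Q, cm (π (s * r)) (π u) = cm (π s) (π u) := fun u hu => by
      rw [map_mul]
      calc cm (π s * π r) (π u) = π s * (π r * π u) * (π r)⁻¹ * (π s)⁻¹ * (π u)⁻¹ := by
            simp only [cm]; group
        _ = _ := by rw [(hab hr hu).eq]; simp only [cm]; group
    show cm _ (cm _ _) = cm _ (cm _ _)
    rw [h1 y hy, hcm s y, h1 _ (hC1Q (D.lines.moveU s hs y hy))]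
  have hTconj : ∀ g s y : G, π g * T s y * (π g)⁻¹ = T (g * s * g⁻¹) (g * y * g⁻¹) := fun g s y => by
    simp only [T, cm, map_mul, _root_.map_inv]
    group
  have hTpow : ∀ s ∈ (S : Subgroup G), ∀ y ∈ Q, ∀ n : ℕ, T (s ^ n) y = T s y ^ (n * n) := by
    intro s hs y hy n
    obtain ⟨z, hz, e⟩ := hTz s hs y hy
    have hw := D.lines.moveU s hs y hy
    have h4 : Commute (cm (π s) (π y)) (T s y) := by
      rw [hcm, e]; exact hab (hC1Q hw) (omega_le hz.1)
    have h3 : Commute (π s) (T s y) := e ▸ hzcomm hz hs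
    obtain ⟨e1, e2⟩ := shift_pow (σ := π s) (r := π y) (c₁ := cm (π s) (π y)) (c₂ := T s y)
      (by simp only [cm]; group) (by simp only [T, cm]; group) h3 h4 n
    have e3 : cm (π (s ^ n)) (π y) = T s y ^ n.choose 2 * cm (π s) (π y) ^ n := by
      rw [map_pow]
      show π s ^ n * π y * (π s ^ n)⁻¹ * (π y)⁻¹ = _
      rw [e1, mul_inv_cancel_right]
    show cm _ (cm _ _) = _
    rw [e3]
    generalize cm (π s) (π y) = c at *
    generalize T s y = d at *
    have h3' : π s ^ n * d ^ n.choose 2 * (π s ^ n)⁻¹ = d ^ n.choose 2 := by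
      rw [(h3.pow_pow n (n.choose 2)).eq, mul_inv_cancel_right]
    rw [map_pow]
    calc cm (π s ^ n) (d ^ n.choose 2 * c ^ n)
        = (π s ^ n * d ^ n.choose 2 * (π s ^ n)⁻¹) * (π s ^ n * c * (π s ^ n)⁻¹) ^ n *
            (d ^ n.choose 2 * c ^ n)⁻¹ := by rw [conj_pow]; simp only [cm]; group
      _ = d ^ n.choose 2 * (d ^ n) ^ n * c ^ n * (d ^ n.choose 2 * c ^ n)⁻¹ := by
          rw [h3', e2, ((h4.symm).pow_left n).mul_pow]
          simp only [mul_assoc]
      _ = _ := by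
          rw [← pow_mul, ← pow_add, add_comm, pow_add]
          group
  obtain ⟨s₁, hs₁, y, hy, hbad⟩ := D.moved
  have hne : T s₁ y ≠ 1 := fun h => hbad ((QuotientGroup.eq_one_iff _).1 (by
    rw [← h]; simp only [T, cm, hπ, QuotientGroup.mk'_apply, QuotientGroup.mk_mul,
      QuotientGroup.mk_inv]))
  obtain ⟨x, hxS, hq, hxp, -⟩ := D.split s₁ hs₁
  have hTx : T x y ≠ 1 := by
    rw [← hTq x hxS _ hq y hy, mul_inv_cancel_left]; exact hne
  obtain ⟨z, hz, hTe⟩ := hTz x hxS y hy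
  have hTp : T x y ^ p = 1 := hTe ▸ hexp (omega_le hz.1)
  have hT2 : T x y ^ 2 = 1 → False := fun h => by
    rcases eq_or_ne p 2 with rfl | hp2
    · obtain ⟨w, hw, ew⟩ : ∃ w ∈ Q, cm (π x) (π y) = π w :=
        ⟨_, hC1Q (D.lines.moveU x hxS y hy), hcm x y⟩
      have h3 : Commute (π x) (T x y) := hTe ▸ hzcomm hz hxS
      have h4 : Commute (cm (π x) (π y)) (T x y) := by
        rw [ew, hTe]; exact hab hw (omega_le hz.1)
      obtain ⟨e1, -⟩ := shift_pow (σ := π x) (r := π y) (c₁ := cm (π x) (π y)) (c₂ := T x y)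
        (by simp only [cm]; group) (by simp only [T, cm]; group) h3 h4 2
      rw [← map_pow, hxp, _root_.map_one, one_mul, inv_one, mul_one, Nat.choose_self, pow_one, ew,
        hexp hw, mul_one] at e1
      exact hTx (mul_eq_right.1 e1.symm)
    · exact hTx (orderOf_eq_one_iff.1 (Nat.eq_one_of_dvd_coprimes
        ((Nat.coprime_primes Nat.prime_two hp).2 (Ne.symm hp2)) (orderOf_dvd_of_pow_eq_one h)
        (orderOf_dvd_of_pow_eq_one hTp)))
  have hp2 : p ≠ 2 := fun h => hT2 (h ▸ hTp)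
  obtain ⟨φ₁⟩ := N.linesV.natural hx N.core F hF
  obtain ⟨φ₂⟩ := D.lines.natural hx N.core F hF
  haveI := omega_normal (p := p) (G := G)
  haveI := pCore_isNormal (p := p) (G := G)
  have hboth : kerOf V (z0 p G) ⊓ kerOf Q C0 ≤ Q :=
    le_pCore_of_coprime fun g hg hgp => D.both g hgp hg.1 (mem_kerOf.1 hg.2)
  -- both kernels are trivial modulo `O_p(G)`
  have hTy : ∀ g : G, (∀ s ∈ (S : Subgroup G), g * s * g⁻¹ * s⁻¹ ∈ Q) →
      T x (g * y * g⁻¹) = π g * T x y * (π g)⁻¹ := fun g hgs => by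
    rw [hTconj]
    have hs := hgs x hxS
    rw [show g * x * g⁻¹ = x * (x⁻¹ * (g * x * g⁻¹ * x⁻¹) * x) by group,
      hTq x hxS _ (by simpa using pCore_isNormal.conj_mem _ hs x⁻¹) _
        (pCore_isNormal.conj_mem y hy g)]
  have hk1 : kerOf V (z0 p G) ≤ Q := by
    intro g hg
    rcases φ₂.scalar D.lines hx (N.linesV.kerOf_le hx) hg with h | h
    · exact hboth ⟨hg, φ₂.ker ▸ MonoidHom.mem_ker.2 h⟩
    exfalso
    have hgs : ∀ s ∈ (S : Subgroup G), g * s * g⁻¹ * s⁻¹ ∈ Q := fun s hs => hboth ⟨by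
      have := (kerOf V (z0 p G)).mul_mem hg
        ((inferInstance : (kerOf V (z0 p G)).Normal).conj_mem _ ((kerOf V (z0 p G)).inv_mem hg) s)
      simpa [mul_assoc] using this, by
        show _ ∈ kerOf Q C0
        rw [← φ₂.ker, MonoidHom.mem_ker]
        simp only [_root_.map_mul, _root_.map_inv]
        exact Nat2.eq_one_of_neg h⟩
    have hy2 : g * y * g⁻¹ * y ∈ C0 := by
      refine (φ₂.eq_zero _ (Q.mul_mem (pCore_isNormal.conj_mem y hy g) hy)).1 ?_
      rw [φ₂.map_mul _ (pCore_isNormal.conj_mem y hy g) _ hy, φ₂.equiv g y hy, h, neg_mulVec,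
        one_mulVec, neg_add_cancel]
    have hfix : π g * T x y * (π g)⁻¹ = T x y := by
      rw [hTe]
      exact mul_inv_eq_iff_eq_mul.2 (commute_mk.2 (D.z0_le (mem_kerOf.1 hg z hz.1))).eq
    have h1 : T x (g * y * g⁻¹) * T x y = 1 := by
      rw [← hTmul x hxS _ (pCore_isNormal.conj_mem y hy g) y hy, hTC1 x hxS _ (hC0C1 hy2)]
    rw [hTy g hgs, hfix, ← sq] at h1
    exact hT2 h1
  have hk2 : kerOf Q C0 ≤ Q := by
    intro g hg
    rcases φ₁.scalar N.linesV hx (D.lines.kerOf_le hx) hg with h | h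
    · exact hk1 (φ₁.ker ▸ MonoidHom.mem_ker.2 h)
    exfalso
    have hgs : ∀ s ∈ (S : Subgroup G), g * s * g⁻¹ * s⁻¹ ∈ Q := fun s hs => hk1 (by
      rw [← φ₁.ker, MonoidHom.mem_ker]
      simp only [_root_.map_mul, _root_.map_inv]
      exact Nat2.eq_one_of_neg h)
    have hy2 : g * y * g⁻¹ * y⁻¹ ∈ C0 := mem_kerOf.1 hg y hy
    have hz2 : g * z * g⁻¹ * z ∈ E := D.z0_le ((φ₁.eq_zero _
      ((omega p G).mul_mem (omega_normal.conj_mem z hz.1 g) hz.1)).1 (by
        rw [φ₁.map_mul _ (omega_normal.conj_mem z hz.1 g) _ hz.1, φ₁.equiv g z hz.1, h,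
          neg_mulVec, one_mulVec, neg_add_cancel]))
    have h1 : T x (g * y * g⁻¹) = T x y := by
      have hy3 : g * y * g⁻¹ * y⁻¹ ∈ Q := hC1Q (hC0C1 hy2)
      rw [show g * y * g⁻¹ = (g * y * g⁻¹ * y⁻¹) * y by group, hTmul x hxS _ hy3 y hy,
        hTC1 x hxS _ (hC0C1 hy2), one_mul]
    have h2 : π g * T x y * (π g)⁻¹ * T x y = 1 := by
      rw [hTe, ← map_mul, ← _root_.map_inv, ← map_mul, ← map_mul, hπE hz2]
    rw [← hTy g hgs, h1, ← sq] at h2
    exact hT2 h2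
  have hker1 : φ₁.ρ.ker = Q := φ₁.ker.trans (le_antisymm hk1 N.linesV.core_le_kerOf)
  have hker2 : φ₂.ρ.ker = Q := φ₂.ker.trans (le_antisymm hk2 D.lines.core_le_kerOf)
  -- an element scaling both factors
  have h2F : (2 : F) ≠ 0 := by
    obtain ⟨k, hk⟩ := hp.odd_of_ne_two hp2
    intro h
    have := φ₁.char_eq N.linesV
    rw [hk, Nat.cast_add, Nat.cast_mul, Nat.cast_ofNat, h, zero_mul, zero_add, Nat.cast_one] at this
    exact one_ne_zero this
  obtain ⟨a, haS, ha⟩ := φ₁.exists_up 1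
  obtain ⟨c, hc⟩ := φ₂.mem_up a haS
  have hc0 : c ≠ 0 := fun h => by
    rw [h, up_zero, ← MonoidHom.mem_ker, hker2, ← hker1, MonoidHom.mem_ker, ha,
      CfsgLib.SL2Pair.up_eq_one] at hc
    exact one_ne_zero hc
  obtain ⟨h₀, hh₀⟩ := φ₁.surj ww
  set b := h₀ * a * h₀⁻¹ with hb
  have hb1 : φ₁.ρ b = low (-1) := by
    rw [hb, _root_.map_mul, _root_.map_mul, _root_.map_inv, hh₀, ha, ww_mul_up, mul_inv_cancel_right]
  set t := φ₂.ρ h₀ with ht
  set c' := (t : Matrix (Fin 2) (Fin 2) F) 1 0 with hc'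
  set a' := (t : Matrix (Fin 2) (Fin 2) F) 0 0 with ha'
  have hdet : (t : Matrix (Fin 2) (Fin 2) F) 0 0 * (t : Matrix (Fin 2) (Fin 2) F) 1 1 -
      (t : Matrix (Fin 2) (Fin 2) F) 0 1 * (t : Matrix (Fin 2) (Fin 2) F) 1 0 = 1 := by
    rw [← Matrix.det_fin_two]; exact t.2
  have hc'0 : c' ≠ 0 := by
    intro h
    obtain ⟨s, hs, hse⟩ := φ₂.exists_up (a' ^ 2 * c)
    have e : φ₂.ρ b = φ₂.ρ s := by
      rw [hb, _root_.map_mul, _root_.map_mul, _root_.map_inv, hc, ← ht, hse,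
        mul_inv_eq_iff_eq_mul]
      simp only [hc'] at h
      rw [h, mul_zero, sub_zero] at hdet
      refine Subtype.ext ?_
      rw [Matrix.SpecialLinearGroup.coe_mul, Matrix.SpecialLinearGroup.coe_mul, up_coe, up_coe]
      ext i j
      fin_cases i <;> fin_cases j <;> simp [Matrix.mul_apply, Fin.sum_univ_two, h, ha']
      linear_combination (-((t : Matrix (Fin 2) (Fin 2) F) 0 0) * c) * hdet
    have hbS : b ∈ (S : Subgroup G) := by
      have hm : s⁻¹ * b ∈ Q := by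
        rw [← hker2, MonoidHom.mem_ker, _root_.map_mul, _root_.map_inv, e, inv_mul_cancel]
      have := (S : Subgroup G).mul_mem hs (hQS hm)
      rwa [mul_inv_cancel_left] at this
    obtain ⟨r, hr⟩ := φ₁.mem_up b hbS
    rw [hb1] at hr
    have := congrArg (fun m : Matrix.SpecialLinearGroup (Fin 2) F =>
      (m : Matrix (Fin 2) (Fin 2) F) 1 0) hr
    simp [low_coe, up_coe] at this
  set v := up (a' / c') with hv
  set d := -(c * c' ^ 2) with hd
  have hb2 : φ₂.ρ b = v * low d * v⁻¹ := by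
    rw [hb, _root_.map_mul, _root_.map_mul, _root_.map_inv, hc, ← ht, mul_inv_eq_iff_eq_mul]
    refine Subtype.ext ?_
    rw [hv, up_inv, Matrix.SpecialLinearGroup.coe_mul, Matrix.SpecialLinearGroup.coe_mul,
      Matrix.SpecialLinearGroup.coe_mul, Matrix.SpecialLinearGroup.coe_mul, up_coe, up_coe,
      low_coe, up_coe]
    have hc'1 : (t : Matrix (Fin 2) (Fin 2) F) 1 0 ≠ 0 := hc'0
    ext i j
    fin_cases i <;> fin_cases j <;>
      simp [Matrix.mul_apply, Fin.sum_univ_two, ha', hc', hd] <;> field_simp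
    all_goals grind
  have hcomm : ∀ r : F, up r * v = v * up r := fun r => by
    rw [hv, up_mul, up_mul, add_comm]
  have hmid : ∀ (r e : F), up r * (v * low e * v⁻¹) * up r = v * (up r * low e * up r) * v⁻¹ := by
    intro r e
    have h1 : Commute (up r) v := hcomm r
    calc up r * (v * low e * v⁻¹) * up r
        = (up r * v) * low e * (v⁻¹ * up r) := by group
      _ = _ := by rw [h1.eq, (h1.symm.inv_left).eq]; group
  set w := up c * low d * up c with hw
  have hab2 : φ₂.ρ (a * b * a) = v * w * v⁻¹ := by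
    rw [_root_.map_mul, _root_.map_mul, hc, hb2, hmid]
  have hab1 : φ₁.ρ (a * b * a) = ww := by
    rw [_root_.map_mul, _root_.map_mul, ha, hb1, ← ww_eq]
  have hcd : d = -c⁻¹ := by
    set z₂ := a * b * a * (a * b * a)
    have hz1 : φ₁.ρ z₂ = ww * ww := by rw [_root_.map_mul, hab1]
    have hz2 : φ₂.ρ z₂ = v * w * v⁻¹ * (v * w * v⁻¹) := by rw [_root_.map_mul, hab2]
    have hQ' : a * z₂ * a⁻¹ * z₂⁻¹ ∈ Q := by
      rw [← hker1, MonoidHom.mem_ker, _root_.map_mul, _root_.map_mul, _root_.map_mul,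
        _root_.map_inv, _root_.map_inv, hz1, ha, ww_mul_ww, dg_mul_up]
      simp
    rw [← hker2, MonoidHom.mem_ker, _root_.map_mul, _root_.map_mul, _root_.map_mul,
      _root_.map_inv, _root_.map_inv, hz2, hc, mul_inv_eq_one, mul_inv_eq_iff_eq_mul] at hQ'
    have h1 : Commute (up c) (w * w) := by
      have h2 : Commute (up c) v := hcomm c
      have h3 : Commute (up c) (v * w * v⁻¹ * (v * w * v⁻¹)) := hQ'
      have h4 := (h2.inv_right.mul_right h3).mul_right h2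
      rwa [show v⁻¹ * (v * w * v⁻¹ * (v * w * v⁻¹)) * v = w * w by group] at h4
    have h5 := congrFun (congrFun (congrArg
      (fun m : Matrix.SpecialLinearGroup (Fin 2) F => (m : Matrix (Fin 2) (Fin 2) F)) h1.eq) 0) 0
    simp [hw, Matrix.SpecialLinearGroup.coe_mul, Matrix.mul_apply, Fin.sum_univ_two, up_coe,
      low_coe] at h5
    have hd0 : d ≠ 0 := by
      rw [hd]; exact neg_ne_zero.2 (mul_ne_zero hc0 (pow_ne_zero 2 hc'0))
    have : 2 * c * d * (1 + c * d) = 0 := by linear_combination c * h5.resolve_left hc0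
    have h6 : 1 + c * d = 0 :=
      (mul_eq_zero.1 this).resolve_left (mul_ne_zero (mul_ne_zero h2F hc0) hd0)
    field_simp
    linear_combination h6
  set m := (p + 1) / 2
  have hm : (m : F) = 2⁻¹ := by
    obtain ⟨j, hj⟩ := hp.odd_of_ne_two hp2
    have hm' : 2 * m = p + 1 := by simp only [m]; omega
    have := congrArg (fun n : ℕ => (n : F)) hm'
    simp only [Nat.cast_mul, Nat.cast_ofNat, Nat.cast_add, φ₁.char_eq N.linesV, zero_add,
      Nat.cast_one] at this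
    exact eq_inv_of_mul_eq_one_right this
  set k := a * a * b ^ m * (a * a) * (a * b * a)⁻¹
  have hρ1k : φ₁.ρ k = dg 2 h2F := by
    simp only [k, _root_.map_mul _ _ (a * b * a)⁻¹, _root_.map_inv, hab1]
    rw [_root_.map_mul, _root_.map_mul, _root_.map_mul, _root_.map_pow, ha, hb1, up_mul, low_pow,
      hm, show (1 : F) + 1 = 2 by ring, show (2 : F)⁻¹ * -1 = -2⁻¹ by ring, ← dg_ww_eq 2 h2F,
      mul_inv_cancel_right]
  have hρ2k : φ₂.ρ k = v * dg 2 h2F * v⁻¹ := by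
    simp only [k, _root_.map_mul _ _ (a * b * a)⁻¹, _root_.map_inv, hab2]
    rw [_root_.map_mul, _root_.map_mul, _root_.map_mul, _root_.map_pow, hc, hb2, up_mul,
      conj_pow, low_pow, hm, hmid, hw, hcd, show c + c = 2 * c by ring,
      show (2 : F)⁻¹ * -c⁻¹ = -(2 * c)⁻¹ by rw [mul_inv]; ring,
      ← dg_ww_eq (2 * c) (mul_ne_zero h2F hc0), ← dg_ww_eq c hc0, ← dg_one_mul 2 c h2F hc0]
    group
  have hksk : x ^ 4 * ((x ^ 4)⁻¹ * (k * x * k⁻¹)) = k * x * k⁻¹ := mul_inv_cancel_left _ _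
  have hks : (x ^ 4)⁻¹ * (k * x * k⁻¹) ∈ Q := by
    obtain ⟨r, hr⟩ := φ₁.mem_up x hxS
    rw [← hker1, MonoidHom.mem_ker, _root_.map_mul, _root_.map_mul, _root_.map_mul,
      _root_.map_inv, _root_.map_inv, _root_.map_pow, hρ1k, hr, up_pow, inv_mul_eq_one,
      eq_mul_inv_iff_mul_eq, dg_mul_up]
    congr 2
    field_simp
    ring
  have hkz : π k * T x y * (π k)⁻¹ = T x y ^ 2 := by
    rw [hTe, ← map_pow, ← map_mul, ← _root_.map_inv, ← map_mul]
    refine QuotientGroup.eq_iff_div_mem.2 (D.z0_le ?_)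
    have hz1 := omega_normal.conj_mem z hz.1 k
    rw [div_eq_mul_inv]
    refine (φ₁.eq_zero _ (V.mul_mem hz1 (V.inv_mem (V.pow_mem hz.1 2)))).1 ?_
    rw [φ₁.map_mul _ hz1 _ (V.inv_mem (V.pow_mem hz.1 2)), φ₁.map_inv (V.pow_mem hz.1 2),
      φ₁.map_pow hz.1, φ₁.equiv k z hz.1, hρ1k]
    have hax := (φ₁.axis z hz.1).1 hz
    funext i
    fin_cases i <;> simp [dg_coe, Matrix.mulVec, dotProduct, Fin.sum_univ_two, hax] <;> ring
  set y' := k * y * k⁻¹
  have hy' : y' ∈ Q := pCore_isNormal.conj_mem y hy k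
  have hky : T x y' * T x y' = T x y := by
    rw [← hTmul x hxS y' hy' y' hy', show y' * y' = (y' * y' * y⁻¹) * y by group,
      hTmul x hxS _ (Q.mul_mem (Q.mul_mem hy' hy') (Q.inv_mem hy)) y hy, hTC1 x hxS _ ?_, one_mul]
    refine (φ₂.axis _ (Q.mul_mem (Q.mul_mem hy' hy') (Q.inv_mem hy))).2 ?_
    rw [φ₂.map_mul _ (Q.mul_mem hy' hy') _ (Q.inv_mem hy), φ₂.map_mul _ hy' _ hy',
      φ₂.map_inv hy, φ₂.equiv k y hy, hρ2k, hv, up_inv]
    simp [Matrix.SpecialLinearGroup.coe_mul, Matrix.mul_apply, dg_coe, up_coe, Matrix.mulVec,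
      dotProduct, Fin.sum_univ_two]
    field_simp
    ring
  have h12 : T x y ^ 12 = 1 := by
    have h1 := hkz
    rw [hTconj, ← hksk, hTq (x ^ 4) ((S : Subgroup G).pow_mem hxS 4) _ hks _ hy',
      hTpow x hxS y' hy' 4] at h1
    have h2 : T x y ^ 4 = T x y ^ 16 := by
      calc T x y ^ 4 = (T x y ^ 2) ^ 2 := by rw [← pow_mul]
        _ = (T x y' ^ (4 * 4)) ^ 2 := by rw [h1]
        _ = _ := by rw [← hky, ← pow_two (T x y'), ← pow_mul, ← pow_mul]
    rw [show T x y ^ 16 = T x y ^ 4 * T x y ^ 12 from pow_add _ 4 12] at h2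
    exact left_eq_mul.1 h2
  have hp3 : p = 3 := by
    have h1 : orderOf (T x y) = p := orderOf_eq_prime hTp hTx
    have h2 : p ∣ 2 * 2 * 3 := h1 ▸ orderOf_dvd_of_pow_eq_one h12
    rcases hp.dvd_mul.1 h2 with h | h
    · rcases hp.dvd_mul.1 h with h | h <;>
        exact absurd ((Nat.prime_dvd_prime_iff_eq hp Nat.prime_two).1 h) hp2
    · exact (Nat.prime_dvd_prime_iff_eq hp Nat.prime_three).1 h
  subst hp3
  refine ⟨rfl, fun N' Dm => ?_⟩
  -- class and exponent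
  have hfix : ∀ g : G, (orderOf g).Coprime 3 → ∀ u ∈ E, g * u = u * g := Dm.fixE
  have hlcs1 : (S : Subgroup G).lowerCentralSeries 1 ≤ C1 :=
    commutator_le.2 fun s hs t ht => by rw [commutatorElement_def]; exact Dm.commS s hs t ht
  have hlcs2 : (S : Subgroup G).lowerCentralSeries 2 ≤ zs S ⊔ E :=
    commutator_le.2 fun u hu s hs => by
      obtain ⟨z', hz', e⟩ := hC1z s hs u (hlcs1 hu)
      rw [hcm] at e
      have h1 : z'⁻¹ * (s * u * s⁻¹ * u⁻¹) ∈ E := QuotientGroup.eq.1 e.symm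
      have h2 := mul_mem (mem_sup_left hz' : z' ∈ zs S ⊔ E) (mem_sup_right h1)
      rw [mul_inv_cancel_left] at h2
      have h3 := (zs S ⊔ E).inv_mem h2
      rw [commutatorElement_def]
      rwa [show (s * u * s⁻¹ * u⁻¹)⁻¹ = u * s * u⁻¹ * s⁻¹ by group] at h3
  have hlcs3 : (S : Subgroup G).lowerCentralSeries 3 = ⊥ := by
    refine N'.lcs_eq_bot hfix 3 (commutator_le.2 fun u hu s hs => ?_)
    have hle : zs S ⊔ E ≤ (centralizer {π s}).comap π := sup_le
      (fun z hz => mem_centralizer_singleton_iff.2 ((hzcomm hz hs).eq.symm))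
      fun e he => mem_centralizer_singleton_iff.2 (by rw [hπE he, mul_one, one_mul])
    refine (QuotientGroup.eq_one_iff _).1 ?_
    show π ⁅u, s⁆ = 1
    rw [map_commutatorElement]
    exact commutatorElement_eq_one_iff_mul_comm.2 (mem_centralizer_singleton_iff.1 (hle (hlcs2 hu)))
  have hlcs2ne : (S : Subgroup G).lowerCentralSeries 2 ≠ ⊥ := by
    intro h
    have hw : ⁅x, y⁆ ∈ (S : Subgroup G).lowerCentralSeries 1 :=
      commutator_mem_commutator (by simpa using hxS) (hQS hy)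
    have h2 : ⁅⁅x, y⁆, x⁆ ∈ (S : Subgroup G).lowerCentralSeries 2 :=
      commutator_mem_commutator hw hxS
    rw [h, mem_bot, commutatorElement_eq_one_iff_mul_comm] at h2
    refine hTx ?_
    show cm (π x) (cm (π x) (π y)) = 1
    rw [hcm, cm, ← map_mul, ← commutatorElement_def, ← h2, map_mul]
    group
  have hcube : ∀ s ∈ (S : Subgroup G), ∀ x' ∈ (S : Subgroup G), x'⁻¹ * s ∈ Q → x' ^ 3 = 1 →
      π (s ^ 3) = T x' (x'⁻¹ * s) := by
    intro s hs x' hx' hr hx3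
    obtain ⟨z', hz', e⟩ := hTz x' hx' _ hr
    set r := x'⁻¹ * s with hrdef
    have hw := hC1Q (D.lines.moveU x' hx' r hr)
    have h3 : Commute (π x') (T x' r) := e ▸ hzcomm hz' hx'
    have h4 : Commute (cm (π x') (π r)) (T x' r) := by
      rw [hcm, e]; exact hab hw (omega_le hz'.1)
    obtain ⟨e1, -⟩ := shift_pow (σ := π x') (r := π r) (c₁ := cm (π x') (π r)) (c₂ := T x' r)
      (by simp only [cm]; group) (by simp only [T, cm]; group) h3 h4 2
    rw [Nat.choose_self, pow_one] at e1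
    have hσ : π x' * π x' * π x' = 1 := by
      rw [← map_mul, ← map_mul, ← pow_three', hx3, _root_.map_one]
    have hcr : Commute (cm (π x') (π r)) (π r) := by rw [hcm]; exact hab hw hr
    have hT' : Commute (T x' r) (π r) := by rw [e]; exact hab (omega_le hz'.1) hr
    rw [show s = x' * r by rw [hrdef]; group, map_pow, map_mul, pow_three']
    calc π x' * π r * (π x' * π r) * (π x' * π r)
        = (π x' * π r * (π x')⁻¹) * ((π x') ^ 2 * π r * ((π x') ^ 2)⁻¹) *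
            (π x' * π x' * π x' * π r) := by rw [sq]; group
      _ = (cm (π x') (π r) * π r) * (T x' r * cm (π x') (π r) ^ 2 * π r) * π r := by
          rw [e1, hσ, one_mul]; simp only [cm]; group
      _ = T x' r * cm (π x') (π r) ^ 3 * π r ^ 3 := by
          generalize cm (π x') (π r) = c at *
          generalize T x' r = d at *
          generalize π r = u at *
          calc c * u * (d * c ^ 2 * u) * u = c * (u * d) * c ^ 2 * u * u := by group
            _ = c * (d * u) * c ^ 2 * u * u := by rw [hT'.eq]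
            _ = (c * d) * (u * c ^ 2) * u * u := by group
            _ = (d * c) * (c ^ 2 * u) * u * u := by rw [h4.eq, (hcr.pow_left 2).eq]
            _ = _ := by simp only [pow_succ, pow_zero, one_mul]; group
      _ = _ := by
          rw [hexp hr, show cm (π x') (π r) ^ 3 = 1 by rw [hcm]; exact hexp hw, mul_one, mul_one]
  have hexp9 : Monoid.exponent ↥(S : Subgroup G) = 9 := by
    have h9 : ∀ s ∈ (S : Subgroup G), s ^ 9 = 1 := N'.pow_eq_one hfix 9 fun s hs => by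
      obtain ⟨x', hx', hr, hx3, -⟩ := D.split s hs
      obtain ⟨z', hz', e⟩ := hTz x' hx' _ hr
      refine (QuotientGroup.eq_one_iff _).1 ?_
      show π (s ^ (3 * 3)) = 1
      rw [pow_mul, map_pow, hcube s hs x' hx' hr hx3, e]
      exact hexp (omega_le hz'.1)
    have hdvd : Monoid.exponent ↥(S : Subgroup G) ∣ 3 ^ 2 :=
      Monoid.exponent_dvd_of_forall_pow_eq_one fun s => Subtype.ext (by simpa using h9 s s.2)
    obtain ⟨j, hj, he⟩ := (Nat.dvd_prime_pow Nat.prime_three).1 hdvd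
    have hj2 : ¬ j ≤ 1 := fun hj1 => by
      have hsy : x * y ∈ (S : Subgroup G) := (S : Subgroup G).mul_mem hxS (hQS hy)
      have h3 : (⟨x * y, hsy⟩ : ↥(S : Subgroup G)) ^ 3 = 1 :=
        orderOf_dvd_iff_pow_eq_one.1 ((orderOf_dvd_of_pow_eq_one
          (Monoid.pow_exponent_eq_one (⟨x * y, hsy⟩ : ↥(S : Subgroup G)))).trans
          (he ▸ (pow_dvd_pow 3 hj1).trans (by norm_num)))
      have h4 := hcube (x * y) hsy x hxS (by simpa using hy) hxp
      rw [show (x * y) ^ 3 = 1 from congrArg Subtype.val h3, inv_mul_cancel_left,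
        _root_.map_one] at h4
      exact hTx h4.symm
    rw [he, show j = 2 by omega]
    norm_num
  refine ⟨le_antisymm hk1 N.linesV.core_le_kerOf, rfl, hlcs3, hlcs2ne, hexp9,
    C1, C0, D.lines, Dm.V_le, Dm.triv, ?_⟩
  have hstep : ∀ D' : Subgroup G, D'.Normal → D' ≤ C0 →
      ⁅V ⊔ D', (⊤ : Subgroup G)⁆ ≤ V ⊔ ⁅D', C0⁆ := by
    intro D' hD' hD'C
    haveI := hD'
    refine commutator_le.2 fun u hu g hg => ?_
    obtain ⟨v', hv', d', hd', rfl⟩ := mem_sup_of_normal_left.1 hu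
    have h1 := Dm.step D' hD' hD'C (commutator_mem_commutator hd' hg)
    haveI : (V ⊔ ⁅D', C0⁆).Normal := inferInstance
    rw [show ⁅v' * d', g⁆ = v' * ⁅d', g⁆ * v'⁻¹ * (v' * g * v'⁻¹ * g⁻¹) by
      simp only [commutatorElement_def]; group]
    refine mul_mem ((inferInstance : (V ⊔ ⁅D', C0⁆).Normal).conj_mem _ h1 v') (mem_sup_left ?_)
    rw [show v' * g * v'⁻¹ * g⁻¹ = v' * (g * v'⁻¹ * g⁻¹) by group]
    exact V.mul_mem hv' (omega_normal.conj_mem _ (V.inv_mem hv') g)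
  have hD1 : ⁅C0, C0⁆ ≤ C0 := commutator_le_left C0 C0
  have hD2 : ⁅⁅C0, C0⁆, C0⁆ ≤ C0 := (commutator_mono hD1 le_rfl).trans hD1
  have hD3 : ⁅⁅⁅C0, C0⁆, C0⁆, C0⁆ = ⊥ := le_bot_iff.1 (hlcs3 ▸
    commutator_mono (commutator_mono (commutator_mono ((hC0C1.trans hC1Q).trans (hQS.trans
      (by simp))) ((hC0C1.trans hC1Q).trans hQS)) ((hC0C1.trans hC1Q).trans hQS))
      ((hC0C1.trans hC1Q).trans hQS))
  have h1 : Cfsg.iterCommutator C0 ⊤ 1 ≤ V ⊔ ⁅C0, C0⁆ := Dm.step C0 inferInstance le_rfl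
  have h2 : Cfsg.iterCommutator C0 ⊤ 2 ≤ V ⊔ ⁅⁅C0, C0⁆, C0⁆ :=
    (commutator_mono h1 le_rfl).trans (hstep _ inferInstance hD1)
  have h3 := (commutator_mono h2 le_rfl).trans (hstep _ inferInstance hD2)
  rw [hD3, sup_bot_eq] at h3
  exact h3

theorem caseTwo {S : Sylow p G} {q : ℕ} {M C1 C0 E : Subgroup G} (N : NoChar p S q M)
    (D : Mid p S q M C1 C0 E) (F : Type*) [Field F] [Finite F] (hF : Nat.card F = q) :
    Two p S q M :=
  (caseTwo' N.toStd D.toMid0 F hF).2 N D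

end CfsgLib.PushL2
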