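import Cfsg.Agent.PushL2.Common

/-!
All twists of `V` inside `O_p(G)`: the subgroups met at distance two.
-/

set_option autoImplicit false
set_option linter.unusedSectionVars false
set_option linter.style.haveILetI false

namespace CfsgLib.PushL2

open Subgroup
open scoped commutatorElement

variable {G : Type*} [Group G] [Finite G] {p : ℕ} [Fact p.Prime]

/-- The hypotheses at distance two. -/
structure Far (p : ℕ) [Fact p.Prime] (S : Sylow p G) (M : Subgroup G)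
    (α : ↥(S : Subgroup G) ≃* ↥(S : Subgroup G)) : Prop where
  inQ : ∀ β : ↥(S : Subgroup G) ≃* ↥(S : Subgroup G), img β (omega p G) ≤ Cfsg.pCore p G
  bad1 : ∀ h, h ∉ M → ∃ a ∈ img α (omega p G), ∃ b ∈ img α (omega p G),
    ¬ Commute a (h * b * h⁻¹)
  bad2 : ∀ h, h ∉ M → ∃ v ∈ omega p G, ∃ b ∈ img α (omega p G),
    ¬ Commute (ap α (h * b * h⁻¹)) v

namespace Far

variable {S : Sylow p G} {q : ℕ} {M : Subgroup G} {α : ↥(S : Subgroup G) ≃* ↥(S : Subgroup G)}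
  (N : NoChar p S q M) (hF : Far p S M α)
include N hF

local notation "V" => omega p G
local notation "Q" => Cfsg.pCore p G
local notation "A" => img α (omega p G)
local notation "R" => img α (Cfsg.pCore p G)

theorem hA {a : G} (ha : a ∈ A) : a ∈ Q := hF.inQ α ha

theorem hAS {a : G} (ha : a ∈ A) : a ∈ (S : Subgroup G) := N.core.le_S (hF.inQ α ha)

theorem conj_A_mem {a : G} (ha : a ∈ A) (h : G) : h * a * h⁻¹ ∈ (S : Subgroup G) :=
  N.core.le_S (pCore_isNormal.conj_mem a (hF.inQ α ha) h)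

theorem commA {a b : G} (ha : a ∈ A) (hb : b ∈ A) : a * b = b * a := by
  obtain ⟨v, hv, hvS, rfl⟩ := (mem_img α).1 ha
  obtain ⟨w, hw, hwS, rfl⟩ := (mem_img α).1 hb
  exact ap_comm α hvS hwS (omega_commute hv (omega_le hw))

theorem powA {a : G} (ha : a ∈ A) : a ^ p = 1 := by
  obtain ⟨v, hv, hvS, rfl⟩ := (mem_img α).1 ha
  rw [← ap_pow α hvS, hv.2, ap_one]

theorem mem_R {r : G} : r ∈ R ↔ r ∈ (S : Subgroup G) ∧ ∀ a ∈ A, r * a = a * r := by
  constructor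
  · intro hr
    obtain ⟨x, hx, hxS, rfl⟩ := (mem_img α).1 hr
    refine ⟨ap_mem α hxS, fun a ha => ?_⟩
    obtain ⟨v, hv, hvS, rfl⟩ := (mem_img α).1 ha
    exact ap_comm α hxS hvS (omega_commute hv hx).symm
  · rintro ⟨hr, hc⟩
    refine (mem_img α).2 ⟨ap α.symm r, N.commute_conj_mem (ap_mem α.symm hr) fun v hv => ?_,
      ap_mem α.symm hr, symm_ap α hr⟩
    have hvS := N.core.le_S (omega_le hv)
    have := ap_comm α.symm hr (ap_mem α hvS) (hc _ (ap_mem_img α hv hvS))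
    rwa [ap_symm α hvS] at this

theorem V_le_R : V ≤ R := fun _ hv =>
  (mem_R N hF).2 ⟨N.core.le_S (omega_le hv), fun _ ha => omega_commute hv (hA N hF ha)⟩

theorem zs_le_A : zs S ≤ A := (img_zs N.core α).ge.trans (img_mono α zs_le_V)

theorem A_le_R : A ≤ R := fun _ ha =>
  (mem_R N hF).2 ⟨hAS N hF ha, fun _ hb => commA N hF ha hb⟩

/-- The subgroup of `R` met at the conjugate by `h`. -/
theorem mem_conjR {r h : G} (hr : r ∈ Q) :
    r ∈ (R).map (MulAut.conj h).toMonoidHom ↔ ∀ a ∈ A, Commute r (h * a * h⁻¹) := by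
  constructor
  · rintro ⟨t, ht, rfl⟩ a ha
    have := ((show Commute t a from ((mem_R N hF).1 ht).2 a ha)).map (MulAut.conj h).toMonoidHom
    simpa using this
  · intro hc
    refine ⟨h⁻¹ * r * h, (mem_R N hF).2 ⟨N.core.le_S (by simpa using pCore_isNormal.conj_mem r hr h⁻¹),
      fun a ha => ?_⟩, by simp [mul_assoc]⟩
    have := (hc a ha).map (MulAut.conj h⁻¹).toMonoidHom
    simp only [MulEquiv.coe_toMonoidHom, MulAut.conj_apply, inv_inv] at this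
    rwa [show h⁻¹ * (h * a * h⁻¹) * h = a by group] at this

theorem fib1 {h : G} (hh : h ∉ M) {a : G} (ha : a ∈ A)
    (hc : ∀ b ∈ A, Commute a (h * b * h⁻¹)) : a ∈ zs S := by
  obtain ⟨a0, ha0, b0, hb0, hbad⟩ := hF.bad1 h hh
  obtain ⟨v, hv, hvS, rfl⟩ := (mem_img α).1 ha
  set e := h * b0 * h⁻¹
  have heS : e ∈ (S : Subgroup G) := conj_A_mem N hF hb0 h
  refine zs_inv N.core α (N.mem_zs_of_commute (ap_mem α.symm heS) (fun hq => hbad ?_) hv ?_)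
  · have he : e ∈ R := (mem_img α).2 ⟨_, hq, ap_mem α.symm heS, symm_ap α heS⟩
    exact (((mem_R N hF).1 he).2 a0 ha0).symm
  · have := ap_comm α.symm heS (ap_mem α hvS) (hc b0 hb0).symm
    rwa [ap_symm α hvS] at this

theorem zs_of_ap {v : G} (hv : v ∈ V) (h : ap α v ∈ zs S) : v ∈ zs S := by
  have := zs_inv N.core α.symm h
  rwa [ap_symm α (N.core.le_S (omega_le hv))] at this

theorem comm_z0 {h : G} (hh : h ∉ M) {a b : G} (ha : a ∈ A) (hb : b ∈ A) :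
    a * (h * b * h⁻¹) * a⁻¹ * (h * b * h⁻¹)⁻¹ ∈ z0 p G := by
  set e := h * b * h⁻¹ with he
  obtain ⟨v, hv, hvS, rfl⟩ := (mem_img α).1 ha
  obtain ⟨w, hw, hwS, rfl⟩ := (mem_img α).1 hb
  have h1 : ap α v * e * (ap α v)⁻¹ * e⁻¹ ∈ zs S := by
    have := (zs S).inv_mem (N.quad_ap α hv (conj_A_mem N hF (ap_mem_img α hw hwS) h))
    rw [← he] at this
    rwa [show (e * ap α v * e⁻¹ * (ap α v)⁻¹)⁻¹ = ap α v * e * (ap α v)⁻¹ * e⁻¹ by group] at this
  have h2 := N.quad_ap α hw (conj_A_mem N hF (ap_mem_img α hv hvS) h⁻¹)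
  rw [← (N.inf_conj h hh)]
  refine ⟨h1, _, h2, ?_⟩
  simp only [MulEquiv.coe_toMonoidHom, MulAut.conj_apply, he]
  group

/-- `S = B R` for `B = hAh⁻¹`. -/
theorem coverB {h : G} (hh : h ∉ M) {s : G} (hs : s ∈ (S : Subgroup G)) :
    ∃ b ∈ A, (h * b * h⁻¹)⁻¹ * s ∈ R := by
  have hVS : ∀ {v}, v ∈ V → v ∈ (S : Subgroup G) := fun hv => N.core.le_S (omega_le hv)
  obtain ⟨v, hv⟩ := Amb.cover N
    (fun v => ⟨h * ap α v * h⁻¹, conj_A_mem N hF (ap_mem_img α v.2 (hVS v.2)) h⟩)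
    ((R).subgroupOf (S : Subgroup G))
    (by rw [Nat.card_congr (subgroupOfEquivOfLe (img_le α _)).toEquiv, card_img α N.core.le_S])
    (fun u v huv => by
      refine zs_of_ap N hF (mul_mem (inv_mem u.2) v.2) (fib1 N hF (Std.not_mem_inv hh)
        (ap_mem_img α (mul_mem (inv_mem u.2) v.2) (hVS (mul_mem (inv_mem u.2) v.2))) fun b hb => ?_)
      have h1 := ((mem_R N hF).1 (mem_subgroupOf.1 huv)).2 b hb
      simp only [Subgroup.coe_mul, Subgroup.coe_inv] at h1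
      have h2 := (show Commute _ _ from h1).map (MulAut.conj h⁻¹).toMonoidHom
      simp only [MulEquiv.coe_toMonoidHom, MulAut.conj_apply] at h2
      rw [show h⁻¹ * ((h * ap α u * h⁻¹)⁻¹ * (h * ap α v * h⁻¹)) * h⁻¹⁻¹ = (ap α u)⁻¹ * ap α v by
        group, ← ap_inv α (hVS u.2), ← ap_mul α ((S : Subgroup G).inv_mem (hVS u.2)) (hVS v.2)] at h2
      exact h2) ⟨s, hs⟩
  exact ⟨_, ap_mem_img α v.2 (hVS v.2), hv⟩

/-- `O_p(G) = A (O_p(G) ∩ hRh⁻¹)`. -/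
theorem coverA {h : G} (hh : h ∉ M) {r : G} (hr : r ∈ Q) :
    ∃ a ∈ A, a⁻¹ * r ∈ Q ⊓ (R).map (MulAut.conj h).toMonoidHom ∧ h⁻¹ * (a⁻¹ * r) * h ∈ Q ⊓ R := by
  have hr' : h⁻¹ * r * h ∈ Q := by simpa using pCore_isNormal.conj_mem r hr h⁻¹
  obtain ⟨b, hb, hbR⟩ := coverB N hF (Std.not_mem_inv hh) (N.core.le_S hr')
  have hQ' : (h⁻¹ * b * h⁻¹⁻¹)⁻¹ * (h⁻¹ * r * h) ∈ Q :=
    mul_mem (inv_mem (pCore_isNormal.conj_mem b (hA N hF hb) h⁻¹)) hr'
  have e : (h⁻¹ * b * h⁻¹⁻¹)⁻¹ * (h⁻¹ * r * h) = h⁻¹ * (b⁻¹ * r) * h := by group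
  rw [e] at hbR hQ'
  exact ⟨b, hb, ⟨(Q).mul_mem ((Q).inv_mem (hA N hF hb)) hr, _, hbR, by simp [mul_assoc]⟩, hQ', hbR⟩

/-- `[O_p(G), A] ≤ C_V(G)`. -/
theorem QA_z0 {r a : G} (hr : r ∈ Q) (ha : a ∈ A) : r * a * r⁻¹ * a⁻¹ ∈ z0 p G := by
  obtain ⟨h, hh⟩ := N.exists_not_mem
  obtain ⟨b, hb, hbR⟩ := coverB N hF hh (N.core.le_S hr)
  set e := h * b * h⁻¹ with he
  set t := e⁻¹ * r with ht
  have htc : t * a = a * t := ((mem_R N hF).1 hbR).2 a ha
  have := (z0 p G).inv_mem (comm_z0 N hF hh ha hb)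
  rw [← he, show (a * e * a⁻¹ * e⁻¹)⁻¹ = e * a * e⁻¹ * a⁻¹ by group] at this
  rwa [show r = e * t by rw [ht]; group, show e * t * a * (e * t)⁻¹ * a⁻¹ =
    e * (t * a) * t⁻¹ * e⁻¹ * a⁻¹ by group, htc, show e * (a * t) * t⁻¹ * e⁻¹ * a⁻¹ =
    e * a * e⁻¹ * a⁻¹ by group]

/-- A twist of a conjugate moves `R` into `C_V(S)`. -/
theorem moveR {h : G} {a : G} (ha : a ∈ A) {r : G} (hr : r ∈ R) :
    ap α (h * a * h⁻¹) * r * (ap α (h * a * h⁻¹))⁻¹ * r⁻¹ ∈ zs S := by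
  obtain ⟨x, hx, hxS, rfl⟩ := (mem_img α).1 hr
  rw [← ap_commutator α (conj_A_mem N hF ha h) hxS]
  refine zs_inv N.core α (z0_le_zs (S := S) ?_)
  have hx' : h⁻¹ * x * h ∈ Q := by simpa using pCore_isNormal.conj_mem x hx h⁻¹
  have := (z0 p G).inv_mem (QA_z0 N hF hx' ha)
  have h2 := z0_normal.conj_mem _ this h
  rwa [show h * (h⁻¹ * x * h * a * (h⁻¹ * x * h)⁻¹ * a⁻¹)⁻¹ * h⁻¹ =
    h * a * h⁻¹ * x * (h * a * h⁻¹)⁻¹ * x⁻¹ by group] at h2

theorem fib2 {h : G} (hh : h ∉ M) {a : G} (ha : a ∈ A) (hq : ap α (h * a * h⁻¹) ∈ Q) :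
    a ∈ zs S := by
  obtain ⟨w0, hw0, b0, hb0, hbad⟩ := hF.bad2 h hh
  have hw0S := N.core.le_S (omega_le hw0)
  have hcS : ap α.symm w0 ∈ Q := hF.inQ α.symm (ap_mem_img α.symm hw0 hw0S)
  set e := h⁻¹ * ap α.symm w0 * h with he
  have heQ : e ∈ Q := by simpa [he] using pCore_isNormal.conj_mem _ hcS h⁻¹
  have hce : Commute (h * a * h⁻¹) (ap α.symm w0) := by
    have := ap_comm α.symm (ap_mem α (conj_A_mem N hF ha h)) hw0S (omega_commute hw0 hq).symm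
    rwa [ap_symm α (conj_A_mem N hF ha h)] at this
  obtain ⟨v, hv, hvS, rfl⟩ := (mem_img α).1 ha
  refine zs_inv N.core α (N.mem_zs_of_commute (ap_mem α.symm (N.core.le_S heQ)) (fun h' => hbad ?_)
    hv ?_)
  · have heR : e ∈ R := (mem_img α).2 ⟨_, h', ap_mem α.symm (N.core.le_S heQ),
      symm_ap α (N.core.le_S heQ)⟩
    have h1 := (show Commute _ _ from ((mem_R N hF).1 heR).2 b0 hb0).map (MulAut.conj h).toMonoidHom
    simp only [MulEquiv.coe_toMonoidHom, MulAut.conj_apply, he] at h1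
    rw [show h * (h⁻¹ * ap α.symm w0 * h) * h⁻¹ = ap α.symm w0 by group] at h1
    have := ap_comm α (ap_mem α.symm hw0S) (conj_A_mem N hF hb0 h) h1.eq
    rw [symm_ap α hw0S] at this
    exact this.symm
  · have h1 := hce.map (MulAut.conj h⁻¹).toMonoidHom
    simp only [MulEquiv.coe_toMonoidHom, MulAut.conj_apply, inv_inv] at h1
    rw [show h⁻¹ * (h * ap α v * h⁻¹) * h = ap α v by group, ← he] at h1
    have := ap_comm α.symm (ap_mem α hvS) (N.core.le_S heQ) h1.eq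
    rw [ap_symm α hvS] at this
    exact this.symm

/-- `S = X O_p(G)` for `X` the twist of `hAh⁻¹`. -/
theorem coverX {h : G} (hh : h ∉ M) {s : G} (hs : s ∈ (S : Subgroup G)) :
    ∃ a ∈ A, (ap α (h * a * h⁻¹))⁻¹ * s ∈ Q := by
  have hVS : ∀ {v}, v ∈ V → v ∈ (S : Subgroup G) := fun hv => N.core.le_S (omega_le hv)
  obtain ⟨v, hv⟩ := Amb.cover N
    (fun v => ⟨ap α (h * ap α v * h⁻¹),
      ap_mem α (conj_A_mem N hF (ap_mem_img α v.2 (hVS v.2)) h)⟩)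
    ((Q).subgroupOf (S : Subgroup G)) (Nat.card_congr (subgroupOfEquivOfLe N.core.le_S).toEquiv)
    (fun u v huv => by
      refine zs_of_ap N hF (mul_mem (inv_mem u.2) v.2) (fib2 N hF hh
        (ap_mem_img α (mul_mem (inv_mem u.2) v.2) (hVS (mul_mem (inv_mem u.2) v.2))) ?_)
      have h1 := mem_subgroupOf.1 huv
      simp only [Subgroup.coe_mul, Subgroup.coe_inv] at h1
      have hu := conj_A_mem N hF (ap_mem_img α u.2 (hVS u.2)) h
      rw [← ap_inv α hu, ← ap_mul α ((S : Subgroup G).inv_mem hu)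
        (conj_A_mem N hF (ap_mem_img α v.2 (hVS v.2)) h)] at h1
      rwa [ap_mul α ((S : Subgroup G).inv_mem (hVS u.2)) (hVS v.2), ap_inv α (hVS u.2),
        show h * ((ap α u)⁻¹ * ap α v) * h⁻¹ = (h * ap α u * h⁻¹)⁻¹ * (h * ap α v * h⁻¹) by group])
    ⟨s, hs⟩
  exact ⟨_, ap_mem_img α v.2 (hVS v.2), hv⟩

end Far

end CfsgLib.PushL2
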